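import Groth.Agent.L29.BCAdj.ScalarPush
import Groth.Agent.L29.BC.Affine
import Groth.Agent.L29.DCoh.FreeIso
import Groth.Agent.L22.AffineDescent
import Mathlib.Algebra.Homology.DerivedCategory.KProjective

/-!
Endomorphisms of `O` in the derived category of an affine scheme, and their flat base change.
-/

set_option autoImplicit false
set_option backward.defeqAttrib.useBackward true
set_option backward.isDefEq.respectTransparency false
set_option backward.isDefEq.respectTransparency.types false

universe u

open CategoryTheory CategoryTheory.Limits AlgebraicGeometry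
open scoped TensorProduct

attribute [local instance] HasDerivedCategory.standard

namespace Groth.L29.BCAdj

open Groth.L00 Groth.L29.DC

variable (X : Scheme.{u})

/-- `O` in degree `0` -/
noncomputable abbrev OD : DCoh.D X := (DerivedCategory.singleFunctor X.Modules 0).obj (Coh.structureModule X)

/-- global functions as endomorphisms of `O` -/
noncomputable def θ (r : Coh.Γtop X) : OD X ⟶ OD X :=
  (DerivedCategory.singleFunctor X.Modules 0).map (Formal.smulModΓ (Coh.structureModule X) r)

theorem smulModΓ_val (r : Coh.Γtop X) :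
    (Formal.smulModΓ (Coh.structureModule X) r).app ⊤ (1 : Γ(X, ⊤)) = (r : Γ(X, ⊤)) := by
  refine (KLin.smulModΓ_app_apply (Coh.structureModule X) r ⊤ (1 : Γ(X, ⊤))).trans ?_
  rw [Subsingleton.elim (homOfLE (le_top : (⊤ : X.Opens) ≤ ⊤)) (𝟙 _), op_id, CategoryTheory.Functor.map_id]
  change (r : Γ(X, ⊤)) * 1 = r
  exact mul_one _

theorem θ_bijective : Function.Bijective (θ X) := by
  let s : (DerivedCategory.singleFunctor X.Modules 0).FullyFaithful := Functor.FullyFaithful.ofFullyFaithful _
  have h : Function.Bijective (fun r : Coh.Γtop X => Formal.smulModΓ (Coh.structureModule X) r) := by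
    refine ⟨fun a b hab => ?_, fun u => ⟨u.app ⊤ (1 : Γ(X, ⊤)), ?_⟩⟩
    · rw [← smulModΓ_val X a, ← smulModΓ_val X b]
      exact congrArg (fun t : Coh.structureModule X ⟶ Coh.structureModule X => t.app ⊤ (1 : Γ(X, ⊤))) hab
    · exact unit_hom_ext _ _ (smulModΓ_val X _)
  exact (s.map_bijective _ _).comp h

theorem θ_add (a b : Coh.Γtop X) : θ X (a + b) = θ X a + θ X b := by
  rw [θ, KLin.smulModΓ_add, Functor.map_add]; rfl

theorem θ_mul (a b : Coh.Γtop X) : θ X (a * b) = θ X a ≫ θ X b := by
  rw [θ, KLin.smulModΓ_mul, Functor.map_comp]; rfl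

theorem θ_smul {A : Type u} [CommRing A] [X.Over (Spec (CommRingCat.of A))] (a : A) :
    a • 𝟙 (OD X) = θ X (Coh.toGlobal (X ↘ Spec (CommRingCat.of A)) a) := by
  have h1 : a • 𝟙 ((HomologicalComplex.single X.Modules (ComplexShape.up ℤ) 0).obj (Coh.structureModule X)) =
      (HomologicalComplex.single X.Modules (ComplexShape.up ℤ) 0).map (a • 𝟙 (Coh.structureModule X)) := by
    refine HomologicalComplex.from_single_hom_ext ?_
    change a • _ = _
    rw [HomologicalComplex.single_map_f_self, Linear.smul_comp, Category.id_comp, Linear.comp_smul,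
      Iso.hom_inv_id, HomologicalComplex.id_f]
  let E := ((SingleFunctors.evaluation _ _ 0).mapIso
    (DerivedCategory.singleFunctorsPostcompQIso X.Modules))
  have h2 := E.hom.naturality (a • 𝟙 (Coh.structureModule X))
  rw [θ, ← cancel_mono (E.hom.app (Coh.structureModule X))]
  have h3 : Formal.smulModΓ (Coh.structureModule X) (Coh.toGlobal (X ↘ Spec (CommRingCat.of A)) a) =
      a • 𝟙 (Coh.structureModule X) := (KLin.smul_id _ a).symm
  rw [h3]
  refine Eq.trans ?_ h2.symm
  have h4 : (DerivedCategory.Q.map ((HomologicalComplex.single X.Modules (ComplexShape.up ℤ) 0).map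
      (a • 𝟙 (Coh.structureModule X)))) = a • 𝟙 _ := by
    rw [← h1, Functor.map_smul, CategoryTheory.Functor.map_id]
  change _ = E.hom.app _ ≫ DerivedCategory.Q.map _
  erw [h4]
  rw [Linear.smul_comp, Category.id_comp, Linear.comp_smul]
  erw [Category.comp_id]

/-- no higher or lower maps from `O` to `O` on an affine scheme -/
theorem hom_shift_eq_zero [IsAffine X] {d : ℤ} (hd : d ≠ 0) (v : OD X ⟶ (OD X)⟦d⟧) : v = 0 := by
  let R : CommRingCat.{u} := Γ(X, ⊤)
  haveI := Groth.L18.TildeF.tilde_preservesFiniteLimits (R := R)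
  haveI := (TildeD.fullyFaithful (R := R)).1
  haveI := (TildeD.fullyFaithful (R := R)).2
  let s : X ⟶ Spec R := X.isoSpec.hom
  haveI := Gen.isIso_unit_of_surjective s s.surjective
  haveI : (DCoh.restrictD s).Faithful := (Cpt.restrictRpushAdj s).fullyFaithfulLOfIsIsoUnit.faithful
  haveI : (DCoh.restrictD s).Full := (Cpt.restrictRpushAdj s).fullyFaithfulLOfIsIsoUnit.full
  let Φ := DCoh.tildeD R ⋙ DCoh.restrictD s
  let M := ModuleCat.of R R
  let S := (HomologicalComplex.single (ModuleCat.{u} R) (ComplexShape.up ℤ) 0).obj M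
  haveI : CochainComplex.IsKProjective S := by
    haveI : ∀ i, Projective (S.X i) := fun i => by
      rcases eq_or_ne i 0 with rfl | hi
      · exact Projective.of_iso (HomologicalComplex.singleObjXSelf (ComplexShape.up ℤ) 0 M).symm
          ((IsProjective.iff_projective M).1 inferInstance)
      · exact (HomologicalComplex.isZero_single_obj_X (ComplexShape.up ℤ) 0 M i hi).projective
    exact CochainComplex.isKProjective_of_projective S 0
  let e : Φ.obj (DerivedCategory.Q.obj S) ≅ OD X :=
    Φ.mapIso (((SingleFunctors.evaluation _ _ 0).mapIso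
        (DerivedCategory.singleFunctorsPostcompQIso (ModuleCat.{u} R))).app M).symm ≪≫
      (DCoh.restrictD s).mapIso (((tilde.functor R).mapDerivedCategorySingleFunctor 0).app M) ≪≫
      ((Scheme.Modules.restrictFunctor s).mapDerivedCategorySingleFunctor 0).app _ ≪≫
      (DerivedCategory.singleFunctor X.Modules 0).mapIso
        ((Scheme.Modules.restrictFunctor s).mapIso (tildeSelf (R := R)) ≪≫ Scheme.Modules.restrictUnitIso s)
  obtain ⟨w, hw⟩ := Φ.map_surjective (e.hom ≫ v ≫ e.inv⟦d⟧' ≫ ((Φ.commShiftIso d).app _).inv)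
  suffices w = 0 by
    rw [this, Functor.map_zero] at hw
    have h0 : e.hom ≫ v ≫ e.inv⟦d⟧' ≫ ((Φ.commShiftIso d).app _).inv = e.hom ≫ 0 := by rw [comp_zero, ← hw]
    have h1 := (cancel_epi _).1 h0
    rw [← cancel_mono (e.inv⟦d⟧' ≫ ((Φ.commShiftIso d).app _).inv), h1, zero_comp]
  obtain ⟨q, hq⟩ := (CochainComplex.IsKProjective.Qh_map_bijective S
    ((HomotopyCategory.quotient (ModuleCat.{u} R) (ComplexShape.up ℤ)).obj (S⟦d⟧))).surjective
      (((DerivedCategory.quotientCompQhIso _).app S).hom ≫ w ≫ ((DerivedCategory.Q.commShiftIso d).app S).inv ≫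
        ((DerivedCategory.quotientCompQhIso _).app (S⟦d⟧)).inv)
  obtain ⟨q₀, rfl⟩ := (HomotopyCategory.quotient (ModuleCat.{u} R) (ComplexShape.up ℤ)).map_surjective q
  have hz : q₀ = 0 := HomologicalComplex.hom_ext _ _ fun i => by
    rcases eq_or_ne i 0 with rfl | hi
    · exact (HomologicalComplex.isZero_single_obj_X (ComplexShape.up ℤ) 0 M (0 + d) (by omega)).eq_of_tgt _ _
    · exact (HomologicalComplex.isZero_single_obj_X (ComplexShape.up ℤ) 0 M i hi).eq_of_src _ _
  rw [hz, Functor.map_zero, Functor.map_zero] at hq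
  have h0 : ((DerivedCategory.quotientCompQhIso _).app S).hom ≫ w ≫ ((DerivedCategory.Q.commShiftIso d).app S).inv ≫
      ((DerivedCategory.quotientCompQhIso _).app (S⟦d⟧)).inv =
      ((DerivedCategory.quotientCompQhIso _).app S).hom ≫ 0 := hq.symm.trans comp_zero.symm
  have h1 := (cancel_epi _).1 h0
  rw [← cancel_mono (((DerivedCategory.Q.commShiftIso d).app S).inv ≫
      ((DerivedCategory.quotientCompQhIso _).app (S⟦d⟧)).inv), h1, zero_comp]

end Groth.L29.BCAdj
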