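import Groth.Agent.L29.BCAdj.AffineUnit
import Groth.Agent.L29.BC.Global
import Groth.Agent.L29.BC.Localizing
import Groth.Agent.L29.DCoh.Gen.PerfBuilt

/-!
Flat base change of Hom groups out of perfect objects.
-/

set_option autoImplicit false
set_option backward.defeqAttrib.useBackward true
set_option backward.isDefEq.respectTransparency false
set_option backward.isDefEq.respectTransparency.types false

universe u v v' w w'

open CategoryTheory CategoryTheory.Limits CategoryTheory.Pretriangulated AlgebraicGeometry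
open scoped TensorProduct

attribute [local instance] HasDerivedCategory.standard

namespace Groth.L29.BCAdj

section Square

variable {A B : Type u} [CommRing A] [CommRing B] [Algebra A B]
  {C : Type w} [Category.{v} C] [Preadditive C] [Linear A C]
  {C' : Type w'} [Category.{v'} C'] [Preadditive C'] [Linear B C']

/-- bijectivity through a commutative square -/
theorem bij_of_square {C₂ : Type w} [Category.{v} C₂] [Preadditive C₂] [Linear A C₂]
    {C₂' : Type w'} [Category.{v'} C₂'] [Preadditive C₂'] [Linear B C₂']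
    {L : C ⥤ C'} [L.Additive] {hL : SL (algebraMap A B) L} {L₂ : C₂ ⥤ C₂'} [L₂.Additive]
    {hL₂ : SL (algebraMap A B) L₂} {P x : C} {P₂ x₂ : C₂} (fA : (P ⟶ x) →ₗ[A] (P₂ ⟶ x₂))
    (hf : Function.Bijective fA) (g : (L.obj P ⟶ L.obj x) →+ (L₂.obj P₂ ⟶ L₂.obj x₂)) (hg : Function.Bijective g)
    (h : ∀ (b : B) (v : P ⟶ x), g (b • L.map v) = b • L₂.map (fA v)) (h₂ : Bij L₂ hL₂ P₂ x₂) :
    Bij L hL P x := by
  have key : ∀ z, g (T L hL P x z) = T L₂ hL₂ P₂ x₂ (fA.lTensor B z) := fun z => by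
    induction z using TensorProduct.induction_on with
    | zero => simp
    | tmul b v => rw [LinearMap.lTensor_tmul, T_tmul, T_tmul, h]
    | add a c ha hc => simp [ha, hc]
  have hl : Function.Bijective (fA.lTensor B) := ((LinearEquiv.ofBijective fA hf).lTensor B).bijective
  have h3 : Function.Bijective (g ∘ T L hL P x) := by
    rw [show (g ∘ T L hL P x : _ → _) = T L₂ hL₂ P₂ x₂ ∘ fA.lTensor B from funext key]
    exact h₂.comp hl
  exact (hg.of_comp_iff' _).1 h3

variable [HasShift C ℤ] [∀ n : ℤ, (shiftFunctor C n).Additive] [∀ n : ℤ, (shiftFunctor C n).Linear A]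
  [HasShift C' ℤ] [∀ n : ℤ, (shiftFunctor C' n).Additive] [∀ n : ℤ, (shiftFunctor C' n).Linear B]

/-- bijectivity does not change under shifting both variables -/
theorem Bij.shift {L : C ⥤ C'} [L.Additive] [L.CommShift ℤ] {hL : SL (algebraMap A B) L} {P x : C} (m : ℤ)
    (h : Bij L hL (P⟦m⟧) (x⟦m⟧)) : Bij L hL P x := by
  let a := (L.commShiftIso m).app P
  let b := (L.commShiftIso m).app x
  refine bij_of_square ((shiftFunctor C m).mapLinearMap A)
    ⟨(shiftFunctor C m).map_injective, (shiftFunctor C m).map_surjective⟩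
    (AddMonoidHom.mk' (fun w => a.hom ≫ w⟦m⟧' ≫ b.inv) fun w w' => by simp [Functor.map_add])
    ⟨fun w w' hw => ?_, fun w => ?_⟩ (fun c v => ?_) h
  · simp only [AddMonoidHom.mk'_apply, cancel_epi, cancel_mono] at hw
    exact (shiftFunctor C' m).map_injective hw
  · obtain ⟨w', hw'⟩ := (shiftFunctor C' m).map_surjective (a.inv ≫ w ≫ b.hom)
    exact ⟨w', by simp [hw']⟩
  · simp only [AddMonoidHom.mk'_apply, Functor.map_smul, Linear.smul_comp, Linear.comp_smul]
    congr 1
    have h1 := (L.commShiftIso m).hom.naturality v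
    dsimp at h1
    change a.hom ≫ (L.map v)⟦m⟧' ≫ b.inv = L.map (v⟦m⟧')
    refine ((Category.assoc _ _ _).symm.trans (congrArg (· ≫ b.inv) h1.symm)).trans ?_
    simp [b]

end Square

open Groth.L00 Groth.L29.DC Groth.L29.Thick

variable {A B : Type u} [CommRing A] [CommRing B] [Algebra A B] [Module.Flat A B]

theorem square_of_isPullback {X X' : Scheme.{u}} [X.Over (Spec (CommRingCat.of A))] [X'.Over (Spec (CommRingCat.of B))]
    {g' : X' ⟶ X}
    (hc : IsPullback g' (X' ↘ Spec (CommRingCat.of B)) (X ↘ Spec (CommRingCat.of A))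
      (Spec.map (CommRingCat.ofHom (algebraMap A B)))) :
    g' ≫ (X ↘ Spec (CommRingCat.of A)) =
      (X' ↘ Spec (CommRingCat.of B)) ≫ Spec.map (CommRingCat.ofHom (algebraMap A B)) := hc.w

section Affine

variable {X X' : Scheme.{u}} [IsAffine X] [IsAffine X'] [X.Over (Spec (CommRingCat.of A))]
  [X'.Over (Spec (CommRingCat.of B))] {g' : X' ⟶ X} [DCoh.HasRpush g'] [DCoh.HasLpull g']
  (hc : IsPullback g' (X' ↘ Spec (CommRingCat.of B)) (X ↘ Spec (CommRingCat.of A))
    (Spec.map (CommRingCat.ofHom (algebraMap A B))))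

include hc in
theorem bij_unit (hL : SL (C := DCoh.D X) (C' := DCoh.D X') (algebraMap A B) (DCoh.Lpull g'))
    [(DCoh.Lpull g').Additive] (e : (DCoh.Lpull g').obj (OD X) ≅ OD X') :
    Bij (DCoh.Lpull g') hL (OD X) (OD X) := by
  letI iA : Algebra A (Γ(X, ⊤)) := (Coh.toGlobal (X ↘ Spec (CommRingCat.of A)) : A →+* Γ(X, ⊤)).toAlgebra
  letI iB : Algebra B (Γ(X', ⊤)) := (Coh.toGlobal (X' ↘ Spec (CommRingCat.of B)) : B →+* Γ(X', ⊤)).toAlgebra
  haveI hS : Flat (Spec.map (CommRingCat.ofHom (algebraMap A B))) := by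
    rw [HasRingHomProperty.Spec_iff (P := @Flat)]
    exact RingHom.flat_algebraMap_iff.2 inferInstance
  -- pullback of scalar endomorphisms
  have hpull : ∀ r : Γ(X, ⊤), (DCoh.Lpull g').map (θ X r) = e.hom ≫ θ X' (g'.appTop r) ≫ e.inv := fun r => by
    letI : X.Over (Spec (CommRingCat.of Γ(X, ⊤))) := ⟨X.toSpecΓ⟩
    letI : X'.Over (Spec (CommRingCat.of Γ(X', ⊤))) := ⟨X'.toSpecΓ⟩
    have hX : ∀ (Z : Scheme.{u}) (s : Γ(Z, ⊤)), (Coh.toGlobal (A := Γ(Z, ⊤)) Z.toSpecΓ) s = s := fun Z s => by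
      change Z.toSpecΓ.appTop ((Scheme.ΓSpecIso Γ(Z, ⊤)).inv s) = s
      rw [Scheme.toSpecΓ_appTop, ← CommRingCat.comp_apply, Iso.inv_hom_id, CommRingCat.id_apply]
    have h := (sl_Lpull (A := Γ(X, ⊤)) (B := Γ(X', ⊤)) g'.appTop.hom g'
      (Scheme.toSpecΓ_naturality g')).map_smul r (𝟙 (OD X))
    rw [θ_smul, CategoryTheory.Functor.map_id] at h
    have e1 : θ X r = θ X (Coh.toGlobal (X ↘ Spec (CommRingCat.of Γ(X, ⊤))) r) := congrArg (θ X) (hX X r).symm
    have e2 : θ X' (g'.appTop r) = g'.appTop.hom r • 𝟙 (OD X') :=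
      (congrArg (θ X') (hX X' (g'.appTop r)).symm).trans (θ_smul X' (g'.appTop.hom r)).symm
    rw [e1, h, e2, Linear.smul_comp, Category.id_comp, Linear.comp_smul, e.hom_inv_id]
  -- the pushout of rings
  have hp : IsPushout (X ↘ Spec (CommRingCat.of A)).appTop (Spec.map (CommRingCat.ofHom (algebraMap A B))).appTop
      g'.appTop (X' ↘ Spec (CommRingCat.of B)).appTop := Groth.L22.AffDesc.isPushout_appTop hc
  have hp' : IsPushout (CommRingCat.ofHom (algebraMap A (Γ(X, ⊤)))) (CommRingCat.ofHom (algebraMap A B))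
      (g'.appTop : CommRingCat.of (Γ(X, ⊤)) ⟶ CommRingCat.of (Γ(X', ⊤)))
      (CommRingCat.ofHom (algebraMap B (Γ(X', ⊤)))) := by
    refine hp.of_iso (Scheme.ΓSpecIso (CommRingCat.of A)) (Iso.refl _) (Scheme.ΓSpecIso (CommRingCat.of B))
      (Iso.refl _) ?_ ?_ ?_ ?_
    · rw [Iso.refl_hom, Category.comp_id]
      ext a
      exact congrArg (X ↘ Spec (CommRingCat.of A)).appTop
        (ConcreteCategory.congr_hom (Scheme.ΓSpecIso (CommRingCat.of A)).hom_inv_id a).symm
    · exact Scheme.ΓSpecIso_naturality _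
    · rw [Iso.refl_hom, Category.comp_id]; rfl
    · rw [Iso.refl_hom, Category.comp_id]
      ext b
      exact congrArg (X' ↘ Spec (CommRingCat.of B)).appTop
        (ConcreteCategory.congr_hom (Scheme.ΓSpecIso (CommRingCat.of B)).hom_inv_id b).symm
  letI iRR : Algebra (Γ(X, ⊤)) (Γ(X', ⊤)) := g'.appTop.hom.toAlgebra
  letI iAR : Algebra A (Γ(X', ⊤)) := ((algebraMap B (Γ(X', ⊤))).comp (algebraMap A B)).toAlgebra
  haveI : IsScalarTower A B (Γ(X', ⊤)) := IsScalarTower.of_algebraMap_eq fun _ => rfl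
  haveI : IsScalarTower A (Γ(X, ⊤)) (Γ(X', ⊤)) :=
    IsScalarTower.of_algebraMap_eq fun a => (ConcreteCategory.congr_hom hp'.w a).symm
  haveI : Algebra.IsPushout A B (Γ(X, ⊤)) (Γ(X', ⊤)) := CommRingCat.isPushout_iff_isPushout.1 hp'.flip
  let Θ : Γ(X, ⊤) →ₗ[A] (OD X ⟶ OD X) :=
    { toFun := θ X
      map_add' := θ_add X
      map_smul' := fun a r => by
        change θ X (algebraMap A (Γ(X, ⊤)) a * r) = a • θ X r
        rw [θ_mul, show θ X (algebraMap A (Γ(X, ⊤)) a) = a • 𝟙 (OD X) from (θ_smul X a).symm, Linear.smul_comp,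
          Category.id_comp] }
  have hΘ : Function.Bijective (Θ.lTensor B) := ((LinearEquiv.ofBijective Θ (θ_bijective X)).lTensor B).bijective
  let pe := Algebra.IsPushout.equiv A B (Γ(X, ⊤)) (Γ(X', ⊤))
  have key : ∀ z : B ⊗[A] Γ(X, ⊤),
      T (DCoh.Lpull g') hL (OD X) (OD X) (Θ.lTensor B z) = e.hom ≫ θ X' (pe z) ≫ e.inv := fun z => by
    induction z using TensorProduct.induction_on with
    | zero =>
      have h0 : θ X' 0 = 0 := by
        have := θ_add X' 0 0
        rw [add_zero] at this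
        exact left_eq_add.1 this
      simp [h0]
    | tmul b r =>
      rw [LinearMap.lTensor_tmul, T_tmul]
      change b • (DCoh.Lpull g').map (θ X r) = _
      rw [hpull r, show pe (b ⊗ₜ r) = algebraMap B (Γ(X', ⊤)) b * algebraMap (Γ(X, ⊤)) (Γ(X', ⊤)) r from
        Algebra.IsPushout.equiv_tmul _ _ _ _ b r, θ_mul,
        show θ X' (algebraMap B (Γ(X', ⊤)) b) = b • 𝟙 (OD X') from (θ_smul X' b).symm, Linear.smul_comp,
        Category.id_comp, Linear.smul_comp, Linear.comp_smul]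
      rfl
    | add a c ha hc =>
      rw [map_add, map_add, ha, hc, map_add, θ_add, Preadditive.add_comp, Preadditive.comp_add]
  have h3 : Function.Bijective (T (DCoh.Lpull g') hL (OD X) (OD X) ∘ Θ.lTensor B) := by
    rw [show (T (DCoh.Lpull g') hL (OD X) (OD X) ∘ Θ.lTensor B : _ → _) =
      (fun u => e.hom ≫ u ≫ e.inv) ∘ θ X' ∘ pe from funext key]
    refine Function.Bijective.comp ?_ ((θ_bijective X').comp pe.bijective)
    exact ⟨fun u u' h => by simpa using h, fun u => ⟨e.inv ≫ u ≫ e.hom, by simp⟩⟩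
  exact (Function.Bijective.of_comp_iff _ hΘ).1 h3

/-- `Lg'^* O = O` -/
theorem nonempty_Lpull_OD {Z Z' : Scheme.{u}} (k : Z' ⟶ Z) [DCoh.HasLpull k] :
    Nonempty ((DCoh.Lpull k).obj (OD Z) ≅ OD Z') := by
  let O := (HomologicalComplex.single Z.Modules (ComplexShape.up ℤ) 0).obj (Coh.structureModule Z)
  have hO : DCoh.IsKFlat O := KFlat.single _ (isFlat_structureModule Z) 0
  haveI : (Scheme.Modules.pullback k).Additive :=
    (Scheme.Modules.pullbackPushforwardAdjunction k).left_adjoint_additive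
  exact ⟨(DCoh.Lpull k).mapIso (((SingleFunctors.evaluation _ _ 0).mapIso
      (DerivedCategory.singleFunctorsPostcompQIso Z.Modules)).app (Coh.structureModule Z)) ≪≫
    DerivedApi.objIso (DerivedApi.acyclicKFlat_pullback k) O hO ≪≫
    DerivedCategory.Q.mapIso ((HomologicalComplex.singleMapHomologicalComplex (Scheme.Modules.pullback k)
      (ComplexShape.up ℤ) 0).app _ ≪≫
      (HomologicalComplex.single Z'.Modules (ComplexShape.up ℤ) 0).mapIso (Groth.L29.LocFree.pullbackUnitIso k)) ≪≫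
    (((SingleFunctors.evaluation _ _ 0).mapIso
      (DerivedCategory.singleFunctorsPostcompQIso Z'.Modules)).app (Coh.structureModule Z')).symm⟩

include hc in
set_option maxHeartbeats 800000 in
/-- the affine case -/
theorem bij_affine (hL : SL (C := DCoh.D X) (C' := DCoh.D X') (algebraMap A B) (DCoh.Lpull g'))
    [(DCoh.Lpull g').Additive] {P x : DCoh.D X} (hP : DCoh.IsPerfect P) (hx : DCoh.IsQCohD x) :
    Bij (DCoh.Lpull g') hL P x := by
  letI := BC.commShiftLpull g'
  haveI := BC.isTriangulated_Lpull g'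
  obtain ⟨e⟩ := nonempty_Lpull_OD g'
  let e' : ∀ d : ℤ, (DCoh.Lpull g').obj ((OD X)⟦d⟧) ≅ (OD X')⟦d⟧ := fun d =>
    ((DCoh.Lpull g').commShiftIso d).app _ ≪≫ (CategoryTheory.shiftFunctor _ d).mapIso e
  have hbase : ∀ d : ℤ, Bij (DCoh.Lpull g') hL (OD X) ((OD X)⟦d⟧) := fun d => by
    rcases eq_or_ne d 0 with rfl | hd
    · exact (bij_unit hc hL e).of_iso_right _ _ ((shiftFunctorZero (DCoh.D X) ℤ).app _).symm
    · refine ⟨fun a b _ => ?_, fun v => ⟨0, ?_⟩⟩
      · have hz : ∀ z : B ⊗[A] (OD X ⟶ (OD X)⟦d⟧), z = 0 := fun z => by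
          induction z using TensorProduct.induction_on with
          | zero => rfl
          | tmul b v => rw [hom_shift_eq_zero X hd v, TensorProduct.tmul_zero]
          | add a c ha hc => rw [ha, hc, add_zero]
        rw [hz a, hz b]
      · have h0 := hom_shift_eq_zero X' hd (e.inv ≫ v ≫ (e' d).hom)
        have h1 : e.inv ≫ v ≫ (e' d).hom = e.inv ≫ 0 ≫ (e' d).hom := by rw [h0, zero_comp, comp_zero]
        rw [map_zero]
        exact ((cancel_mono _).1 ((cancel_epi _).1 h1)).symm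
  -- all quasi-coherent objects
  obtain ⟨G, hG, hgen, ⟨eG⟩⟩ := BC.exists_unit_generator X
  haveI := Gen.locallySmall_D X
  haveI : HasCoproducts.{u} (DCoh.D X) := Gen.hasCoproducts_D _
  haveI : HasColimitsOfShape (Discrete ℕ) (DCoh.D X) :=
    hasColimitsOfShape_of_equivalence (Discrete.equivalence (Equiv.ulift.{u} : ULift.{u} ℕ ≃ ℕ))
  haveI : ∀ (Y : DCoh.D X) (n : ℤ), Small.{u} (G⟦n⟧ ⟶ Y) := fun Y n => inferInstance
  have hGq := PCQCoh.isQCohD_of_perfect hG
  have hO : DCoh.IsPerfect (OD X) := isPerfect_of_iso eG hG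
  have hall : ∀ y : DCoh.D X, DCoh.IsQCohD y → ∀ n : ℤ, Bij (DCoh.Lpull g') hL (OD X) (y⟦n⟧) := fun y hy => by
    refine BC.localizing_top (fun y => ∀ n : ℤ, Bij (DCoh.Lpull g') hL (OD X) (y⟦n⟧))
      (DCoh.IsQCohD (X := X)) (fun e h n => (h n).of_iso_right _ _ ((CategoryTheory.shiftFunctor _ n).mapIso e))
      (fun m n => ?_) (fun {ι} C hC h n => ?_) (fun T hT _ _ h₁ h₂ n => ?_)
      (fun n => Gen.isQCohD_shift hGq n) (fun {ι} C hC => QCohColim.isQCohD_coproduct C hC) (fun C hC => ?_)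
      (fun T hT h₁ h₂ => Gen.isQCohD_third T hT h₁ h₂) (fun n => Gen.cpt_of_perfect (perfect_shift hG n))
      hgen hy
    · exact (hbase (m + n)).of_iso_right _ _
        ((shiftFunctor _ (m + n)).mapIso eG.symm ≪≫ (shiftFunctorAdd _ m n).app G)
    · haveI := Gen.hasCoproducts_D X ι
      haveI := Gen.hasCoproducts_D X' ι
      haveI : (DCoh.Lpull g').IsLeftAdjoint := ⟨_, ⟨BC.adj g'⟩⟩
      refine Bij.of_iso_right _ _ (asIso (sigmaComparison (CategoryTheory.shiftFunctor (DCoh.D X) n) C)) ?_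
      exact Bij.coproduct _ _ (S := DCoh.IsQCohD (X := X)) (S' := DCoh.IsQCohD (X := X'))
        (Gen.cpt_of_perfect hO) (Gen.cpt_of_perfect (isPerfect_Lpull g' hO)) _
        (fun i => Gen.isQCohD_shift (hC i) n)
        (fun i => Groth.Agent.S1054.result g' _ (Gen.isQCohD_shift (hC i) n)) fun i => h i n
    · exact Bij.third_right _ _ _ (Triangle.shift_distinguished _ hT n) _ (h₁ n) (h₂ n)
        ((h₁ (n + 1)).of_iso_right _ _ ((shiftFunctorAdd _ n (1 : ℤ)).app T.obj₁))
        ((h₂ (n + 1)).of_iso_right _ _ ((shiftFunctorAdd _ n (1 : ℤ)).app T.obj₂))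
    · refine isQCohD_of_iso ?_ (QCohColim.isQCohD_coproduct (fun n : ULift.{u} ℕ => C n.down) fun n => hC n.down)
      exact Sigma.whiskerEquiv (f := fun n : ULift.{u} ℕ => C n.down) (g := C) Equiv.ulift.{u} fun n => Iso.refl _
  -- all perfect objects
  let Q : DCoh.D X → Prop := fun P => ∀ (m : ℤ) (y : DCoh.D X), DCoh.IsQCohD y → Bij (DCoh.Lpull g') hL (P⟦m⟧) y
  obtain ⟨P₀, hP₀, ⟨r⟩⟩ := Gen.exists_retract_of_generator hG hgen hP
  have hQ : Q P₀ := by
    clear r
    induction hP₀ with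
    | gen n =>
      intro m y hy
      refine Bij.of_iso_left _ _ ((CategoryTheory.shiftFunctor _ (n + m)).mapIso eG.symm ≪≫ (shiftFunctorAdd _ n m).app G) ?_
      refine Bij.shift (-(n + m)) ?_
      exact (hall y hy (-(n + m))).of_iso_left _ _
        ((shiftFunctorCompIsoId (DCoh.D X) (n + m) (-(n + m)) (by omega)).app (OD X)).symm
    | zero h =>
      intro m y _
      have hz := (CategoryTheory.shiftFunctor (DCoh.D X) m).map_isZero h
      refine ⟨fun a b _ => ?_, fun v => ⟨0, ?_⟩⟩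
      · have h0 : ∀ z : B ⊗[A] (_ ⟶ y), z = 0 := fun z => by
          induction z using TensorProduct.induction_on with
          | zero => rfl
          | tmul b v => rw [hz.eq_of_src v 0, TensorProduct.tmul_zero]
          | add a c ha hc => rw [ha, hc, add_zero]
        rw [h0 a, h0 b]
      · exact ((DCoh.Lpull g').map_isZero hz).eq_of_src _ _
    | ext T hT _ _ h₁ h₃ =>
      intro m y hy
      exact Bij.middle_left _ _ _ (Triangle.shift_distinguished _ hT m) y (h₁ m y hy) (h₃ m y hy)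
        ((h₃ (m + (-1)) y hy).of_iso_left _ _ ((shiftFunctorAdd _ m (-1 : ℤ)).app T.obj₃))
        ((h₁ (m + 1) y hy).of_iso_left _ _ ((shiftFunctorAdd _ m (1 : ℤ)).app T.obj₁))
    | iso e _ h =>
      intro m y hy
      exact (h m y hy).of_iso_left _ _ ((CategoryTheory.shiftFunctor _ m).mapIso e)
  exact ((hQ 0 x hx).of_iso_left _ _ ((shiftFunctorZero (DCoh.D X) ℤ).app P₀)).retract_left _ _ r

end Affine

end Groth.L29.BCAdj
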