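import Groth.Agent.L29.BCAdj.SemiLinear
import Groth.Agent.L29.BC.SupportAdj
import Groth.Agent.L29.BC.UnivShift
import Groth.Agent.L29.BC.Adj
import Groth.Prelude.Def_KLin

/-!
Derived direct images are semilinear over ring maps of bases; so are derived pullbacks.
-/

set_option autoImplicit false
set_option backward.defeqAttrib.useBackward true
set_option backward.isDefEq.respectTransparency false
set_option backward.isDefEq.respectTransparency.types false

universe u

open CategoryTheory CategoryTheory.Limits AlgebraicGeometry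

attribute [local instance] HasDerivedCategory.standard

namespace Groth.L29.BCAdj

open Groth.L00 Groth.L29.DC

variable {A B : Type u} [CommRing A] [CommRing B] {X Y : Scheme.{u}} [X.Over (Spec (CommRingCat.of B))]
  [Y.Over (Spec (CommRingCat.of A))] (φ : A →+* B) (f : X ⟶ Y)
  (hsq : f ≫ (Y ↘ Spec (CommRingCat.of A)) = (X ↘ Spec (CommRingCat.of B)) ≫ Spec.map (CommRingCat.ofHom φ))

include hsq in
theorem toGlobal_square (r : A) :
    Coh.toGlobal (f ≫ (Y ↘ Spec (CommRingCat.of A))) r = Coh.toGlobal (X ↘ Spec (CommRingCat.of B)) (φ r) := by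
  rw [hsq]
  have h := congrArg (fun t : CommRingCat.of A ⟶ Γ(Spec (CommRingCat.of B), ⊤) => t.hom r)
    (Scheme.ΓSpecIso_inv_naturality (CommRingCat.ofHom φ))
  exact (congrArg (X ↘ Spec (CommRingCat.of B)).appTop.hom h).symm

include hsq in
theorem pushforward_smul {M N : X.Modules} (r : A) (v : M ⟶ N) :
    (Scheme.Modules.pushforward f).map (φ r • v) = r • (Scheme.Modules.pushforward f).map v := by
  letI iX : X.Over (Spec (CommRingCat.of A)) := ⟨f ≫ (Y ↘ Spec (CommRingCat.of A))⟩
  haveI : f.IsOver (Spec (CommRingCat.of A)) := ⟨rfl⟩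
  have h : φ r • v = r • v := by
    change Formal.smulModΓ M _ ≫ v = Formal.smulModΓ M _ ≫ v
    rw [← toGlobal_square φ f hsq r]
    rfl
  rw [h, Functor.map_smul]

include hsq in
/-- derived direct images are semilinear -/
theorem Rpush_smul [DCoh.HasRpush f] {K L : DCoh.D X} (r : A) (v : K ⟶ L) :
    (DCoh.Rpush f).map (φ r • v) = r • (DCoh.Rpush f).map v := by
  haveI := Groth.L17.PushQCoh.additive_push f
  have hid : (DCoh.Rpush f).map (φ r • 𝟙 K) = r • 𝟙 ((DCoh.Rpush f).obj K) := by
    obtain ⟨J, hJ, ⟨e⟩⟩ := BC.UnivShift.exists_kinj_rep K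
    haveI := hJ
    haveI := BC.SupportAdj.isIso_pushComp f J
    have h1 : (DCoh.Rpush f).map (φ r • 𝟙 (DerivedCategory.Q.obj J)) = r • 𝟙 _ := by
      rw [← cancel_epi (BC.SupportAdj.pushComp f J),
        show φ r • 𝟙 (DerivedCategory.Q.obj J) = DerivedCategory.Q.map (φ r • 𝟙 J) by
          rw [Functor.map_smul, CategoryTheory.Functor.map_id], ← BC.SupportAdj.pushComp_natural f (φ r • 𝟙 J),
        show (Proj.pushCx f).map (φ r • 𝟙 J) = r • 𝟙 ((Proj.pushCx f).obj J) from
          HomologicalComplex.hom_ext _ _ fun i => (pushforward_smul φ f hsq r (𝟙 (J.X i))).trans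
            (congrArg (r • ·) ((Scheme.Modules.pushforward f).map_id _)),
        Functor.map_smul, CategoryTheory.Functor.map_id, Linear.smul_comp, Category.id_comp, Linear.comp_smul,
        Category.comp_id]
    have h2 : φ r • 𝟙 K = e.inv ≫ (φ r • 𝟙 (DerivedCategory.Q.obj J)) ≫ e.hom := by
      rw [Linear.smul_comp, Category.id_comp, Linear.comp_smul, e.inv_hom_id]
    rw [h2, Functor.map_comp, Functor.map_comp, h1, Linear.smul_comp, Category.id_comp, Linear.comp_smul,
      ← Functor.map_comp, e.inv_hom_id, CategoryTheory.Functor.map_id]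
  rw [show φ r • v = (φ r • 𝟙 K) ≫ v by rw [Linear.smul_comp, Category.id_comp], Functor.map_comp, hid,
    Linear.smul_comp, Category.id_comp]

include hsq in
/-- derived pullbacks are semilinear -/
theorem sl_Lpull [DCoh.HasRpush f] [DCoh.HasLpull f] :
    SL (C := DCoh.D Y) (C' := DCoh.D X) φ (DCoh.Lpull f) :=
  SL.leftAdjoint (BC.adj f) fun r v => Rpush_smul φ f hsq r v

end Groth.L29.BCAdj
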