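import Groth.Agent.L29.BCAdj.LTLinear
import Groth.Agent.L29.BCAdj.ScalarPush
import Groth.Agent.L29.BCAdj.HomFlat
import Groth.Agent.L29.Dual.HomD
import Groth.Agent.L29.DCoh.TildeAlg
import Groth.Agent.L29.DCoh.TildeD
import Groth.Agent.L29.DCoh.PCNoeth
import Groth.Agent.L29.DCoh.RpushCoh
import Groth.Agent.L29.DCoh.RHomBound
import Groth.Agent.L16.CohKernel

/-!
Finiteness of Hom groups on schemes proper over a Noetherian ring.
-/

set_option autoImplicit false
set_option backward.defeqAttrib.useBackward true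
set_option backward.isDefEq.respectTransparency false
set_option backward.isDefEq.respectTransparency.types false

universe u

open CategoryTheory CategoryTheory.Limits AlgebraicGeometry

attribute [local instance] HasDerivedCategory.standard

namespace Groth.L29.BCAdj

open Groth.L00 Groth.L29.DC

variable {A : Type u} [CommRing A]

set_option maxHeartbeats 800000 in
/-- global sections of a complex with coherent cohomology on an affine scheme are finite -/
theorem finite_hom_OD [IsNoetherianRing A] :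
    letI : (Spec (CommRingCat.of A)).Over (Spec (CommRingCat.of A)) := ⟨𝟙 _⟩
    ∀ M : DCoh.D (Spec (CommRingCat.of A)), DCoh.IsCohD M → Module.Finite A (OD (Spec (CommRingCat.of A)) ⟶ M) := by
  letI iS : (Spec (CommRingCat.of A)).Over (Spec (CommRingCat.of A)) := ⟨𝟙 _⟩
  intro M hM
  let R : CommRingCat.{u} := CommRingCat.of A
  haveI := Groth.L18.TildeF.tilde_preservesFiniteLimits (R := R)
  have hlin : ∀ (a : A) (N : ModuleCat.{u} R),
      (tilde.functor R).map (a • 𝟙 N) = a • 𝟙 ((tilde.functor R).obj N) := fun a N => by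
    rw [KLin.smul_id]
    exact Groth.L17.BC.TensorA.tilde_smul (R := R) a N
  haveI : (tilde.functor R).Additive :=
    haveI : PreservesColimitsOfSize.{0, 0} (tilde.functor R) := tilde.adjunction.leftAdjoint_preservesColimits
    haveI := preservesBinaryBiproducts_of_preservesBinaryCoproducts (tilde.functor R)
    Functor.additive_of_preservesBinaryBiproducts _
  haveI : PreservesFiniteColimits (tilde.functor R) :=
    haveI : PreservesColimitsOfSize.{0, 0} (tilde.functor R) := tilde.adjunction.leftAdjoint_preservesColimits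
    inferInstance
  haveI : (tilde.functor R).Linear A := ⟨fun {N N'} φ a => by
    rw [show a • φ = (a • 𝟙 N) ≫ φ by rw [Linear.smul_comp, Category.id_comp], Functor.map_comp, hlin,
      Linear.smul_comp]
    exact congrArg (a • ·) (Category.id_comp _)⟩
  obtain ⟨hF, hF'⟩ := TildeD.fullyFaithful (R := R)
  obtain ⟨N, ⟨eN⟩⟩ := (TildeD.isQCohD_iff (R := R) M).1 fun i => (hM i).1
  haveI : Module.Finite A (Dual.HD A N 0) := by
    let Hm : (Spec R).Modules := DCoh.HD ((DCoh.tildeD R).obj N) 0
    have hc : Coh.IsCoh Hm := Groth.L16.CohSupport.isCoh_of_iso ((DerivedCategory.homologyFunctor _ 0).mapIso eN.symm) (hM 0)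
    haveI : Coh.IsQCoh Hm := hc.1
    exact Groth.L16.CohKernel.finite_of_tilde_iso Hm hc.2 (𝟙 _) _
      ((Scheme.Modules.restrictFunctorId.app Hm) ≪≫ TildeAlg.hdIso N 0)
  haveI : Module.Finite A (Dual.inD A A ⟶ N) :=
    Module.Finite.of_injective (HomD.evalOne N) (HomD.evalOne_bijective N).injective
  let eO : (DCoh.tildeD R).obj (Dual.inD A A) ≅ OD (Spec R) :=
    ((tilde.functor R).mapDerivedCategorySingleFunctor 0).app (ModuleCat.of A A) ≪≫
      (DerivedCategory.singleFunctor (Spec R).Modules 0).mapIso tildeSelf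
  let Φ : (Dual.inD A A ⟶ N) →ₗ[A] (OD (Spec R) ⟶ M) :=
    (Linear.homCongr A eO eN).toLinearMap ∘ₗ (DCoh.tildeD R).mapLinearMap A
  exact Module.Finite.of_surjective Φ fun v => by
    obtain ⟨u, hu⟩ := (Linear.homCongr A eO eN).surjective v
    obtain ⟨w, rfl⟩ := (DCoh.tildeD R).map_surjective u
    exact ⟨w, hu⟩

set_option maxHeartbeats 800000 in
/-- maps from bounded above to bounded below complexes with coherent cohomology form finite modules -/
theorem finite_hom_proper [IsNoetherianRing A] {X : Scheme.{u}} [X.Over (Spec (CommRingCat.of A))]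
    [IsProper (X ↘ Spec (CommRingCat.of A))] {K L : DCoh.D X} (hK : DCoh.IsCohD K) (b : ℤ) [K.IsLE b]
    (hL : DCoh.IsCohD L) (a : ℤ) (hLa : L.IsGE a) : Module.Finite A (K ⟶ L) := by
  let f := X ↘ Spec (CommRingCat.of A)
  letI iS : (Spec (CommRingCat.of A)).Over (Spec (CommRingCat.of A)) := ⟨𝟙 _⟩
  haveI : IsLocallyNoetherian X := LocallyOfFiniteType.isLocallyNoetherian f
  haveI := RpushQC.hasRpush f
  haveI := KFlat.hasLpull f
  let E := DerivedCategory.Q.objPreimage K
  let eE : DCoh.toD X E ≅ K := DerivedCategory.Q.objObjPreimageIso K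
  haveI := KFlat.hasLTensorCx E
  haveI := RHom.hasRSheafHom E
  haveI : (DCoh.toD X E).IsLE b := DerivedCategory.TStructure.t.isLE_of_iso eE.symm b
  have hEc : DCoh.IsCohD (DCoh.toD X E) := fun i => Groth.L16.CohSupport.isCoh_of_iso ((DerivedCategory.homologyFunctor _ i).mapIso eE.symm) (hK i)
  let M := (DCoh.RSheafHom E).obj L
  haveI := hLa
  have hMc : DCoh.IsCohD M := (PCNoeth.isCohD_RSheafHom E b hEc L a hL).1
  haveI hMa : M.IsGE (a - b) := RHom.isGE_RSheafHom E b inferInstance L a hLa
  have hs : ∀ i : ℤ, ClSub.IsProperOver f (CohB1.support (DCoh.HD M i)) := fun i =>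
    ⟨Groth.L16.CohSupport.isClosed_support _ (hMc i).2, inferInstance⟩
  haveI := finite_hom_OD (A := A) _ (RpushCoh.isCohD_Rpush f M (a - b) hMc hs)
  obtain ⟨o⟩ := nonempty_Lpull_OD f
  let oQ : DerivedCategory.Q.obj (RHom.O0 X) ≅ OD X :=
    (((SingleFunctors.evaluation _ _ 0).mapIso
      (DerivedCategory.singleFunctorsPostcompQIso X.Modules)).app (Coh.structureModule X)).symm
  haveI := BC.LTExact.isIso_cnt E (isKFlat_of_isStrictlyPerfect (RHom.isStrictlyPerfect_O0 (X := X)))
  let eU : (DCoh.LTensorCx E).obj (DerivedCategory.Q.obj (RHom.O0 X)) ≅ K :=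
    asIso (BC.LTExact.cnt E (RHom.O0 X)) ≪≫
      DerivedCategory.Q.mapIso (KFlat.commIso (RHom.O0 X) E ≪≫ BC.PFNat.unitL E) ≪≫ eE
  let eO := o ≪≫ oQ.symm
  have hsq : f ≫ (Spec (CommRingCat.of A) ↘ Spec (CommRingCat.of A)) =
      f ≫ Spec.map (CommRingCat.ofHom (RingHom.id A)) := by
    rw [CommRingCat.ofHom_id, Spec.map_id]; rfl
  let Θ : (K ⟶ L) →ₗ[A] (OD (Spec (CommRingCat.of A)) ⟶ (DCoh.Rpush f).obj M) :=
    { toFun := fun u => (BC.adj f).homEquiv _ _ (eO.hom ≫ (DCoh.RSheafHomAdj E).homEquiv _ _ (eU.hom ≫ u))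
      map_add' := fun u v => by
        haveI := RpushColim.additive_Rpush f
        haveI := FiveRight.additive_left (DCoh.RSheafHomAdj E)
        haveI : (DCoh.RSheafHom E).Additive := (DCoh.RSheafHomAdj E).right_adjoint_additive
        simp only [Adjunction.homEquiv_unit, Functor.map_add, Preadditive.comp_add]
      map_smul' := fun r u => by
        have h2 : ∀ {P Q : DCoh.D X} (v : P ⟶ Q), (DCoh.Rpush f).map (r • v) = r • (DCoh.Rpush f).map v :=
          fun v => Rpush_smul (RingHom.id A) f hsq r v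
        simp only [Adjunction.homEquiv_unit, Linear.comp_smul, RSheafHom_smul, h2, RingHom.id_apply] }
  exact Module.Finite.of_injective Θ fun u v h =>
    (cancel_epi eU.hom).1 (((DCoh.RSheafHomAdj E).homEquiv _ _).injective
      ((cancel_epi eO.hom).1 (((BC.adj f).homEquiv _ _).injective h)))

end Groth.L29.BCAdj
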