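import Groth.Agent.L29.BCAdj.HomFinite
import Groth.Agent.L29.DCoh.EvalMain
import Groth.Agent.L29.DCoh.Gen.RpushTri
import Groth.Agent.L29.K.CohSupp

/-!
Maps from perfect objects vanish in high degree on schemes over affine bases.
-/

set_option autoImplicit false
set_option backward.defeqAttrib.useBackward true
set_option backward.isDefEq.respectTransparency false
set_option backward.isDefEq.respectTransparency.types false

universe u

open CategoryTheory CategoryTheory.Limits AlgebraicGeometry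

attribute [local instance] HasDerivedCategory.standard

namespace Groth.L29.BCAdj

open Groth.L00 Groth.L29.DC

/-- maps from the structure sheaf into negative degrees vanish on affine schemes -/
theorem hom_OD_eq_zero_of_isLE {A : Type u} [CommRing A] (M : DCoh.D (Spec (CommRingCat.of A)))
    (hM : DCoh.IsQCohD M) (hle : M.IsLE (-1)) (v : OD (Spec (CommRingCat.of A)) ⟶ M) : v = 0 := by
  let R : CommRingCat.{u} := CommRingCat.of A
  haveI := Groth.L18.TildeF.tilde_preservesFiniteLimits (R := R)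
  haveI : PreservesFiniteColimits (tilde.functor R) :=
    haveI : PreservesColimitsOfSize.{0, 0} (tilde.functor R) := tilde.adjunction.leftAdjoint_preservesColimits
    inferInstance
  haveI : (tilde.functor R).Additive :=
    haveI : PreservesColimitsOfSize.{0, 0} (tilde.functor R) := tilde.adjunction.leftAdjoint_preservesColimits
    haveI := preservesBinaryBiproducts_of_preservesBinaryCoproducts (tilde.functor R)
    Functor.additive_of_preservesBinaryBiproducts _
  obtain ⟨hF, hF'⟩ := TildeD.fullyFaithful (R := R)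
  obtain ⟨N, ⟨eN⟩⟩ := (TildeD.isQCohD_iff (R := R) M).1 hM
  have h0 : IsZero ((Groth.L02.PC.HH 0).obj N) := by
    refine (TildeAlg.isZero_hd_iff N 0).1 ?_
    exact (DerivedCategory.isZero_of_isLE M (-1) 0 (by omega)).of_iso
      ((DerivedCategory.homologyFunctor _ 0).mapIso eN)
  let eO : (DCoh.tildeD R).obj (Dual.inD A A) ≅ OD (Spec R) :=
    ((tilde.functor R).mapDerivedCategorySingleFunctor 0).app (ModuleCat.of A A) ≪≫
      (DerivedCategory.singleFunctor (Spec R).Modules 0).mapIso tildeSelf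
  obtain ⟨w, hw⟩ := (DCoh.tildeD R).map_surjective (eO.hom ≫ v ≫ eN.inv)
  have hw0 : w = 0 := by
    apply (HomD.evalOne_bijective N).injective
    exact @Subsingleton.elim _ (ModuleCat.subsingleton_of_isZero h0) _ _
  rw [hw0, Functor.map_zero] at hw
  rw [← cancel_epi eO.hom, ← cancel_mono eN.inv, Category.assoc, ← hw]
  simp

set_option maxHeartbeats 800000 in
/-- maps out of a perfect object into sufficiently negative objects vanish -/
theorem exists_hom_perfect_eq_zero {A : Type u} [CommRing A] {X : Scheme.{u}} (f : X ⟶ Spec (CommRingCat.of A))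
    [QuasiCompact f] [QuasiSeparated f] [CompactSpace X] [IsLocallyNoetherian X] {E : DCoh.D X}
    (hE : DCoh.IsPerfect E) :
    ∃ N : ℤ, ∀ L : DCoh.D X, DCoh.IsQCohD L → L.IsLE N → ∀ v : E ⟶ L, v = 0 := by
  haveI := RpushQC.hasRpush f
  haveI := KFlat.hasLpull f
  obtain ⟨P, q, hP, -, hq, -⟩ := KFlat.exists_resolution (DerivedCategory.Q.objPreimage E)
  haveI := (DerivedCategory.isIso_Q_map_iff_quasiIso _ q).2 hq
  let eP : DCoh.toD X P ≅ E := asIso (DerivedCategory.Q.map q) ≪≫ DerivedCategory.Q.objObjPreimageIso E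
  haveI := KFlat.hasLTensorCx P
  haveI := RHom.hasRSheafHom P
  have hPp : DCoh.IsPerfect (DCoh.toD X P) := isPerfect_of_iso eP.symm hE
  have hDp := EvalMain.isPerfect_dual P hP hPp
  obtain ⟨D, r, hD, -, hr, -⟩ := KFlat.exists_resolution
    (DerivedCategory.Q.objPreimage ((DCoh.RSheafHom P).obj (DCoh.toD X (RHom.O0 X))))
  haveI := (DerivedCategory.isIso_Q_map_iff_quasiIso _ r).2 hr
  let eD : DCoh.toD X D ≅ (DCoh.RSheafHom P).obj (DCoh.toD X (RHom.O0 X)) :=
    asIso (DerivedCategory.Q.map r) ≪≫ DerivedCategory.Q.objObjPreimageIso _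
  haveI := KFlat.hasLTensorCx D
  obtain ⟨c₀, c, -, hc⟩ := Groth.L29.CohSupp.exists_bounds_of_perfect (isPerfect_of_iso eD.symm hDp)
  haveI := Groth.L17.PushQCoh.hasInjectiveResolutions X
  obtain ⟨N, hN⟩ := RpushQC.exists_bound f
  refine ⟨-(N : ℤ) - c - 1, fun L hL hLle v => ?_⟩
  let M := (DCoh.RSheafHom P).obj L
  have hMq : DCoh.IsQCohD M := (RHom.rPres_of_isPerfect hPp).pres L hL
  have hMle : M.IsLE (-(N : ℤ) - 1) := by
    obtain ⟨i⟩ := EvalMain.nonempty_dual P D hP hPp hD ⟨eD⟩ L
    have h := RHom.isLE_LTensorCx D c hc L (-(N : ℤ) - c - 1) hLle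
    haveI : ((DCoh.LTensorCx D).obj L).IsLE (-(N : ℤ) - 1) :=
      DerivedCategory.TStructure.t.isLE_of_le _ (-(N : ℤ) - c - 1 + c) (-(N : ℤ) - 1) (by omega)
    exact DerivedCategory.TStructure.t.isLE_of_iso i (-(N : ℤ) - 1)
  have hR : ((DCoh.Rpush f).obj M).IsLE (-1) := by
    rw [DerivedCategory.isLE_iff]
    intro j hj
    letI := Gen.commShiftRpush f
    let w : ℤ := -(N : ℤ) - 1
    haveI : (M⟦w⟧).IsLE 0 := by
      haveI : DerivedCategory.TStructure.t.IsLE M w := hMle
      exact DerivedCategory.TStructure.t.isLE_shift M w w 0 (by omega)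
    have h := RpushQC.isZero_HD_Rpush f N hN (M⟦w⟧) (Gen.isQCohD_shift hMq w) inferInstance (j - w) (by omega)
    exact h.of_iso ((((DerivedCategory.homologyFunctor _ 0).shiftIso w (j - w) j (by omega)).app _).symm ≪≫
      (DerivedCategory.homologyFunctor _ (j - w)).mapIso (((DCoh.Rpush f).commShiftIso w).app M).symm)
  obtain ⟨o⟩ := nonempty_Lpull_OD f
  let oQ : DerivedCategory.Q.obj (RHom.O0 X) ≅ OD X :=
    (((SingleFunctors.evaluation _ _ 0).mapIso
      (DerivedCategory.singleFunctorsPostcompQIso X.Modules)).app (Coh.structureModule X)).symm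
  haveI := BC.LTExact.isIso_cnt P (isKFlat_of_isStrictlyPerfect (RHom.isStrictlyPerfect_O0 (X := X)))
  let eU : (DCoh.LTensorCx P).obj (DerivedCategory.Q.obj (RHom.O0 X)) ≅ E :=
    asIso (BC.LTExact.cnt P (RHom.O0 X)) ≪≫
      DerivedCategory.Q.mapIso (KFlat.commIso (RHom.O0 X) P ≪≫ BC.PFNat.unitL P) ≪≫ eP
  rw [← cancel_epi eU.hom]
  refine ((DCoh.RSheafHomAdj P).homEquiv _ _).injective ?_
  rw [← cancel_epi (o ≪≫ oQ.symm).hom]
  refine ((BC.adj f).homEquiv _ _).injective ?_
  have hq' : DCoh.IsQCohD ((DCoh.Rpush f).obj M) := RpushQC.isQCohD_Rpush f M hMq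
  exact (hom_OD_eq_zero_of_isLE _ hq' hR _).trans (hom_OD_eq_zero_of_isLE _ hq' hR _).symm

end Groth.L29.BCAdj
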