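import Mathlib.CategoryTheory.Linear.LinearFunctor
import Mathlib.CategoryTheory.Adjunction.Additive
import Mathlib.CategoryTheory.Triangulated.Pretriangulated
import Mathlib.CategoryTheory.Triangulated.Functor
import Mathlib.RingTheory.Flat.Basic
import Groth.Agent.L29.DCoh.Gen.Thick

/-!
Semilinear functors and flat base change of Hom groups: dévissage.
-/

set_option autoImplicit false
set_option backward.defeqAttrib.useBackward true
set_option backward.isDefEq.respectTransparency false
set_option backward.isDefEq.respectTransparency.types false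

universe u v v' w w' t

open CategoryTheory CategoryTheory.Limits CategoryTheory.Pretriangulated
open scoped TensorProduct

namespace Groth.L29.BCAdj

variable {A B : Type u} [CommRing A] [CommRing B]
variable {C : Type w} [Category.{v} C] [Preadditive C] [Linear A C]
variable {C' : Type w'} [Category.{v'} C'] [Preadditive C'] [Linear B C']

/-- a functor is semilinear along `φ` -/
structure SL (φ : A →+* B) (L : C ⥤ C') : Prop where
  map_smul : ∀ {P x : C} (r : A) (v : P ⟶ x), L.map (r • v) = φ r • L.map v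

/-- semilinearity can be checked at identities -/
theorem SL.of_id (φ : A →+* B) (L : C ⥤ C') (h : ∀ (x : C) (r : A), L.map (r • 𝟙 x) = φ r • 𝟙 (L.obj x)) :
    SL φ L := ⟨fun {P x} r v => by
  rw [show r • v = (r • 𝟙 P) ≫ v by rw [Linear.smul_comp, Category.id_comp], Functor.map_comp, h P r,
    Linear.smul_comp, Category.id_comp]⟩

/-- the left adjoint of a semilinear functor is semilinear -/
theorem SL.leftAdjoint {φ : A →+* B} {L : C ⥤ C'} {R : C' ⥤ C} (adj : L ⊣ R)
    (h : ∀ {M N : C'} (r : A) (v : M ⟶ N), R.map (φ r • v) = r • R.map v) : SL φ L :=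
  SL.of_id φ L fun x r => by
    apply (adj.homEquiv _ _).injective
    rw [Adjunction.homEquiv_unit, Adjunction.homEquiv_unit, h, CategoryTheory.Functor.map_id,
      Linear.comp_smul]
    erw [Category.comp_id]
    have h0 := adj.unit.naturality (r • 𝟙 x)
    dsimp at h0
    rw [← h0, Linear.smul_comp, Category.id_comp]

section Tensor

variable [Algebra A B] (L : C ⥤ C') [L.Additive] (hL : SL (algebraMap A B) L)

/-- `B ⊗ Hom(P, x) ⟶ Hom(L P, L x)` -/
noncomputable def T (P x : C) : B ⊗[A] (P ⟶ x) →+ (L.obj P ⟶ L.obj x) :=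
  TensorProduct.liftAddHom
    (AddMonoidHom.mk' (fun b => AddMonoidHom.mk' (fun v : P ⟶ x => b • L.map v)
      (fun v w => by rw [L.map_add, smul_add]))
      (fun b c => AddMonoidHom.ext fun v => add_smul b c (L.map v)))
    (fun r b v => by
      change (r • b) • L.map v = b • L.map (r • v)
      rw [hL.map_smul r v, smul_smul, Algebra.smul_def, mul_comm b])

theorem T_tmul (P x : C) (b : B) (v : P ⟶ x) : T L hL P x (b ⊗ₜ v) = b • L.map v :=
  TensorProduct.liftAddHom_tmul _ _ _ _

/-- Hom groups commute with the base change -/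
def Bij (P x : C) : Prop := Function.Bijective (T L hL P x)

theorem T_right {P x y : C} (u : x ⟶ y) (z : B ⊗[A] (P ⟶ x)) :
    T L hL P y ((Linear.rightComp A P u).lTensor B z) = T L hL P x z ≫ L.map u := by
  induction z using TensorProduct.induction_on with
  | zero => simp
  | tmul b v =>
    rw [LinearMap.lTensor_tmul, T_tmul, T_tmul, Linear.smul_comp]
    exact congrArg (b • ·) (L.map_comp v u)
  | add a c ha hc => simp [ha, hc, Preadditive.add_comp]

theorem T_left {P Q x : C} (u : Q ⟶ P) (z : B ⊗[A] (P ⟶ x)) :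
    T L hL Q x ((Linear.leftComp A x u).lTensor B z) = L.map u ≫ T L hL P x z := by
  induction z using TensorProduct.induction_on with
  | zero => simp
  | tmul b v =>
    rw [LinearMap.lTensor_tmul, T_tmul, T_tmul, Linear.comp_smul]
    exact congrArg (b • ·) (L.map_comp u v)
  | add a c ha hc => simp [ha, hc, Preadditive.comp_add]

theorem Bij.of_iso_right {P x y : C} (e : x ≅ y) (h : Bij L hL P x) : Bij L hL P y := by
  have hc : ∀ z, (Linear.rightComp A P e.hom).lTensor B ((Linear.rightComp A P e.inv).lTensor B z) = z := fun z => by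
    rw [← LinearMap.comp_apply, ← LinearMap.lTensor_comp,
      show Linear.rightComp A P e.hom ∘ₗ Linear.rightComp A P e.inv = LinearMap.id from
        LinearMap.ext fun v => by simp [Linear.rightComp], LinearMap.lTensor_id, LinearMap.id_apply]
  refine ⟨fun a c hac => ?_, fun v => ?_⟩
  · rw [← hc a, ← hc c]
    refine congrArg _ (h.injective ?_)
    rw [T_right, T_right, hac]
  · obtain ⟨z, hz⟩ := h.surjective (v ≫ L.map e.inv)
    refine ⟨(Linear.rightComp A P e.hom).lTensor B z, ?_⟩
    rw [T_right, hz, Category.assoc, ← L.map_comp, e.inv_hom_id, L.map_id, Category.comp_id]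

theorem Bij.of_iso_left {P Q x : C} (e : P ≅ Q) (h : Bij L hL P x) : Bij L hL Q x := by
  have hc : ∀ z, (Linear.leftComp A x e.inv).lTensor B ((Linear.leftComp A x e.hom).lTensor B z) = z := fun z => by
    rw [← LinearMap.comp_apply, ← LinearMap.lTensor_comp,
      show Linear.leftComp A x e.inv ∘ₗ Linear.leftComp A x e.hom = LinearMap.id from
        LinearMap.ext fun v => by simp [Linear.leftComp], LinearMap.lTensor_id, LinearMap.id_apply]
  refine ⟨fun a c hac => ?_, fun v => ?_⟩
  · rw [← hc a, ← hc c]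
    refine congrArg _ (h.injective ?_)
    rw [T_left, T_left, hac]
  · obtain ⟨z, hz⟩ := h.surjective (L.map e.hom ≫ v)
    refine ⟨(Linear.leftComp A x e.inv).lTensor B z, ?_⟩
    rw [T_left, hz, ← L.map_comp_assoc, e.inv_hom_id, L.map_id, Category.id_comp]

/-- a retract of the source inherits bijectivity -/
theorem Bij.retract_left {P Q x : C} (r : Retract P Q) (h : Bij L hL Q x) : Bij L hL P x := by
  have hc : ∀ z, (Linear.leftComp A x r.i).lTensor B ((Linear.leftComp A x r.r).lTensor B z) = z := fun z => by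
    rw [← LinearMap.comp_apply, ← LinearMap.lTensor_comp,
      show Linear.leftComp A x r.i ∘ₗ Linear.leftComp A x r.r = LinearMap.id from
        LinearMap.ext fun v => by simp [Linear.leftComp], LinearMap.lTensor_id, LinearMap.id_apply]
  refine ⟨fun a c hac => ?_, fun v => ?_⟩
  · rw [← hc a, ← hc c]
    refine congrArg _ (h.injective ?_)
    rw [T_left, T_left, hac]
  · obtain ⟨z, hz⟩ := h.surjective (L.map r.r ≫ v)
    refine ⟨(Linear.leftComp A x r.i).lTensor B z, ?_⟩
    rw [T_left, hz, ← L.map_comp_assoc, r.retract, L.map_id, Category.id_comp]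

/-- finitely many summands carry every map out of a compact object -/
theorem Bij.coproduct {S : ObjectProperty C} {S' : ObjectProperty C'} {P : C} (hP : Groth.L29.Thick.Cpt.{t} S P)
    (hP' : Groth.L29.Thick.Cpt.{t} S' (L.obj P)) {ι : Type t} (x : ι → C) [HasCoproduct x]
    [HasCoproduct fun i => L.obj (x i)] [IsIso (sigmaComparison L x)] (hS : ∀ i, S (x i))
    (hS' : ∀ i, S' (L.obj (x i))) (h : ∀ i, Bij L hL P (x i)) : Bij L hL P (∐ x) := by
  classical
  have hrep : ∀ z : B ⊗[A] (P ⟶ ∐ x), ∃ (s : Finset ι) (t : ∀ i, B ⊗[A] (P ⟶ x i)),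
      z = ∑ i ∈ s, (Linear.rightComp A P (Sigma.ι x i)).lTensor B (t i) := fun z => by
    induction z using TensorProduct.induction_on with
    | zero => exact ⟨∅, fun _ => 0, by simp⟩
    | tmul b v =>
      obtain ⟨s, g, rfl⟩ := hP x hS v
      refine ⟨s, fun i => b ⊗ₜ g i, ?_⟩
      rw [TensorProduct.tmul_sum]
      exact Finset.sum_congr rfl fun i _ => (LinearMap.lTensor_tmul B (Linear.rightComp A P (Sigma.ι x i)) b (g i)).symm
    | add a c ha hc =>
      obtain ⟨s, t, rfl⟩ := ha
      obtain ⟨s', t', rfl⟩ := hc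
      refine ⟨s ∪ s', fun i => (if i ∈ s then t i else 0) + (if i ∈ s' then t' i else 0), ?_⟩
      simp only [map_add, Finset.sum_add_distrib, apply_ite ((LinearMap.lTensor B) _), map_zero]
      rw [Finset.sum_ite_mem, Finset.sum_ite_mem, Finset.inter_eq_right.2 Finset.subset_union_left,
        Finset.inter_eq_right.2 Finset.subset_union_right]
  refine ⟨(injective_iff_map_eq_zero _).2 fun z hz => ?_, fun v => ?_⟩
  · obtain ⟨s, t, rfl⟩ := hrep z
    refine Finset.sum_eq_zero fun j hj => ?_
    have h0 : t j = 0 := by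
      let π : (∐ x) ⟶ x j := Sigma.desc fun i => if hij : i = j then eqToHom (congrArg x hij) else 0
      have h1 := congrArg (· ≫ L.map π) hz
      simp only [map_sum, Preadditive.sum_comp, zero_comp, ← T_right] at h1
      rw [Finset.sum_eq_single j] at h1
      · have hid : (Linear.rightComp A P π).lTensor B ((Linear.rightComp A P (Sigma.ι x j)).lTensor B (t j)) = t j := by
          rw [← LinearMap.comp_apply, ← LinearMap.lTensor_comp,
            show Linear.rightComp A P π ∘ₗ Linear.rightComp A P (Sigma.ι x j) = LinearMap.id from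
              LinearMap.ext fun v => by simp [Linear.rightComp, π], LinearMap.lTensor_id, LinearMap.id_apply]
        rw [hid] at h1
        exact (h j).injective (h1.trans (map_zero _).symm)
      · intro i _ hij
        rw [← LinearMap.comp_apply, ← LinearMap.lTensor_comp,
          show Linear.rightComp A P π ∘ₗ Linear.rightComp A P (Sigma.ι x i) = 0 from
            LinearMap.ext fun v => by simp [Linear.rightComp, π, hij]]
        simp
      · exact fun hn => absurd hj hn
    rw [h0, map_zero]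
  · obtain ⟨s, g, hg⟩ := hP' (fun i => L.obj (x i)) hS' (v ≫ inv (sigmaComparison L x))
    refine ⟨∑ i ∈ s, (Linear.rightComp A P (Sigma.ι x i)).lTensor B ((h i).surjective (g i)).choose, ?_⟩
    rw [map_sum]
    rw [IsIso.comp_inv_eq] at hg
    rw [hg, Preadditive.sum_comp]
    refine Finset.sum_congr rfl fun i _ => ?_
    rw [T_right, ((h i).surjective (g i)).choose_spec, Category.assoc, ι_comp_sigmaComparison]

section Triangles

variable [HasZeroObject C] [HasShift C ℤ] [∀ n : ℤ, (shiftFunctor C n).Additive] [Pretriangulated C]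
  [HasZeroObject C'] [HasShift C' ℤ] [∀ n : ℤ, (shiftFunctor C' n).Additive] [Pretriangulated C']
  [L.CommShift ℤ] [L.IsTriangulated] [Module.Flat A B]

/-- five lemma in the second variable -/
theorem Bij.third_right (T₀ : Triangle C) (hT : T₀ ∈ distTriang C) (P : C) (h₁ : Bij L hL P T₀.obj₁)
    (h₂ : Bij L hL P T₀.obj₂) (h₁' : Bij L hL P (T₀.obj₁⟦(1 : ℤ)⟧)) (h₂' : Bij L hL P (T₀.obj₂⟦(1 : ℤ)⟧)) :
    Bij L hL P T₀.obj₃ := by
  have hex : ∀ S : Triangle C, S ∈ distTriang C → Function.Exact ((Linear.rightComp A P S.mor₁).lTensor B)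
      ((Linear.rightComp A P S.mor₂).lTensor B) := fun S hS =>
    Module.Flat.lTensor_exact B (fun v => ⟨fun hv => by
      obtain ⟨g, hg⟩ := Triangle.coyoneda_exact₂ _ hS v hv
      exact ⟨g, hg.symm⟩, fun ⟨g, hg⟩ => by
      subst hg
      change (g ≫ S.mor₁) ≫ S.mor₂ = 0
      rw [Category.assoc, comp_distTriang_mor_zero₁₂ _ hS, comp_zero]⟩)
  have hex' : ∀ S : Triangle C, S ∈ distTriang C → ∀ v : L.obj P ⟶ L.obj S.obj₂, v ≫ L.map S.mor₂ = 0 →
      ∃ g, v = g ≫ L.map S.mor₁ := fun S hS v hv =>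
    Triangle.coyoneda_exact₂ _ (L.map_distinguished S hS) v hv
  have hr := rot_of_distTriang _ hT
  have hrr := rot_of_distTriang _ hr
  refine ⟨(injective_iff_map_eq_zero _).2 fun z hz => ?_, fun v => ?_⟩
  · have h0 : (Linear.rightComp A P T₀.mor₃).lTensor B z = 0 := by
      refine h₁'.injective ?_
      rw [T_right, hz, zero_comp, map_zero]
    obtain ⟨y, rfl⟩ := (hex T₀.rotate hr z).1 h0
    have h1 : T L hL P T₀.obj₂ y ≫ L.map T₀.mor₂ = 0 := by rw [← T_right]; exact hz
    obtain ⟨g, hg⟩ := hex' T₀ hT _ h1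
    obtain ⟨w, rfl⟩ := h₁.surjective g
    rw [← T_right] at hg
    rw [h₂.injective hg]
    exact (hex T₀ hT).apply_apply_eq_zero w
  · obtain ⟨z, hz⟩ := h₁'.surjective (v ≫ L.map T₀.mor₃)
    have h0 : (Linear.rightComp A P (-T₀.mor₁⟦(1 : ℤ)⟧')).lTensor B z = 0 := by
      refine h₂'.injective ?_
      rw [T_right, map_zero, hz, Category.assoc, ← L.map_comp, Preadditive.comp_neg,
        comp_distTriang_mor_zero₃₁ _ hT, neg_zero, L.map_zero, comp_zero]
    obtain ⟨y, rfl⟩ := (hex T₀.rotate.rotate hrr z).1 h0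
    have h1 : (v - T L hL P T₀.obj₃ y) ≫ L.map T₀.mor₃ = 0 := by
      rw [Preadditive.sub_comp, ← hz, sub_eq_zero]
      exact T_right L hL T₀.mor₃ y
    obtain ⟨g, hg⟩ := hex' T₀.rotate hr _ h1
    obtain ⟨w, rfl⟩ := h₂.surjective g
    refine ⟨(show B ⊗[A] (P ⟶ T₀.obj₃) from y) + (Linear.rightComp A P T₀.mor₂).lTensor B w, ?_⟩
    rw [map_add, T_right]
    change T L hL P T₀.obj₃ y + T L hL P T₀.obj₂ w ≫ L.map T₀.mor₂ = v
    change v - T L hL P T₀.obj₃ y = T L hL P T₀.obj₂ w ≫ L.map T₀.mor₂ at hg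
    rw [← hg, add_sub_cancel]

/-- five lemma in the first variable -/
theorem Bij.middle_left (T₀ : Triangle C) (hT : T₀ ∈ distTriang C) (x : C) (h₁ : Bij L hL T₀.obj₁ x)
    (h₃ : Bij L hL T₀.obj₃ x) (h₃' : Bij L hL (T₀.obj₃⟦(-1 : ℤ)⟧) x) (h₁' : Bij L hL (T₀.obj₁⟦(1 : ℤ)⟧) x) :
    Bij L hL T₀.obj₂ x := by
  have hex : ∀ S : Triangle C, S ∈ distTriang C → Function.Exact ((Linear.leftComp A x S.mor₂).lTensor B)
      ((Linear.leftComp A x S.mor₁).lTensor B) := fun S hS =>
    Module.Flat.lTensor_exact B (fun v => ⟨fun hv => by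
      obtain ⟨g, hg⟩ := Triangle.yoneda_exact₂ _ hS v hv
      exact ⟨g, hg.symm⟩, fun ⟨g, hg⟩ => by
      subst hg
      change S.mor₁ ≫ S.mor₂ ≫ g = 0
      rw [← Category.assoc, comp_distTriang_mor_zero₁₂ _ hS, zero_comp]⟩)
  have hex' : ∀ S : Triangle C, S ∈ distTriang C → ∀ v : L.obj S.obj₂ ⟶ L.obj x, L.map S.mor₁ ≫ v = 0 →
      ∃ g, v = L.map S.mor₂ ≫ g := fun S hS v hv =>
    Triangle.yoneda_exact₂ _ (L.map_distinguished S hS) v hv
  have hr := rot_of_distTriang _ hT
  have hi := inv_rot_of_distTriang _ hT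
  refine ⟨(injective_iff_map_eq_zero _).2 fun z hz => ?_, fun v => ?_⟩
  · have h0 : (Linear.leftComp A x T₀.mor₁).lTensor B z = 0 := by
      refine h₁.injective ?_
      rw [T_left, hz, comp_zero, map_zero]
    obtain ⟨y, rfl⟩ := (hex T₀ hT z).1 h0
    have h1 : L.map T₀.mor₂ ≫ T L hL T₀.obj₃ x y = 0 := by rw [← T_left]; exact hz
    obtain ⟨g, hg⟩ := hex' T₀.rotate hr _ h1
    obtain ⟨w, rfl⟩ := h₁'.surjective g
    rw [h₃.injective (hg.trans (T_left L hL T₀.rotate.mor₂ w).symm)]
    exact (hex T₀.rotate hr).apply_apply_eq_zero w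
  · obtain ⟨z, hz⟩ := h₁.surjective (L.map T₀.mor₁ ≫ v)
    have h0 : (Linear.leftComp A x T₀.invRotate.mor₁).lTensor B z = 0 := by
      refine h₃'.injective ((T_left L hL T₀.invRotate.mor₁ z).trans ?_)
      rw [map_zero]
      refine (congrArg (L.map T₀.invRotate.mor₁ ≫ ·) hz).trans ?_
      change L.map T₀.invRotate.mor₁ ≫ L.map T₀.invRotate.mor₂ ≫ v = 0
      rw [← L.map_comp_assoc, comp_distTriang_mor_zero₁₂ _ hi, L.map_zero, zero_comp]
    obtain ⟨y, hy⟩ := (hex T₀.invRotate hi z).1 h0
    have hy' : (Linear.leftComp A x T₀.mor₁).lTensor B y = z := hy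
    have h1 : L.map T₀.mor₁ ≫ (v - T L hL T₀.obj₂ x y) = 0 := by
      rw [Preadditive.comp_sub, ← hz, sub_eq_zero, ← hy']
      exact T_left L hL T₀.mor₁ y
    obtain ⟨g, hg⟩ := hex' T₀ hT _ h1
    obtain ⟨w, rfl⟩ := h₃.surjective g
    refine ⟨(show B ⊗[A] (T₀.obj₂ ⟶ x) from y) + (Linear.leftComp A x T₀.mor₂).lTensor B w, ?_⟩
    rw [map_add, T_left, ← hg, add_sub_cancel]

end Triangles

end Tensor

end Groth.L29.BCAdj
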