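import Groth.Agent.L29.BC.LTExact
import Groth.Agent.L17.BC.TensorA
import Groth.Agent.L29.BCAdj.SemiLinear
import Groth.Agent.L29.BC.PFNat
import Groth.Prelude.Def_KLin

/-!
Derived tensor products are linear.
-/

set_option autoImplicit false
set_option backward.defeqAttrib.useBackward true
set_option backward.isDefEq.respectTransparency false
set_option backward.isDefEq.respectTransparency.types false

universe u

open CategoryTheory CategoryTheory.Limits AlgebraicGeometry

attribute [local instance] HasDerivedCategory.standard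

namespace Groth.L29.BCAdj

open Groth.L00 Groth.L29.DC

variable {A : Type u} [CommRing A] {X : Scheme.{u}} [X.Over (Spec (CommRingCat.of A))]

theorem tensorBi_map_smul (M N : X.Modules) (r : A) :
    ((DCoh.tensorBi (X := X)).map (r • 𝟙 M)).app N = r • 𝟙 (((DCoh.tensorBi (X := X)).obj M).obj N) := by
  rw [KLin.smul_id, KLin.smul_id]
  exact Groth.L17.BC.TensorA.tensor_smulModΓ N M _

set_option maxHeartbeats 800000 in
/-- derived tensor products are linear -/
theorem sl_LTensorCx (K : CochainComplex X.Modules ℤ) [DCoh.HasLTensorCx K] :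
    SL (C := DCoh.D X) (C' := DCoh.D X) (RingHom.id A) (DCoh.LTensorCx K) := by
  refine SL.of_id _ _ fun x r => ?_
  obtain ⟨P, q, hP, -, hq, -⟩ := KFlat.exists_resolution (DerivedCategory.Q.objPreimage x)
  haveI := (DerivedCategory.isIso_Q_map_iff_quasiIso _ q).2 hq
  let e := asIso (DerivedCategory.Q.map q) ≪≫ DerivedCategory.Q.objObjPreimageIso x
  have hP' : (DCoh.LTensorCx K).map (r • 𝟙 (DerivedCategory.Q.obj P)) =
      r • 𝟙 ((DCoh.LTensorCx K).obj (DerivedCategory.Q.obj P)) := by
    haveI := Assoc.isIso_counit K P hP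
    let α := (DCoh.tensorCxQ K).totalLeftDerivedCounit DerivedCategory.Q
      (HomologicalComplex.quasiIso X.Modules (ComplexShape.up ℤ))
    have h1 : (DCoh.LTensorCx K).map (DerivedCategory.Q.map (r • 𝟙 P)) ≫ α.app P =
        α.app P ≫ DerivedCategory.Q.map ((DCoh.tensorCx.map (r • 𝟙 P)).app K) := α.naturality _
    have h2 : (DCoh.tensorCx.map (r • 𝟙 P)).app K = r • 𝟙 ((DCoh.tensorCx.obj P).obj K) := by
      refine HomologicalComplex.hom_ext _ _ fun n => ?_
      refine HomologicalComplex.mapBifunctor.hom_ext fun p q h => ?_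
      refine (HomologicalComplex.ι_mapBifunctorMap _ _ _ _ _ _ _ _).trans ?_
      simp only [HomologicalComplex.smul_f_apply, HomologicalComplex.id_f, CategoryTheory.Functor.map_id,
        tensorBi_map_smul, Category.id_comp, Category.comp_id, Linear.comp_smul, Linear.smul_comp]
      exact congrArg (r • ·) (Category.comp_id _).symm
    rw [← cancel_mono (α.app P),
      show r • 𝟙 (DerivedCategory.Q.obj P) = DerivedCategory.Q.map (r • 𝟙 P) by
        rw [Functor.map_smul, CategoryTheory.Functor.map_id]]
    refine h1.trans ?_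
    rw [h2, Functor.map_smul]
    erw [CategoryTheory.Functor.map_id, Linear.comp_smul, Category.comp_id, Linear.smul_comp, Category.id_comp]
    try rfl
  rw [RingHom.id_apply, show r • 𝟙 x = e.inv ≫ (r • 𝟙 (DerivedCategory.Q.obj P)) ≫ e.hom by
    rw [Linear.smul_comp, Category.id_comp, Linear.comp_smul, e.inv_hom_id], Functor.map_comp, Functor.map_comp, hP',
    Linear.smul_comp, Category.id_comp, Linear.comp_smul, ← Functor.map_comp, e.inv_hom_id,
    CategoryTheory.Functor.map_id]

variable (K : CochainComplex X.Modules ℤ) [DCoh.HasLTensorCx K] [DCoh.HasRSheafHom K]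

/-- derived internal Hom is linear -/
theorem RSheafHom_smul {M N : DCoh.D X} (r : A) (v : M ⟶ N) :
    (DCoh.RSheafHom K).map (r • v) = r • (DCoh.RSheafHom K).map v := by
  apply ((DCoh.RSheafHomAdj K).homEquiv _ _).symm.injective
  rw [Adjunction.homEquiv_counit, Adjunction.homEquiv_counit, (sl_LTensorCx K).map_smul, RingHom.id_apply,
    Linear.smul_comp]
  erw [(DCoh.RSheafHomAdj K).counit.naturality (r • v), (DCoh.RSheafHomAdj K).counit.naturality v]
  simp

end Groth.L29.BCAdj
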