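import Groth.Agent.L29.BCAdj.HomFlatGlobal
import Groth.Agent.L29.RelPC.FlatPull
import Groth.Agent.L29.DCoh.Gen.ApproxMain
import Groth.Agent.L29.DCoh.PCQCoh

/-!
Flat base change of Hom groups out of pseudo-coherent objects into bounded below ones.
-/

set_option autoImplicit false
set_option backward.defeqAttrib.useBackward true
set_option backward.isDefEq.respectTransparency false
set_option backward.isDefEq.respectTransparency.types false

universe u

open CategoryTheory CategoryTheory.Limits CategoryTheory.Pretriangulated AlgebraicGeometry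
open scoped TensorProduct

attribute [local instance] HasDerivedCategory.standard

namespace Groth.L29.BCAdj

open Groth.L00 Groth.L29.DC

variable {A B : Type u} [CommRing A] [CommRing B] [Algebra A B] [Module.Flat A B]
  {X X' : Scheme.{u}} [X.Over (Spec (CommRingCat.of A))] [X'.Over (Spec (CommRingCat.of B))]
  {g' : X' ⟶ X} [DCoh.HasRpush g'] [DCoh.HasLpull g']
  (hc : IsPullback g' (X' ↘ Spec (CommRingCat.of B)) (X ↘ Spec (CommRingCat.of A))
    (Spec.map (CommRingCat.ofHom (algebraMap A B))))

/-- flat pullback preserves lower bounds -/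
theorem isGE_Lpull_flat {Z Z' : Scheme.{u}} (k : Z' ⟶ Z) [Flat k] [DCoh.HasLpull k] (K : DCoh.D Z) (n : ℤ)
    (h : K.IsGE n) : ((DCoh.Lpull k).obj K).IsGE n := by
  haveI := RelPC.additive_pullback k
  haveI := RelPC.preservesFiniteColimits_pullback k
  haveI := RelPC.preservesFiniteLimits_pullback k
  obtain ⟨e⟩ := RelPC.nonempty_Lpull_flat k K
  haveI := h
  haveI : ((Scheme.Modules.pullback k).mapDerivedCategory.obj K).IsGE n := Groth.L10.DerivedAdj.isGE_map K n
  exact DerivedCategory.TStructure.t.isGE_of_iso e.symm n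

/-- flat pullback preserves upper bounds -/
theorem isLE_Lpull_flat {Z Z' : Scheme.{u}} (k : Z' ⟶ Z) [Flat k] [DCoh.HasLpull k] (K : DCoh.D Z) (n : ℤ)
    (h : K.IsLE n) : ((DCoh.Lpull k).obj K).IsLE n := by
  haveI := RelPC.additive_pullback k
  haveI := RelPC.preservesFiniteColimits_pullback k
  haveI := RelPC.preservesFiniteLimits_pullback k
  obtain ⟨e⟩ := RelPC.nonempty_Lpull_flat k K
  haveI := h
  haveI : ((Scheme.Modules.pullback k).mapDerivedCategory.obj K).IsLE n := Groth.L10.DerivedAdj.isLE_map K n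
  exact DerivedCategory.TStructure.t.isLE_of_iso e.symm n

include hc in
set_option maxHeartbeats 800000 in
/-- flat base change of maps out of pseudo-coherent objects into bounded below objects -/
theorem bij_pc [CompactSpace X] [QuasiSeparatedSpace X]
    (hL : SL (C := DCoh.D X) (C' := DCoh.D X') (algebraMap A B) (DCoh.Lpull g')) [(DCoh.Lpull g').Additive]
    {N x : DCoh.D X} (hNq : DCoh.IsQCohD N) (hN : ∀ m, DCoh.IsPseudoCoherentD m N) (hx : DCoh.IsQCohD x) (c : ℤ)
    (hge : x.IsGE c) : Bij (DCoh.Lpull g') hL N x := by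
  letI := BC.commShiftLpull g'
  haveI := BC.isTriangulated_Lpull g'
  haveI hS : Flat (Spec.map (CommRingCat.ofHom (algebraMap A B))) := by
    rw [HasRingHomProperty.Spec_iff (P := @Flat)]
    exact RingHom.flat_algebraMap_iff.2 inferInstance
  haveI : Flat g' := MorphismProperty.of_isPullback hc.flip hS
  obtain ⟨r, hr⟩ := Gen.approxHolds X ⊥ (by simp)
  obtain ⟨P, α, hP, -, hα⟩ := hr (c - 2) N hNq (hN _) (fun i _ y hy => absurd hy (by simp))
  obtain ⟨C, q, d, hT⟩ := distinguished_cocone_triangle α
  haveI hC : C.IsLE (c - 3) := by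
    have h := (approx_iff_triangle _ hT (c - 2)).1 hα
    rwa [show c - 2 - 1 = c - 3 by omega] at h
  have hzero : ∀ W : DCoh.D X, W.IsLE (c - 1) → Bij (DCoh.Lpull g') hL W x := fun W hW => by
    have h0 : ∀ v : W ⟶ x, v = 0 := fun v =>
      DerivedCategory.TStructure.t.zero_of_isLE_of_isGE v (c - 1) c (by omega) hW hge
    refine ⟨fun a b _ => ?_, fun v => ⟨0, ?_⟩⟩
    · have h2 : ∀ z : B ⊗[A] (W ⟶ x), z = 0 := fun z => by
        induction z using TensorProduct.induction_on with
        | zero => rfl
        | tmul b v => rw [h0 v, TensorProduct.tmul_zero]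
        | add a c ha hc => rw [ha, hc, add_zero]
      rw [h2 a, h2 b]
    · rw [map_zero]
      exact (DerivedCategory.TStructure.t.zero_of_isLE_of_isGE v (c - 1) c (by omega)
        (isLE_Lpull_flat g' W _ hW) (isGE_Lpull_flat g' x c hge)).symm
  refine Bij.middle_left _ _ _ hT x (bij_perfect hc hL hP hx)
    (hzero _ (DerivedCategory.TStructure.t.isLE_of_le C (c - 3) (c - 1) (by omega)))
    (hzero _ ?_) (bij_perfect hc hL (perfect_shift hP 1) hx)
  haveI := DerivedCategory.TStructure.t.isLE_shift C (c - 3) (-1) (c - 2) (by omega)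
  exact DerivedCategory.TStructure.t.isLE_of_le (C⟦(-1 : ℤ)⟧) (c - 2) (c - 1) (by omega)

end Groth.L29.BCAdj
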