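import Groth.Agent.L29.BC.TorGlobal
import Groth.Agent.L29.BC.PerfectPush
import Groth.Agent.L29.BC.AdjCoprod
import Groth.Agent.L29.BC.PerfOfCoprod
import Groth.Agent.L29.DCoh.RpushAffine
import Groth.Agent.L29.DCoh.Restrict

/-!
Preservation of perfect objects by direct images passes to tor-independent base changes.
-/

set_option autoImplicit false
set_option backward.defeqAttrib.useBackward true
set_option backward.isDefEq.respectTransparency false
set_option backward.isDefEq.respectTransparency.types false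

universe u

open CategoryTheory CategoryTheory.Limits CategoryTheory.Pretriangulated AlgebraicGeometry

attribute [local instance] HasDerivedCategory.standard

namespace Groth.L29.BCAdj

open Groth.L00 Groth.L29.DC Groth.L29.Thick

variable {X Y X' Y' : Scheme.{u}} {f : X ⟶ Y} {g : Y' ⟶ Y} {g' : X' ⟶ X} {f' : X' ⟶ Y'}
  [DCoh.HasRpush f] [DCoh.HasRpush g] [DCoh.HasRpush f'] [DCoh.HasRpush g'] [DCoh.HasLpull g] [DCoh.HasLpull g']

set_option maxHeartbeats 800000 in
/-- base change of perfect direct images -/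
theorem perfect_baseChange [CompactSpace X] [QuasiSeparatedSpace X] [CompactSpace X'] [QuasiSeparatedSpace X']
    [QuasiSeparatedSpace Y] [QuasiSeparatedSpace Y'] (hc : IsPullback g' f' f g) (hbc : BC.BC hc.w)
    (hperf : ∀ P : DCoh.D X, DCoh.IsPerfect P → DCoh.IsPerfect ((DCoh.Rpush f).obj P))
    {P' : DCoh.D X'} (hP' : DCoh.IsPerfect P') : DCoh.IsPerfect ((DCoh.Rpush f').obj P') := by
  haveI := fun {A B : Scheme.{u}} (h : A ⟶ B) => RpushQC.hasRpush h
  haveI := fun {A B : Scheme.{u}} (h : A ⟶ B) => KFlat.hasLpull h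
  obtain ⟨G, hG, hgen⟩ := Gen.exists_perfect_generator X
  refine EvalMain.isPerfect_of_local fun y => ?_
  obtain ⟨_, ⟨(V : Y.Opens), hV, rfl⟩, hyV, -⟩ :=
    Y.isBasis_affineOpens.exists_subset_of_mem_open (Set.mem_univ (g y)) isOpen_univ
  obtain ⟨_, ⟨(V' : Y'.Opens), hV', rfl⟩, hyV', hle⟩ :=
    Y'.isBasis_affineOpens.exists_subset_of_mem_open (show y ∈ g ⁻¹ᵁ V from hyV) (g ⁻¹ᵁ V).2
  haveI : IsAffine (V : Scheme.{u}) := hV
  haveI : IsAffine (V' : Scheme.{u}) := hV'
  let W := f ⁻¹ᵁ V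
  let W' := f' ⁻¹ᵁ V'
  have h' : W' ≤ g' ⁻¹ᵁ W := fun x hx => by
    show f (g' x) ∈ V
    rw [← Scheme.Hom.comp_apply, hc.w, Scheme.Hom.comp_apply]
    exact hle hx
  let k := g'.resLE W W' h'
  let g₀ := g.resLE V V' hle
  have ek : k ≫ W.ι = W'.ι ≫ g' := Scheme.Hom.resLE_comp_ι _ _
  have eg : g₀ ≫ V.ι = V'.ι ≫ g := Scheme.Hom.resLE_comp_ι _ _
  have hk : IsPullback W'.ι (f' ∣_ V') f' V'.ι := (isPullback_morphismRestrict f' V').flip
  have hi : IsPullback W.ι (f ∣_ V) f V.ι := (isPullback_morphismRestrict f V).flip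
  have htot : IsPullback (k ≫ W.ι) (f' ∣_ V') f (g₀ ≫ V.ι) := by
    rw [eg, ek]
    exact hk.paste_horiz hc
  have hc₀ : IsPullback k (f' ∣_ V') (f ∣_ V) g₀ := IsPullback.of_right htot (by
    rw [← cancel_mono V.ι]
    simp only [Category.assoc, morphismRestrict_ι, eg]
    rw [reassoc_of% ek, hc.w, morphismRestrict_ι_assoc]) hi
  haveI : IsAffineHom k := MorphismProperty.of_isPullback hc₀.flip inferInstance
  haveI : CompactSpace (V' : Scheme.{u}) := isCompact_iff_compactSpace.1 hV'.isCompact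
  haveI : CompactSpace (W' : Scheme.{u}) := isCompact_iff_compactSpace.1 (f'.isCompact_preimage hV'.isCompact)
  haveI : QuasiSeparatedSpace (W' : Scheme.{u}) := quasiSeparatedSpace_of_quasiSeparated W'.ι
  let G' := (Gen.res W').obj ((DCoh.Lpull g').obj G)
  have hG' : DCoh.IsPerfect G' := Gen.isPerfect_restrictD _ (isPerfect_Lpull g' hG)
  have hgen' : ∀ E : DCoh.D (W' : Scheme.{u}), DCoh.IsQCohD E → Gen.Ortho G' E → IsZero E := fun E hE hort => by
    let Z := (DCoh.Rpush g').obj ((Gen.push W').obj E)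
    have hZq : DCoh.IsQCohD Z :=
      RpushQC.isQCohD_Rpush g' _ (RpushQC.isQCohD_Rpush W'.ι E hE)
    have hZ : IsZero Z := hgen Z hZq fun n φ => by
      let adj := (BC.adj g').comp (Gen.adj W')
      letI := BC.commShiftLpull g'
      let e : ((DCoh.Lpull g' ⋙ Gen.res W').obj (G⟦n⟧)) ≅ G'⟦n⟧ :=
        (Gen.res W').mapIso (((DCoh.Lpull g').commShiftIso n).app G) ≪≫ ((Gen.res W').commShiftIso n).app _
      refine (adj.homEquiv _ _).symm.injective ?_
      rw [← cancel_epi e.inv]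
      exact (hort n _).trans (hort n _).symm
    have hZ' : IsZero ((DCoh.Rpush W.ι).obj ((DCoh.Rpush k).obj E)) :=
      hZ.of_iso ((BC.e ek).app E)
    have h0 : IsZero ((DCoh.Rpush k).obj E) := by
      haveI := RpushColim.additive_Rpush W.ι
      refine (IsZero.iff_id_eq_zero _).2 ((Gen.push W).map_injective ?_)
      rw [Functor.map_zero]
      exact hZ'.eq_of_src _ _
    exact RpushQC.isZero_of_isZero_Rpush k E hE h0
  have hres : ∀ A : DCoh.D X', Nonempty ((Gen.res V').obj ((DCoh.Rpush f').obj A) ≅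
      (DCoh.Rpush (f' ∣_ V')).obj ((Gen.res W').obj A)) := fun A => by
    obtain ⟨eV⟩ := RpushRes.nonempty_iso f' V'.ι W'.ι (f' ∣_ V')
      (by rw [Scheme.Opens.opensRange_ι, Scheme.Opens.opensRange_ι]) (morphismRestrict_ι f' V')
    exact ⟨eV.app A⟩
  obtain ⟨B, hB, ⟨r⟩⟩ := Gen.exists_retract_of_generator hG' hgen' (Gen.isPerfect_restrictD W'.ι hP')
  have hbase : DCoh.IsPerfect ((DCoh.Rpush (f' ∣_ V')).obj G') := by
    haveI := hbc G (PCQCoh.isQCohD_of_perfect hG)
    obtain ⟨e⟩ := hres ((DCoh.Lpull g').obj G)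
    exact isPerfect_of_iso e (Gen.isPerfect_restrictD V'.ι
      (isPerfect_of_iso (asIso (BC.β hc.w G)) (isPerfect_Lpull g (hperf G hG))))
  letI := Gen.commShiftRpush (f' ∣_ V')
  haveI := Gen.isTriangulated_Rpush (f' ∣_ V')
  have hBp : DCoh.IsPerfect ((DCoh.Rpush (f' ∣_ V')).obj B) := by
    clear r
    induction hB with
    | gen n => exact isPerfect_of_iso (((DCoh.Rpush (f' ∣_ V')).commShiftIso n).app G').symm (perfect_shift hbase n)
    | zero h => exact EvalMain.isPerfect_of_isZero ((DCoh.Rpush (f' ∣_ V')).map_isZero h)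
    | ext T hT _ _ h₁ h₃ =>
      exact (perfect_two_out_of_three ((DCoh.Rpush (f' ∣_ V')).map_distinguished T hT)).2.1 h₁ h₃
    | iso e _ h => exact isPerfect_of_iso ((DCoh.Rpush (f' ∣_ V')).mapIso e) h
  obtain ⟨eP⟩ := hres P'
  exact ⟨V', hyV', isPerfect_of_iso eP.symm (BC.isPerfect_of_retract (r.map (DCoh.Rpush (f' ∣_ V'))) hBp)⟩

/-- the right adjoint of a base change preserves coproducts -/
theorem preservesCoproducts_baseChange [CompactSpace X] [QuasiSeparatedSpace X] [CompactSpace X']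
    [QuasiSeparatedSpace X'] [QuasiSeparatedSpace Y] [CompactSpace Y'] [QuasiSeparatedSpace Y']
    (hc : IsPullback g' f' f g) (hbc : BC.BC hc.w) {hf : DCoh.RpushPreservesQCoh f} {hf' : DCoh.RpushPreservesQCoh f'}
    {a : DCoh.DQCoh Y ⥤ DCoh.DQCoh X} {a' : DCoh.DQCoh Y' ⥤ DCoh.DQCoh X'}
    (adj : DCoh.RpushQ f hf ⊣ a) (adj' : DCoh.RpushQ f' hf' ⊣ a')
    (hcop : ∀ J : Type u, PreservesColimitsOfShape (Discrete J) a) (J : Type u) :
    PreservesColimitsOfShape (Discrete J) a' := by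
  haveI := RpushColim.additive_Rpush f
  haveI := RpushColim.additive_Rpush f'
  haveI : (DCoh.RpushQ f hf).Additive := inferInstance
  haveI : (DCoh.RpushQ f' hf').Additive := inferInstance
  exact BC.AdjCoprod.preservesCoproducts (DCoh.RpushQ f' hf') (fun P hP => perfect_baseChange hc hbc
    (fun Q hQ => BC.AdjCoprod.perfect_of_preservesCoproducts _ a adj hcop ⟨Q, PCQCoh.isQCohD_of_perfect hQ⟩ hQ) hP)
    a' adj' J

end Groth.L29.BCAdj
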