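import Groth.Agent.L29.BCAdj.Mate
import Groth.Agent.L29.BCAdj.HomFlatPC
import Groth.Agent.L29.BCAdj.ScalarPush
import Groth.Agent.L29.BCAdj.PerfBase
import Groth.Agent.L29.BC.Global
import Groth.Prelude.Def_Dual3

/-!
Flat base change of right adjoints of derived direct images over affine bases.
-/

set_option autoImplicit false
set_option backward.defeqAttrib.useBackward true
set_option backward.isDefEq.respectTransparency false
set_option backward.isDefEq.respectTransparency.types false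

universe u v v' w w'

open CategoryTheory CategoryTheory.Limits CategoryTheory.Pretriangulated AlgebraicGeometry
open scoped TensorProduct

attribute [local instance] HasDerivedCategory.standard

namespace Groth.L29.BCAdj

open Groth.L00 Groth.L29.DC Groth.L29.BC.Paste

section Square

variable {A B : Type u} [CommRing A] [CommRing B] [Algebra A B]
  {C : Type w} [Category.{v} C] [Preadditive C] [Linear A C]
  {C' : Type w'} [Category.{v'} C'] [Preadditive C'] [Linear B C']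

/-- a map between base changed Hom groups is bijective -/
theorem bijective_of_square {C₂ : Type w} [Category.{v} C₂] [Preadditive C₂] [Linear A C₂]
    {C₂' : Type w'} [Category.{v'} C₂'] [Preadditive C₂'] [Linear B C₂']
    {L : C ⥤ C'} [L.Additive] {hL : SL (algebraMap A B) L} {L₂ : C₂ ⥤ C₂'} [L₂.Additive]
    {hL₂ : SL (algebraMap A B) L₂} {P x : C} {P₂ x₂ : C₂} (fA : (P ⟶ x) →ₗ[A] (P₂ ⟶ x₂))
    (hf : Function.Bijective fA) (g : (L.obj P ⟶ L.obj x) →+ (L₂.obj P₂ ⟶ L₂.obj x₂))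
    (h : ∀ (b : B) (v : P ⟶ x), g (b • L.map v) = b • L₂.map (fA v)) (h₁ : Bij L hL P x)
    (h₂ : Bij L₂ hL₂ P₂ x₂) : Function.Bijective g := by
  have key : ∀ z, g (T L hL P x z) = T L₂ hL₂ P₂ x₂ (fA.lTensor B z) := fun z => by
    induction z using TensorProduct.induction_on with
    | zero => simp
    | tmul b v => rw [LinearMap.lTensor_tmul, T_tmul, T_tmul, h]
    | add a c ha hc => simp [ha, hc]
  have hl : Function.Bijective (fA.lTensor B) := ((LinearEquiv.ofBijective fA hf).lTensor B).bijective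
  refine (Function.Bijective.of_comp_iff (g : _ → _) h₁).1 ?_
  rw [show (g ∘ T L hL P x : _ → _) = T L₂ hL₂ P₂ x₂ ∘ fA.lTensor B from funext key]
  exact h₂.comp hl

end Square

variable {X Y X' Y' : Scheme.{u}}

/-- maps of quasi-coherent objects are maps in `D(O)` -/
noncomputable def homQ {K M : DCoh.DQCoh X} : (K ⟶ M) ≃ (K.obj ⟶ M.obj) :=
  ⟨fun u => u.hom, ObjectProperty.homMk, fun _ => rfl, fun _ => rfl⟩

/-- `Lg^* ⊣ Rg_*` on complexes with quasi-coherent cohomology -/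
noncomputable def adjQ (g : Y' ⟶ Y) [DCoh.HasRpush g] [DCoh.HasLpull g] (hg : DCoh.RpushPreservesQCoh g)
    (hLg : Dual3.LpullPreservesQCoh g) : Dual3.LpullQ g hLg ⊣ DCoh.RpushQ g hg :=
  Adjunction.mkOfHomEquiv
    { homEquiv := fun K M =>
        { toFun := fun u => ObjectProperty.homMk ((BC.adj g).homEquiv K.obj M.obj u.hom)
          invFun := fun v => ObjectProperty.homMk (((BC.adj g).homEquiv K.obj M.obj).symm v.hom)
          left_inv := fun u => ObjectProperty.hom_ext _ (((BC.adj g).homEquiv K.obj M.obj).symm_apply_apply u.hom)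
          right_inv := fun v => ObjectProperty.hom_ext _ (((BC.adj g).homEquiv K.obj M.obj).apply_symm_apply v.hom) }
      homEquiv_naturality_left_symm := fun {K K' M} u v => ObjectProperty.hom_ext _
        ((BC.adj g).homEquiv_naturality_left_symm u.hom v.hom)
      homEquiv_naturality_right := fun {K M M'} u v => ObjectProperty.hom_ext _
        ((BC.adj g).homEquiv_naturality_right u.hom v.hom) }

theorem adjQ_homEquiv (g : Y' ⟶ Y) [DCoh.HasRpush g] [DCoh.HasLpull g] (hg : DCoh.RpushPreservesQCoh g)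
    (hLg : Dual3.LpullPreservesQCoh g) {K : DCoh.DQCoh Y} {M : DCoh.DQCoh Y'}
    (u : (Dual3.LpullQ g hLg).obj K ⟶ M) :
    ((adjQ g hg hLg).homEquiv K M u).hom = (BC.adj g).homEquiv K.obj M.obj u.hom := by
  simp only [adjQ, Adjunction.mkOfHomEquiv_homEquiv]
  rfl

variable {f : X ⟶ Y} {g : Y' ⟶ Y} {g' : X' ⟶ X} {f' : X' ⟶ Y'}
  [DCoh.HasRpush f] [DCoh.HasRpush g] [DCoh.HasRpush f'] [DCoh.HasRpush g']
  {hf : DCoh.RpushPreservesQCoh f} {hf' : DCoh.RpushPreservesQCoh f'}
  {hg : DCoh.RpushPreservesQCoh g} {hg' : DCoh.RpushPreservesQCoh g'}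

variable (hf hf' hg hg') in
/-- the identification of the composites of derived direct images on quasi-coherent objects -/
noncomputable def eQ (w : g' ≫ f = f' ≫ g) :
    DCoh.RpushQ g' hg' ⋙ DCoh.RpushQ f hf ≅ DCoh.RpushQ f' hf' ⋙ DCoh.RpushQ g hg :=
  NatIso.ofComponents (fun K => ObjectProperty.isoMk _ ((BC.e w).app K.obj))
    fun {K M} u => ObjectProperty.hom_ext _ ((BC.e w).hom.naturality u.hom)

variable [DCoh.HasLpull g] [DCoh.HasLpull g'] {hLg : Dual3.LpullPreservesQCoh g}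
  {hLg' : Dual3.LpullPreservesQCoh g'}
  (adjg : Dual3.LpullQ g hLg ⊣ DCoh.RpushQ g hg) (adjg' : Dual3.LpullQ g' hLg' ⊣ DCoh.RpushQ g' hg')

/-- base change holds on quasi-coherent objects, for any choice of adjunctions -/
theorem isIso_bcQ {w : g' ≫ f = f' ≫ g} (h : BC.BC w) (E : DCoh.DQCoh X) :
    IsIso (bc adjg adjg' (eQ hf hf' hg hg' w) E) := by
  rw [isIso_bc_iff (adjQ g hg hLg) (adjQ g' hg' hLg') adjg adjg']
  have hE := h E.obj E.property
  have he : (bc (adjQ g hg hLg) (adjQ g' hg' hLg') (eQ hf hf' hg hg' w) E).hom = BC.β w E.obj := by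
    apply ((BC.adj g).homEquiv _ _).injective
    refine (adjQ_homEquiv g hg hLg _).symm.trans ?_
    rw [homEquiv_bc]
    refine Eq.trans ?_ (Equiv.apply_symm_apply _ _).symm
    have hu : ((adjQ g' hg' hLg').unit.app E).hom = (BC.adj g').unit.app E.obj := by
      rw [← Adjunction.homEquiv_id, ← Adjunction.homEquiv_id]
      exact adjQ_homEquiv g' hg' hLg' _
    change (DCoh.Rpush f).map ((adjQ g' hg' hLg').unit.app E).hom ≫ (BC.e w).hom.app _ = _
    rw [hu]
    rfl
  haveI : IsIso ((DCoh.IsQCohD (X := Y')).ι.map (bc (adjQ g hg hLg) (adjQ g' hg' hLg') (eQ hf hf' hg hg' w) E)) := by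
    change IsIso (bc (adjQ g hg hLg) (adjQ g' hg' hLg') (eQ hf hf' hg hg' w) E).hom
    rw [he]
    exact hE
  exact isIso_of_reflects_iso _ (DCoh.IsQCohD (X := Y')).ι

/-- the pullback of a generator along an affine morphism generates -/
theorem gen_Lpull (k : X' ⟶ X) [IsAffineHom k] [DCoh.HasLpull k] [DCoh.HasRpush k] {G : DCoh.D X}
    (hgen : ∀ E : DCoh.D X, DCoh.IsQCohD E → Gen.Ortho G E → IsZero E) (E : DCoh.D X') (hE : DCoh.IsQCohD E)
    (hort : Gen.Ortho ((DCoh.Lpull k).obj G) E) : IsZero E := by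
  refine RpushQC.isZero_of_isZero_Rpush k E hE (hgen _ (RpushQC.isQCohD_Rpush k E hE) fun n φ => ?_)
  letI := BC.commShiftLpull k
  apply ((BC.adj k).homEquiv _ _).symm.injective
  rw [← cancel_epi ((((DCoh.Lpull k).commShiftIso n).app G).inv)]
  exact (hort n _).trans (hort n _).symm

open Groth.L29.BCAdj.Mate in
set_option maxHeartbeats 1600000 in
/-- Over affine bases, the base change map of right adjoints at `K` is invertible as soon as maps out of direct
images of perfect objects into `K` commute with the base change. -/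
theorem isIso_bcMap_affine [CompactSpace X] [QuasiSeparatedSpace X] [IsAffine Y] [IsAffine Y'] [Flat g]
    (hsq : IsPullback g' f' f g) {a : DCoh.DQCoh Y ⥤ DCoh.DQCoh X} {a' : DCoh.DQCoh Y' ⥤ DCoh.DQCoh X'}
    (adj : DCoh.RpushQ f hf ⊣ a) (adj' : DCoh.RpushQ f' hf' ⊣ a')
    (hθ : ∀ E, IsIso (bc adjg adjg' (eQ hf hf' hg hg' hsq.w) E)) (K : DCoh.DQCoh Y)
    (hξ : IsIso (Dual3.xi adj adj' (eQ hf hf' hg hg' hsq.w) ((Dual3.LpullQ g hLg).obj K)))
    (hbij : letI := g.appTop.hom.toAlgebra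
      letI : Y.Over (Spec Γ(Y, ⊤)) := ⟨Y.isoSpec.hom⟩
      letI : Y'.Over (Spec Γ(Y', ⊤)) := ⟨Y'.isoSpec.hom⟩
      ∀ (hL : SL (C := DCoh.D Y) (C' := DCoh.D Y') (algebraMap Γ(Y, ⊤) Γ(Y', ⊤)) (DCoh.Lpull g))
        [(DCoh.Lpull g).Additive] (P : DCoh.D X), DCoh.IsPerfect P →
          Bij (DCoh.Lpull g) hL ((DCoh.Rpush f).obj P) K.obj) :
    IsIso (Dual3.bcMap adj adj' (eQ hf hf' hg hg' hsq.w) adjg adjg' K hξ) := by
  letI := g.appTop.hom.toAlgebra
  letI iY : Y.Over (Spec Γ(Y, ⊤)) := ⟨Y.isoSpec.hom⟩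
  letI iY' : Y'.Over (Spec Γ(Y', ⊤)) := ⟨Y'.isoSpec.hom⟩
  letI iX : X.Over (Spec Γ(Y, ⊤)) := ⟨f ≫ Y.isoSpec.hom⟩
  letI iX' : X'.Over (Spec Γ(Y', ⊤)) := ⟨f' ≫ Y'.isoSpec.hom⟩
  haveI : Module.Flat Γ(Y, ⊤) Γ(Y', ⊤) :=
    RingHom.flat_algebraMap_iff.1 ((HasRingHomProperty.iff_of_isAffine (P := @Flat)).1 (inferInstance : Flat g))
  haveI : IsAffineHom g' := MorphismProperty.of_isPullback hsq.flip inferInstance
  have hgY : g ≫ (Y ↘ Spec Γ(Y, ⊤)) =
      (Y' ↘ Spec Γ(Y', ⊤)) ≫ Spec.map (CommRingCat.ofHom (algebraMap Γ(Y, ⊤) Γ(Y', ⊤))) :=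
    (Scheme.isoSpec_hom_naturality g).symm
  have hc : IsPullback g' (X' ↘ Spec Γ(Y', ⊤)) (X ↘ Spec Γ(Y, ⊤))
      (Spec.map (CommRingCat.ofHom (algebraMap Γ(Y, ⊤) Γ(Y', ⊤)))) :=
    hsq.of_iso (Iso.refl _) (Iso.refl _) Y'.isoSpec Y.isoSpec (by simp) (by simp; rfl) (by simp; rfl) hgY
  have hgX : g' ≫ (X ↘ Spec Γ(Y, ⊤)) =
      (X' ↘ Spec Γ(Y', ⊤)) ≫ Spec.map (CommRingCat.ofHom (algebraMap Γ(Y, ⊤) Γ(Y', ⊤))) := hc.w
  have hfA : f ≫ (Y ↘ Spec Γ(Y, ⊤)) =
      (X ↘ Spec Γ(Y, ⊤)) ≫ Spec.map (CommRingCat.ofHom (RingHom.id Γ(Y, ⊤))) := by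
    rw [CommRingCat.ofHom_id, Spec.map_id]; exact (Category.comp_id _).symm
  have hfB : f' ≫ (Y' ↘ Spec Γ(Y', ⊤)) =
      (X' ↘ Spec Γ(Y', ⊤)) ≫ Spec.map (CommRingCat.ofHom (RingHom.id Γ(Y', ⊤))) := by
    rw [CommRingCat.ofHom_id, Spec.map_id]; exact (Category.comp_id _).symm
  letI := BC.commShiftLpull g'
  haveI := BC.isTriangulated_Lpull g'
  letI := BC.commShiftLpull g
  haveI := BC.isTriangulated_Lpull g
  haveI := Groth.L17.PushQCoh.additive_push f'
  haveI := RpushColim.additive_Rpush f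
  haveI := RpushColim.additive_Rpush f'
  haveI hAdd : (DCoh.Lpull g).Additive := inferInstance
  have hLX := sl_Lpull (algebraMap Γ(Y, ⊤) Γ(Y', ⊤)) g' hgX
  have hLY := sl_Lpull (algebraMap Γ(Y, ⊤) Γ(Y', ⊤)) g hgY
  set e := eQ hf hf' hg hg' hsq.w with he
  set β := Dual3.bcMap adj adj' e adjg adjg' K hξ with hβdef
  have hβ : (adj'.homEquiv _ _).symm β =
      @inv _ _ _ _ (bc adjg adjg' e (a.obj K)) (hθ _) ≫ (Dual3.LpullQ g hLg).map (adj.counit.app K) :=
    haveI := hθ (a.obj K)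
    symm_bcMap adj adj' e adjg adjg' K hξ
  obtain ⟨G, hG, hgen⟩ := Gen.exists_perfect_generator X
  have hG' : DCoh.IsPerfect ((DCoh.Lpull g').obj G) := isPerfect_Lpull g' hG
  haveI := BC.AdjCoprod.isIso_of_bijective (G := (DCoh.Lpull g').obj G) (gen_Lpull g' hgen)
    ((Dual3.LpullQ g' hLg').obj (a.obj K)).property (a'.obj _).property β.hom (fun n => by
    let P : DCoh.DQCoh X := ⟨G⟦n⟧, Gen.isQCohD_shift (PCQCoh.isQCohD_of_perfect hG) n⟩
    have hP : DCoh.IsPerfect P.obj := perfect_shift hG n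
    let LP := (Dual3.LpullQ g' hLg').obj P
    let M := (Dual3.LpullQ g hLg).obj K
    haveI := hθ P
    haveI := hθ (a.obj K)
    let Ψ : (LP.obj ⟶ (a'.obj M).obj) → ((DCoh.Lpull g).obj ((DCoh.Rpush f).obj P.obj) ⟶ M.obj) :=
      fun w => (bc adjg adjg' e P).hom ≫ (DCoh.Rpush f').map w ≫ (adj'.counit.app M).hom
    have hΨ : Function.Bijective Ψ := by
      let E : (LP ⟶ a'.obj M) ≃ ((Dual3.LpullQ g hLg).obj ((DCoh.RpushQ f hf).obj P) ⟶ M) :=
        (adj'.homEquiv _ _).symm.trans ((asIso (bc adjg adjg' e P)).symm.homCongr (Iso.refl _))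
      have h2 : Ψ = homQ ∘ E ∘ (homQ (K := LP) (M := a'.obj M)).symm := funext fun w => by
        simp [Ψ, E, homQ, Adjunction.homEquiv_counit, Iso.homCongr]
      rw [h2]
      exact ((Equiv.bijective _).comp (Equiv.bijective _)).comp (Equiv.bijective _)
    let fA : (P.obj ⟶ (a.obj K).obj) →ₗ[Γ(Y, ⊤)] ((DCoh.Rpush f).obj P.obj ⟶ K.obj) :=
      { toFun := fun u => (DCoh.Rpush f).map u ≫ (adj.counit.app K).hom
        map_add' := fun u u' => by
          rw [Functor.map_add]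
          exact Preadditive.add_comp _ _ _ _ _ _
        map_smul' := fun r u => by
          have hs := Rpush_smul (RingHom.id Γ(Y, ⊤)) f hfA r u
          simp only [RingHom.id_apply] at hs ⊢
          rw [hs]
          exact Linear.smul_comp _ _ _ _ _ _ }
    have hfAb : Function.Bijective fA := by
      have h2 : (fA : _ → _) = homQ ∘ (adj.homEquiv P K).symm ∘ (homQ (K := P) (M := a.obj K)).symm :=
        funext fun w => by simp [fA, homQ, Adjunction.homEquiv_counit]
      rw [h2]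
      exact ((Equiv.bijective _).comp (Equiv.bijective _)).comp (Equiv.bijective _)
    let gg : ((DCoh.Lpull g').obj P.obj ⟶ (DCoh.Lpull g').obj (a.obj K).obj) →+
        ((DCoh.Lpull g).obj ((DCoh.Rpush f).obj P.obj) ⟶ (DCoh.Lpull g).obj K.obj) :=
      AddMonoidHom.mk' (fun w => Ψ (w ≫ β.hom)) fun w w' => by
        simp only [Ψ, Preadditive.add_comp, Functor.map_add, Preadditive.comp_add]
    have hkey : ∀ u : P.obj ⟶ (a.obj K).obj, gg ((DCoh.Lpull g').map u) = (DCoh.Lpull g).map (fA u) := fun u => by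
      have h3 := congrArg homQ
        (symm_comp_map adj adj' e adjg adjg' K (ObjectProperty.homMk u : P ⟶ a.obj K) β hβ)
      rw [Adjunction.homEquiv_counit, Adjunction.homEquiv_counit] at h3
      exact h3
    have hgg : Function.Bijective gg := by
      refine bijective_of_square fA hfAb gg (fun b u => ?_) (bij_perfect hc hLX hP (a.obj K).property)
        (hbij hLY _ hP)
      rw [← hkey]
      simp only [gg, AddMonoidHom.mk'_apply, Ψ, Linear.smul_comp]
      have hs := Rpush_smul (RingHom.id Γ(Y', ⊤)) f' hfB b ((DCoh.Lpull g').map u ≫ β.hom)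
      simp only [RingHom.id_apply] at hs
      erw [hs]
      erw [Linear.smul_comp, Linear.comp_smul]
    have h4 : Function.Bijective fun w : (DCoh.Lpull g').obj P.obj ⟶ (DCoh.Lpull g').obj (a.obj K).obj => w ≫ β.hom :=
      (hΨ.of_comp_iff' _).1 hgg
    let i := ((DCoh.Lpull g').commShiftIso n).app G
    refine ⟨fun x y hxy => (cancel_epi i.hom).1 (h4.injective ?_), fun y => ?_⟩
    · simp only [Category.assoc]
      exact congrArg (i.hom ≫ ·) hxy
    · obtain ⟨w, hw⟩ := h4.surjective (i.hom ≫ y)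
      refine ⟨i.inv ≫ w, ?_⟩
      have := congrArg (i.inv ≫ ·) hw
      simpa using this)
  haveI : IsIso ((DCoh.IsQCohD (X := X')).ι.map β) := this
  exact isIso_of_reflects_iso β (DCoh.IsQCohD (X := X')).ι

end Groth.L29.BCAdj
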