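import Groth.Agent.L29.BCAdj.Mate

/-!
The base change map of right adjoints is characterised by compatibility with the traces; pasting.
-/

set_option autoImplicit false

open CategoryTheory

namespace Groth.L29.BCAdj.Mate

open Groth.L29.AdjSquare Groth.L29.BC.Paste

variable {CX CY CX' CY' : Type*} [Category CX] [Category CY] [Category CX'] [Category CY']
variable {F : CX ⥤ CY} {F' : CX' ⥤ CY'} {G : CY' ⥤ CY} {G' : CX' ⥤ CX}
variable {a : CY ⥤ CX} {a' : CY' ⥤ CX'} {L : CY ⥤ CY'} {L' : CX ⥤ CX'}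

/-- compatibility with the traces -/
def Tr (adj : F ⊣ a) (adj' : F' ⊣ a') (e : G' ⋙ F ≅ F' ⋙ G) (adjg : L ⊣ G) (adjg' : L' ⊣ G') (K : CY)
    (β : L'.obj (a.obj K) ⟶ a'.obj (L.obj K)) : Prop :=
  bc adjg adjg' e (a.obj K) ≫ F'.map β ≫ adj'.counit.app (L.obj K) = L.map (adj.counit.app K)

variable (adj : F ⊣ a) (adj' : F' ⊣ a') (e : G' ⋙ F ≅ F' ⋙ G) (adjg : L ⊣ G) (adjg' : L' ⊣ G')

lemma tr_bcMap (K : CY) (hξ : IsIso (xi adj adj' e (L.obj K))) :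
    Tr adj adj' e adjg adjg' K (L'.map (a.map (adjg.unit.app K)) ≫
        L'.map (@inv _ _ _ _ (xi adj adj' e (L.obj K)) hξ) ≫ adjg'.counit.app (a'.obj (L.obj K))) :=
  trace_compat adj adj' e adjg adjg' K hξ

variable {adj adj' e adjg adjg'}

lemma Tr.unique {K : CY} [IsIso (bc adjg adjg' e (a.obj K))] {β β' : L'.obj (a.obj K) ⟶ a'.obj (L.obj K)}
    (h : Tr adj adj' e adjg adjg' K β) (h' : Tr adj adj' e adjg adjg' K β') : β = β' := by
  apply (adj'.homEquiv _ _).symm.injective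
  rw [Adjunction.homEquiv_counit, Adjunction.homEquiv_counit, ← cancel_epi (bc adjg adjg' e (a.obj K))]
  exact h.trans h'.symm

/-- changing the pullback adjunctions -/
lemma Tr.congr {L₂ : CY ⥤ CY'} {L₂' : CX ⥤ CX'} {K : CY} (A₂ : L₂ ⊣ G) (A₂' : L₂' ⊣ G')
    {β : L'.obj (a.obj K) ⟶ a'.obj (L.obj K)} (h : Tr adj adj' e adjg adjg' K β) :
    Tr adj adj' e A₂ A₂' K ((adjg'.leftAdjointUniq A₂').inv.app (a.obj K) ≫ β ≫
      a'.map ((adjg.leftAdjointUniq A₂).hom.app K)) := by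
  unfold Tr at h ⊢
  rw [← cancel_epi ((adjg.leftAdjointUniq A₂).hom.app (F.obj (a.obj K)))]
  have h1 := bc_congr adjg adjg' A₂ A₂' e (a.obj K)
  have h2 := (adjg.leftAdjointUniq A₂).hom.naturality (adj.counit.app K)
  dsimp at h2
  rw [reassoc_of% h1, ← h2, ← F'.map_comp_assoc, Iso.hom_inv_id_app_assoc, Functor.map_comp, Category.assoc,
    show F'.map (a'.map ((adjg.leftAdjointUniq A₂).hom.app K)) ≫ adj'.counit.app (L₂.obj K) = _ from
      adj'.counit.naturality ((adjg.leftAdjointUniq A₂).hom.app K)]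
  dsimp
  rw [reassoc_of% h]

section Vertical

variable {CX'' CY'' : Type*} [Category CX''] [Category CY'']
  {K₂ : CY' ⥤ CY''} {H : CY'' ⥤ CY'} {K₂' : CX' ⥤ CX''} {H' : CX'' ⥤ CX'} {F'' : CX'' ⥤ CY''}
  {a'' : CY'' ⥤ CX''} {G₂ : CY'' ⥤ CY} {G₂' : CX'' ⥤ CX}
  {adj'' : F'' ⊣ a''} {Ak : K₂ ⊣ H} {Ak' : K₂' ⊣ H'} {e₂ : H' ⋙ F' ≅ F'' ⋙ H}

/-- pasting of squares on the base -/
lemma Tr.vert {K : CY} {β₁ : L'.obj (a.obj K) ⟶ a'.obj (L.obj K)}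
    {β₂ : K₂'.obj (a'.obj (L.obj K)) ⟶ a''.obj (K₂.obj (L.obj K))}
    (h₁ : Tr adj adj' e adjg adjg' K β₁) (h₂ : Tr adj' adj'' e₂ Ak Ak' (L.obj K) β₂)
    (c : H ⋙ G ≅ G₂) (c' : H' ⋙ G' ≅ G₂') (e₃ : G₂' ⋙ F ≅ F'' ⋙ G₂)
    (hcomp : ∀ Z : CX'', e.hom.app (H'.obj Z) ≫ G.map (e₂.hom.app Z) ≫ c.hom.app (F''.obj Z) =
      F.map (c'.hom.app Z) ≫ e₃.hom.app Z) :
    Tr adj adj'' e₃ (adjComp adjg Ak c) (adjComp adjg' Ak' c') K (K₂'.map β₁ ≫ β₂) := by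
  unfold Tr at h₁ h₂ ⊢
  rw [bc_vert adjg adjg' Ak Ak' e e₂ c c' e₃ hcomp]
  have hn : bc Ak Ak' e₂ (L'.obj (a.obj K)) ≫ F''.map (K₂'.map β₁) =
      K₂.map (F'.map β₁) ≫ bc Ak Ak' e₂ (a'.obj (L.obj K)) := by
    apply (Ak.homEquiv _ _).injective
    rw [Ak.homEquiv_naturality_right, homEquiv_bc, Ak.homEquiv_naturality_left, homEquiv_bc,
      ← Functor.map_comp_assoc]
    have h3 := Ak'.unit.naturality β₁
    dsimp at h3
    rw [h3, Functor.map_comp, Category.assoc]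
    have h4 := e₂.hom.naturality (K₂'.map β₁)
    dsimp at h4
    rw [Category.assoc, h4]
  dsimp only [Functor.comp_obj, Functor.comp_map]
  rw [Functor.map_comp, Category.assoc, Category.assoc, reassoc_of% hn, h₂, ← K₂.map_comp, ← K₂.map_comp, h₁]

end Vertical

end Groth.L29.BCAdj.Mate
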