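import Groth.Agent.L29.BCAdj.AdjBC
import Groth.Agent.L29.BCAdj.MatePaste
import Groth.Agent.L29.BC.PasteScheme
import Groth.Agent.L29.BC.SupportPush
import Groth.Agent.L29.DCoh.Gen.Loc
import Groth.Agent.L29.DCoh.Gen.RpushTri

/-!
Base change of right adjoints of derived direct images along open immersions of the base; pasting data.
-/

set_option autoImplicit false
set_option backward.defeqAttrib.useBackward true
set_option backward.isDefEq.respectTransparency false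
set_option backward.isDefEq.respectTransparency.types false

universe u

open CategoryTheory CategoryTheory.Limits CategoryTheory.Pretriangulated AlgebraicGeometry

attribute [local instance] HasDerivedCategory.standard

namespace Groth.L29.BCAdj

open Groth.L00 Groth.L29.DC Groth.L29.BC.Paste

variable {X Y X' Y' X'' Y'' : Scheme.{u}}

/-- derived direct images along a composite, on quasi-coherent objects -/
noncomputable def cQ {g : X' ⟶ X} {f : X ⟶ Y} {h : X' ⟶ Y} [DCoh.HasRpush g] [DCoh.HasRpush f] [DCoh.HasRpush h]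
    (hg : DCoh.RpushPreservesQCoh g) (hf : DCoh.RpushPreservesQCoh f) (hh : DCoh.RpushPreservesQCoh h)
    (w : g ≫ f = h) : DCoh.RpushQ g hg ⋙ DCoh.RpushQ f hf ≅ DCoh.RpushQ h hh :=
  NatIso.ofComponents (fun K => ObjectProperty.isoMk _ ((BC.cR w).app K.obj))
    fun {K M} u => ObjectProperty.hom_ext _ ((BC.cR w).hom.naturality u.hom)

variable {f : X ⟶ Y} {g : Y' ⟶ Y} {g' : X' ⟶ X} {f' : X' ⟶ Y'}
  [DCoh.HasRpush f] [DCoh.HasRpush g] [DCoh.HasRpush f'] [DCoh.HasRpush g']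

/-- the compatibility needed for vertical pasting -/
theorem hcomp_vert {k : Y'' ⟶ Y'} {k' : X'' ⟶ X'} {f'' : X'' ⟶ Y''} {h : Y'' ⟶ Y} {h' : X'' ⟶ X}
    [DCoh.HasRpush k] [DCoh.HasRpush k'] [DCoh.HasRpush f''] [DCoh.HasRpush h] [DCoh.HasRpush h']
    (w₁ : g' ≫ f = f' ≫ g) (w₂ : k' ≫ f' = f'' ≫ k) (w : h' ≫ f = f'' ≫ h) (hd : k ≫ g = h) (hd' : k' ≫ g' = h')
    (Z : DCoh.D X'') :
    (BC.e w₁).hom.app ((DCoh.Rpush k').obj Z) ≫ (DCoh.Rpush g).map ((BC.e w₂).hom.app Z) ≫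
        (BC.cR hd).hom.app ((DCoh.Rpush f'').obj Z) =
      (DCoh.Rpush f).map ((BC.cR hd').hom.app Z) ≫ (BC.e w).hom.app Z := by
  haveI := fun {A B : Scheme.{u}} (j : A ⟶ B) => KFlat.hasLpull j
  let p := g' ≫ f
  let p₂ := k' ≫ f'
  let D := k' ≫ p
  haveI := RpushQC.hasRpush p
  haveI := RpushQC.hasRpush p₂
  haveI := RpushQC.hasRpush D
  have hD : h' ≫ f = D := by rw [← hd']; exact Category.assoc _ _ _
  have hp₂ : p₂ ≫ g = D := by simp [p₂, D, p, w₁]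
  rw [← cancel_mono ((BC.cR (w.symm.trans hD)).hom.app Z)]
  simp only [Category.assoc]
  rw [BC.e_hom_comp w hD]
  have a₁ := BC.cR_assoc (a := f'') (b := k) (c := g) (w₂.symm.trans rfl : f'' ≫ k = p₂) hd
    hp₂ (w.symm.trans hD) Z
  have a₂ := BC.cR_assoc (a := k') (b := f') (c := g) (rfl : k' ≫ f' = p₂) (w₁.symm.trans rfl : f' ≫ g = p)
    hp₂ (rfl : k' ≫ p = D) Z
  have a₃ := BC.cR_assoc (a := k') (b := g') (c := f) hd' (rfl : g' ≫ f = p) hD (rfl : k' ≫ p = D) Z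
  erw [← a₁]
  rw [← Functor.map_comp_assoc, BC.e_hom_comp w₂ (rfl : k' ≫ f' = p₂)]
  erw [a₂]
  refine (reassoc_of% (BC.e_hom_comp w₁ (rfl : g' ≫ f = p) ((DCoh.Rpush k').obj Z))) _ |>.trans ?_
  exact a₃.symm

set_option maxHeartbeats 800000 in
/-- The base change map of right adjoints along the inclusion of an open of the base is invertible. -/
theorem isIso_bcMap_open [CompactSpace X] [QuasiSeparatedSpace X] {f : X ⟶ Y} [QuasiCompact f] [QuasiSeparated f] [DCoh.HasRpush f] (V : Y.Opens)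
    (hV : IsCompact (V : Set Y)) [DCoh.HasRpush V.ι] [DCoh.HasRpush (f ⁻¹ᵁ V).ι] [DCoh.HasRpush (f ∣_ V)]
    [DCoh.HasLpull V.ι] [DCoh.HasLpull (f ⁻¹ᵁ V).ι]
    {hf : DCoh.RpushPreservesQCoh f} {hf' : DCoh.RpushPreservesQCoh (f ∣_ V)}
    {hg : DCoh.RpushPreservesQCoh V.ι} {hg' : DCoh.RpushPreservesQCoh (f ⁻¹ᵁ V).ι}
    {hLg : Dual3.LpullPreservesQCoh V.ι} {hLg' : Dual3.LpullPreservesQCoh (f ⁻¹ᵁ V).ι}
    {a : DCoh.DQCoh Y ⥤ DCoh.DQCoh X} {a' : DCoh.DQCoh (V : Scheme.{u}) ⥤ DCoh.DQCoh (f ⁻¹ᵁ V : Scheme.{u})}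
    (adj : DCoh.RpushQ f hf ⊣ a) (adj' : DCoh.RpushQ (f ∣_ V) hf' ⊣ a')
    (e : DCoh.RpushQ (f ⁻¹ᵁ V).ι hg' ⋙ DCoh.RpushQ f hf ≅ DCoh.RpushQ (f ∣_ V) hf' ⋙ DCoh.RpushQ V.ι hg)
    (adjg : Dual3.LpullQ V.ι hLg ⊣ DCoh.RpushQ V.ι hg)
    (adjg' : Dual3.LpullQ (f ⁻¹ᵁ V).ι hLg' ⊣ DCoh.RpushQ (f ⁻¹ᵁ V).ι hg')
    (hperf : ∀ P : DCoh.D X, DCoh.IsPerfect P → DCoh.IsPerfect ((DCoh.Rpush f).obj P))
    (K : DCoh.DQCoh Y) (hξ : IsIso (Dual3.xi adj adj' e ((Dual3.LpullQ V.ι hLg).obj K))) :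
    IsIso (Dual3.bcMap adj adj' e adjg adjg' K hξ) := by
  haveI := hξ
  haveI : (DCoh.Rpush V.ι).Full := Gen.full_push V
  haveI : (DCoh.Rpush V.ι).Faithful := Gen.faithful_push V
  haveI : (DCoh.Rpush (f ⁻¹ᵁ V).ι).Full := Gen.full_push _
  haveI : (DCoh.Rpush (f ⁻¹ᵁ V).ι).Faithful := Gen.faithful_push _
  haveI : (DCoh.RpushQ V.ι hg).Full := ⟨fun {A B} u =>
    ⟨ObjectProperty.homMk ((DCoh.Rpush V.ι).preimage u.hom), ObjectProperty.hom_ext _ (Functor.map_preimage _ _)⟩⟩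
  haveI : (DCoh.RpushQ V.ι hg).Faithful := ⟨fun {A B} u v h =>
    ObjectProperty.hom_ext _ ((DCoh.Rpush V.ι).map_injective (congrArg (·.hom) h))⟩
  haveI : (DCoh.RpushQ (f ⁻¹ᵁ V).ι hg').Full := ⟨fun {A B} u =>
    ⟨ObjectProperty.homMk ((DCoh.Rpush (f ⁻¹ᵁ V).ι).preimage u.hom),
      ObjectProperty.hom_ext _ (Functor.map_preimage _ _)⟩⟩
  haveI : (DCoh.RpushQ (f ⁻¹ᵁ V).ι hg').Faithful := ⟨fun {A B} u v h =>
    ObjectProperty.hom_ext _ ((DCoh.Rpush (f ⁻¹ᵁ V).ι).map_injective (congrArg (·.hom) h))⟩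
  haveI : IsIso ((Dual3.LpullQ V.ι hLg).map (adjg.unit.app K)) :=
    IsIso.of_isIso_fac_right (hh := IsIso.id _) (adjg.left_triangle_components K)
  let η := adjg.unit.app K
  letI := Gen.commShiftRpush f
  haveI := Gen.isTriangulated_Rpush f
  haveI : (DCoh.RpushQ f hf).IsTriangulated := by
    refine ⟨fun T hT => ?_⟩
    exact isomorphic_distinguished _ ((ObjectProperty.ι DCoh.IsQCohD ⋙ DCoh.Rpush f).map_distinguished _ hT) _
      ((Functor.mapTriangleCompIso (DCoh.RpushQ f hf) (ObjectProperty.ι DCoh.IsQCohD)).symm.app T ≪≫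
        (Functor.mapTriangleIso (ObjectProperty.liftCompιIso DCoh.IsQCohD _ _)).app T)
  letI := adj.rightAdjointCommShift ℤ
  haveI := adj.commShift_of_leftAdjoint ℤ
  haveI := adj.isTriangulated_rightAdjoint
  obtain ⟨C, q, d, hT⟩ := distinguished_cocone_triangle η
  have hTY := (DCoh.IsQCohD (X := Y)).ι.map_distinguished _ hT
  have hTX := (DCoh.IsQCohD (X := X)).ι.map_distinguished _ (a.map_distinguished _ hT)
  let uV : DCoh.Lpull V.ι ≅ DCoh.restrictD V.ι := (BC.adj V.ι).leftAdjointUniq (Cpt.restrictRpushAdj V.ι)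
  let uW : DCoh.Lpull (f ⁻¹ᵁ V).ι ≅ DCoh.restrictD (f ⁻¹ᵁ V).ι :=
    (BC.adj (f ⁻¹ᵁ V).ι).leftAdjointUniq (Cpt.restrictRpushAdj (f ⁻¹ᵁ V).ι)
  have hC : IsZero ((resD V).obj C.obj) := by
    haveI : IsIso ((DCoh.Lpull V.ι).map η.hom) :=
      inferInstanceAs (IsIso ((DCoh.IsQCohD (X := (V : Scheme.{u}))).ι.map ((Dual3.LpullQ V.ι hLg).map η)))
    exact (Triangle.isZero₃_iff_isIso₁ _ ((resD V).map_distinguished _ hTY)).2
      ((NatIso.isIso_map_iff uV η.hom).1 inferInstance)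
  have haC : IsZero ((resD (f ⁻¹ᵁ V)).obj (a.obj C).obj) :=
    BC.SupportAdj.isZero_res_adjoint f V hV hf a adj C (fun P hP E _ _ hE => by
      obtain ⟨i⟩ := hE
      exact BC.SupportAdj.qcoh_RHom_of_perfect (isPerfect_of_iso i.symm (hperf P hP)) C.property) hC
  haveI : IsIso ((Dual3.LpullQ (f ⁻¹ᵁ V).ι hLg').map (a.map η)) := by
    haveI : IsIso ((DCoh.IsQCohD (X := (f ⁻¹ᵁ V : Scheme.{u}))).ι.map
        ((Dual3.LpullQ (f ⁻¹ᵁ V).ι hLg').map (a.map η))) :=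
      (NatIso.isIso_map_iff uW (a.map η).hom).2
        ((Triangle.isZero₃_iff_isIso₁ _ ((resD (f ⁻¹ᵁ V)).map_distinguished _ hTX)).1 haC)
    exact isIso_of_reflects_iso _ (DCoh.IsQCohD (X := (f ⁻¹ᵁ V : Scheme.{u}))).ι
  unfold Dual3.bcMap
  infer_instance

end Groth.L29.BCAdj
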