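import Groth.Agent.L29.BCAdj.AdjGen
import Groth.Agent.L29.BC.Localizing
import Groth.Agent.L29.BC.Affine

/-!
Base change of right adjoints of derived direct images along flat proper morphisms of finite presentation.
-/

set_option autoImplicit false
set_option linter.style.haveILetI false
set_option backward.defeqAttrib.useBackward true
set_option backward.isDefEq.respectTransparency false
set_option backward.isDefEq.respectTransparency.types false

universe u

open CategoryTheory CategoryTheory.Limits CategoryTheory.Pretriangulated AlgebraicGeometry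

attribute [local instance] HasDerivedCategory.standard

noncomputable section

namespace Groth.L29.BCAdj

open Groth.L00 Groth.L29.DC Groth.L29.BC.Paste

variable {X Y X' Y' : Scheme.{u}} {f : X ⟶ Y} {g : Y' ⟶ Y} {g' : X' ⟶ X} {f' : X' ⟶ Y'}
  [DCoh.HasRpush f] [DCoh.HasRpush g] [DCoh.HasRpush f'] [DCoh.HasRpush g']
  {hf : DCoh.RpushPreservesQCoh f} {hf' : DCoh.RpushPreservesQCoh f'}
  {hg : DCoh.RpushPreservesQCoh g} {hg' : DCoh.RpushPreservesQCoh g'}
  {a : DCoh.DQCoh Y ⥤ DCoh.DQCoh X} {a' : DCoh.DQCoh Y' ⥤ DCoh.DQCoh X'}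
  (adj : DCoh.RpushQ f hf ⊣ a) (adj' : DCoh.RpushQ f' hf' ⊣ a')
  (e : DCoh.RpushQ g' hg' ⋙ DCoh.RpushQ f hf ≅ DCoh.RpushQ f' hf' ⋙ DCoh.RpushQ g hg)

/-- `ξ` is natural -/
theorem xi_naturality {M M' : DCoh.DQCoh Y'} (v : M ⟶ M') :
    (DCoh.RpushQ g' hg').map (a'.map v) ≫ Dual3.xi adj adj' e M' =
      Dual3.xi adj adj' e M ≫ a.map ((DCoh.RpushQ g hg).map v) := by
  unfold Dual3.xi
  rw [← adj.homEquiv_naturality_left, ← adj.homEquiv_naturality_right]
  congr 1
  have h1 : (DCoh.RpushQ f hf).map ((DCoh.RpushQ g' hg').map (a'.map v)) ≫ e.hom.app (a'.obj M') =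
      e.hom.app (a'.obj M) ≫ (DCoh.RpushQ g hg).map ((DCoh.RpushQ f' hf').map (a'.map v)) :=
    e.hom.naturality (a'.map v)
  have h2 : (DCoh.RpushQ f' hf').map (a'.map v) ≫ adj'.counit.app M' = adj'.counit.app M ≫ v :=
    adj'.counit.naturality v
  rw [reassoc_of% h1, ← Functor.map_comp, h2, Functor.map_comp, Category.assoc]

variable [DCoh.HasLpull g] [DCoh.HasLpull g'] {hLg : Dual3.LpullPreservesQCoh g}
  {hLg' : Dual3.LpullPreservesQCoh g'}
  (adjg : Dual3.LpullQ g hLg ⊣ DCoh.RpushQ g hg) (adjg' : Dual3.LpullQ g' hLg' ⊣ DCoh.RpushQ g' hg')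

/-- the base change map is natural -/
theorem bcMap_naturality {K K' : DCoh.DQCoh Y} (w : K ⟶ K')
    (hξ : IsIso (Dual3.xi adj adj' e ((Dual3.LpullQ g hLg).obj K)))
    (hξ' : IsIso (Dual3.xi adj adj' e ((Dual3.LpullQ g hLg).obj K'))) :
    (Dual3.LpullQ g' hLg').map (a.map w) ≫ Dual3.bcMap adj adj' e adjg adjg' K' hξ' =
      Dual3.bcMap adj adj' e adjg adjg' K hξ ≫ a'.map ((Dual3.LpullQ g hLg).map w) := by
  haveI := hξ
  haveI := hξ'
  unfold Dual3.bcMap
  have h1 : a.map w ≫ a.map (adjg.unit.app K') ≫ inv (Dual3.xi adj adj' e ((Dual3.LpullQ g hLg).obj K')) =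
      a.map (adjg.unit.app K) ≫ inv (Dual3.xi adj adj' e ((Dual3.LpullQ g hLg).obj K)) ≫
        (DCoh.RpushQ g' hg').map (a'.map ((Dual3.LpullQ g hLg).map w)) := by
    rw [← cancel_mono (Dual3.xi adj adj' e ((Dual3.LpullQ g hLg).obj K'))]
    simp only [Category.assoc, IsIso.inv_hom_id, Category.comp_id]
    rw [xi_naturality adj adj' e, IsIso.inv_hom_id_assoc, ← Functor.map_comp, ← Functor.map_comp]
    exact congrArg a.map (adjg.unit.naturality w)
  have h2 := adjg'.counit.naturality (a'.map ((Dual3.LpullQ g hLg).map w))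
  dsimp only [Functor.comp_obj, Functor.comp_map, Functor.id_obj, Functor.id_map] at h2
  simp only [Category.assoc]
  rw [← h2, ← Functor.map_comp_assoc, ← Functor.map_comp_assoc, ← Functor.map_comp_assoc,
    ← Functor.map_comp_assoc]
  simp only [Category.assoc]
  rw [h1]

/-- derived pullbacks of complexes with quasi-coherent cohomology are exact -/
theorem isTriangulated_LpullQ : letI := BC.commShiftLpull g
    (Dual3.LpullQ g hLg).IsTriangulated := by
  letI := BC.commShiftLpull g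
  haveI := BC.isTriangulated_Lpull g
  refine ⟨fun T hT => ?_⟩
  exact isomorphic_distinguished _ ((ObjectProperty.ι DCoh.IsQCohD ⋙ DCoh.Lpull g).map_distinguished _ hT) _
    ((Functor.mapTriangleCompIso (Dual3.LpullQ g hLg) (ObjectProperty.ι DCoh.IsQCohD)).symm.app T ≪≫
      (Functor.mapTriangleIso (ObjectProperty.liftCompιIso DCoh.IsQCohD _ _)).app T)

set_option maxHeartbeats 1600000 in
/-- base change of twisted inverse images over affine bases -/
theorem isIso_bcMap_affine_all [IsAffine Y] [IsAffine Y'] [IsProper f] [Flat f] [LocallyOfFinitePresentation f]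
    (hsq : IsPullback g' f' f g) (K : DCoh.DQCoh Y)
    (hξ : IsIso (Dual3.xi adj adj' (eQ hf hf' hg hg' hsq.w) ((Dual3.LpullQ g hLg).obj K))) :
    IsIso (Dual3.bcMap adj adj' (eQ hf hf' hg hg' hsq.w) adjg adjg' K hξ) := by
  haveI : IsProper f' := MorphismProperty.of_isPullback hsq inferInstance
  haveI : Flat f' := MorphismProperty.of_isPullback hsq inferInstance
  haveI : LocallyOfFinitePresentation f' := MorphismProperty.of_isPullback hsq inferInstance
  haveI : CompactSpace X := QuasiCompact.compactSpace_of_compactSpace f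
  haveI : QuasiSeparatedSpace X := quasiSeparatedSpace_of_quasiSeparated f
  haveI : CompactSpace X' := QuasiCompact.compactSpace_of_compactSpace f'
  haveI : QuasiSeparatedSpace X' := quasiSeparatedSpace_of_quasiSeparated f'
  have hθ := isIso_bcQ (hf := hf) (hf' := hf') adjg adjg' (BC_flat_vert hsq)
  have hX : ∀ K : DCoh.DQCoh Y,
      IsIso (Dual3.xi adj adj' (eQ hf hf' hg hg' hsq.w) ((Dual3.LpullQ g hLg).obj K)) :=
    fun K => Mate.isIso_xi adj adj' _ adjg adjg' hθ _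
  letI := Gen.commShiftRpush f
  haveI := Gen.isTriangulated_Rpush f
  letI := Gen.commShiftRpush f'
  haveI := Gen.isTriangulated_Rpush f'
  haveI hRf : ∀ {X Y : Scheme.{u}} (f : X ⟶ Y) [DCoh.HasRpush f] (hf : DCoh.RpushPreservesQCoh f),
      letI := Gen.commShiftRpush f
      (DCoh.RpushQ f hf).IsTriangulated := fun f _ hf => by
    letI := Gen.commShiftRpush f
    haveI := Gen.isTriangulated_Rpush f
    refine ⟨fun T hT => ?_⟩
    exact isomorphic_distinguished _ ((ObjectProperty.ι DCoh.IsQCohD ⋙ DCoh.Rpush f).map_distinguished _ hT) _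
      ((Functor.mapTriangleCompIso (DCoh.RpushQ f hf) (ObjectProperty.ι DCoh.IsQCohD)).symm.app T ≪≫
        (Functor.mapTriangleIso (ObjectProperty.liftCompιIso DCoh.IsQCohD _ _)).app T)
  haveI := hRf f hf
  haveI := hRf f' hf'
  letI := adj.rightAdjointCommShift ℤ
  haveI : adj.CommShift ℤ := adj.commShift_of_leftAdjoint ℤ
  haveI : a.IsTriangulated := adj.isTriangulated_rightAdjoint
  letI := adj'.rightAdjointCommShift ℤ
  haveI : adj'.CommShift ℤ := adj'.commShift_of_leftAdjoint ℤ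
  haveI : a'.IsTriangulated := adj'.isTriangulated_rightAdjoint
  letI := BC.commShiftLpull g
  letI := BC.commShiftLpull g'
  haveI := BC.isTriangulated_Lpull g
  haveI := BC.isTriangulated_Lpull g'
  haveI := isTriangulated_LpullQ (g := g) (hLg := hLg)
  let F := a ⋙ (DCoh.IsQCohD (X := X)).ι ⋙ DCoh.Lpull g'
  let G := Dual3.LpullQ g hLg ⋙ a' ⋙ (DCoh.IsQCohD (X := X')).ι
  let τ : F ⟶ G :=
    { app := fun K => (Dual3.bcMap adj adj' (eQ hf hf' hg hg' hsq.w) adjg adjg' K (hX K)).hom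
      naturality := fun K K' w =>
        congrArg (·.hom) (bcMap_naturality adj adj' (eQ hf hf' hg hg' hsq.w) adjg adjg' w (hX K) (hX K')) }
  suffices IsIso (τ.app K) by
    haveI : IsIso ((DCoh.IsQCohD (X := X')).ι.map
        (Dual3.bcMap adj adj' (eQ hf hf' hg hg' hsq.w) adjg adjg' K hξ)) := this
    exact isIso_of_reflects_iso _ (DCoh.IsQCohD (X := X')).ι
  have exF : ∀ T : Triangle (DCoh.DQCoh Y), T ∈ distTriang _ → ∀ {Z : DCoh.D X'}, True →
      ∀ z : Z ⟶ F.obj T.obj₂, z ≫ F.map T.mor₂ = 0 → ∃ b, z = b ≫ F.map T.mor₁ := fun T hT {Z} _ z hz =>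
    Triangle.coyoneda_exact₂ _ (F.map_distinguished T hT) z hz
  have exG : ∀ T : Triangle (DCoh.DQCoh Y), T ∈ distTriang _ → ∀ {Z : DCoh.D X'}, True →
      ∀ z : Z ⟶ G.obj T.obj₂, z ≫ G.map T.mor₂ = 0 → ∃ b, z = b ≫ G.map T.mor₁ := fun T hT {Z} _ z hz =>
    Triangle.coyoneda_exact₂ _ (G.map_distinguished T hT) z hz
  let P : DCoh.DQCoh Y → Prop := fun K => ∀ n : ℤ, IsIso (τ.app (K⟦n⟧))
  have hPiso : ∀ {A B : DCoh.DQCoh Y}, (A ≅ B) → P A → P B := fun e h n =>
    (NatTrans.isIso_app_iff_of_iso τ ((CategoryTheory.shiftFunctor _ n).mapIso e)).1 (h n)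
  have hP0 : ∀ {A : DCoh.DQCoh Y}, P A → IsIso (τ.app A) := fun {A} h =>
    (NatTrans.isIso_app_iff_of_iso τ ((shiftFunctorZero (DCoh.DQCoh Y) ℤ).app A)).1 (h 0)
  have hPsh : ∀ {A : DCoh.DQCoh Y}, P A → ∀ k : ℤ, P (A⟦k⟧) := fun {A} h k n =>
    (NatTrans.isIso_app_iff_of_iso τ ((shiftFunctorAdd (DCoh.DQCoh Y) k n).app A)).1 (h (k + n))
  have hP3 : ∀ T : Triangle (DCoh.DQCoh Y), T ∈ distTriang _ → P T.obj₁ → P T.obj₂ → P T.obj₃ :=
    fun T hT h₁ h₂ n => BC.isIso_app₃' F G τ (fun _ => True) (fun _ => trivial) (fun _ => trivial) exF exG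
      ((Triangle.shiftFunctor _ n).obj T) (T.shift_distinguished hT n) (h₁ n) (h₂ n)
      (hP0 (hPsh (hPsh h₁ n) 1)) (hP0 (hPsh (hPsh h₂ n) 1))
  -- coproducts
  haveI : ∀ J : Type u, PreservesColimitsOfShape (Discrete J) F := fun J => by
    haveI : (DCoh.RpushQ f hf).Additive := inferInstance
    haveI := BC.AdjCoprod.preservesCoproducts (DCoh.RpushQ f hf) (fun P hP => BC.isPerfect_Rpush f hP) a adj J
    haveI := Gen.preservesCoproducts_ι (X := X) J
    haveI : (DCoh.Lpull g').IsLeftAdjoint := ⟨_, ⟨BC.adj g'⟩⟩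
    haveI : PreservesColimitsOfShape (Discrete J) ((DCoh.IsQCohD (X := X)).ι ⋙ DCoh.Lpull g') :=
      comp_preservesColimitsOfShape _ _
    exact comp_preservesColimitsOfShape _ _
  haveI : ∀ J : Type u, PreservesColimitsOfShape (Discrete J) G := fun J => by
    haveI : (DCoh.RpushQ f' hf').Additive := inferInstance
    haveI := BC.AdjCoprod.preservesCoproducts (DCoh.RpushQ f' hf') (fun P hP => BC.isPerfect_Rpush f' hP) a' adj' J
    haveI := Gen.preservesCoproducts_ι (X := X') J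
    haveI : (Dual3.LpullQ g hLg).IsLeftAdjoint := ⟨_, ⟨adjg⟩⟩
    haveI : PreservesColimitsOfShape (Discrete J) (a' ⋙ (DCoh.IsQCohD (X := X')).ι) :=
      comp_preservesColimitsOfShape _ _
    exact comp_preservesColimitsOfShape _ _
  have hPsum : ∀ {J : Type u} (C : J → DCoh.DQCoh Y) [HasCoproduct C], (∀ j, P (C j)) → P (∐ C) :=
    fun {J} C _ h n => by
      haveI := Gen.hasCoproducts_DQ Y J
      haveI := Gen.hasCoproducts_D X' J
      refine (NatTrans.isIso_app_iff_of_iso τ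
        (asIso (sigmaComparison (CategoryTheory.shiftFunctor (DCoh.DQCoh Y) n) C))).1 ?_
      exact BC.AdjTensor.preservesCoproducts_of_comparison F G τ _ fun j => h j n
  -- the structure sheaf generates
  obtain ⟨Gn, hG, hgen, ⟨eG⟩⟩ := BC.exists_unit_generator Y
  haveI := Gen.locallySmall_D Y
  haveI : HasCoproducts.{u} (DCoh.D Y) := Gen.hasCoproducts_D _
  haveI : HasColimitsOfShape (Discrete ℕ) (DCoh.D Y) :=
    hasColimitsOfShape_of_equivalence (Discrete.equivalence (Equiv.ulift.{u} : ULift.{u} ℕ ≃ ℕ))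
  haveI : ∀ (Z : DCoh.D Y) (n : ℤ), Small.{u} (Gn⟦n⟧ ⟶ Z) := fun Z n => inferInstance
  have hGq := PCQCoh.isQCohD_of_perfect hG
  suffices h : ∀ hM : DCoh.IsQCohD K.obj, P ⟨K.obj, hM⟩ from hP0 (h K.property)
  refine BC.localizing_top (fun M => ∀ hM : DCoh.IsQCohD M, P ⟨M, hM⟩) (DCoh.IsQCohD (X := Y))
    (fun e h hB => hPiso (ObjectProperty.isoMk _ e) (h (isQCohD_of_iso e.symm hB)))
    (fun n hn k => ?_) (fun {ι} C hC h hS => ?_) (fun T hT s₁ s₂ h₁ h₂ hS => ?_)
    (fun n => Gen.isQCohD_shift hGq n) (fun {ι} C hC => QCohColim.isQCohD_coproduct C hC) (fun C hC => ?_)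
    (fun T hT h₁ h₂ => Gen.isQCohD_third T hT h₁ h₂) (fun n => Gen.cpt_of_perfect (perfect_shift hG n))
    hgen K.property
  · let A : DCoh.DQCoh Y := ⟨Gn⟦n⟧, hn⟩
    haveI := (dualBC_general g).iso hsq adj adj' adjg adjg' (A⟦k⟧) (n + k)
      (((DCoh.IsQCohD (X := Y)).ι.commShiftIso k).app A ≪≫
        (shiftFunctor (DCoh.D Y) k).mapIso ((shiftFunctor (DCoh.D Y) n).mapIso eG) ≪≫
          ((shiftFunctorAdd (DCoh.D Y) n k).app _).symm) (hX _)
    exact inferInstanceAs (IsIso ((DCoh.IsQCohD (X := X')).ι.map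
      (Dual3.bcMap adj adj' (eQ hf hf' hg hg' hsq.w) adjg adjg' (A⟦k⟧) (hX _))))
  · haveI := Gen.hasCoproducts_D Y ι
    haveI := Gen.hasCoproducts_DQ Y ι
    haveI := Gen.preservesCoproducts_ι (X := Y) ι
    exact hPiso (ObjectProperty.isoMk _ (PreservesCoproduct.iso (DCoh.IsQCohD (X := Y)).ι
      (fun i => (⟨C i, hC i⟩ : DCoh.DQCoh Y)))) (hPsum _ fun i => h i (hC i))
  · let a₁ : (⟨T.obj₁, s₁⟩ : DCoh.DQCoh Y) ⟶ ⟨T.obj₂, s₂⟩ := ObjectProperty.homMk T.mor₁
    obtain ⟨C, c, d, hC⟩ := distinguished_cocone_triangle a₁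
    let θ := isoTriangleOfIso₁₂ _ _ ((DCoh.IsQCohD (X := Y)).ι.map_distinguished _ hC) hT (Iso.refl _) (Iso.refl _)
      ((Category.comp_id _).trans (Category.id_comp _).symm)
    exact hPiso (ObjectProperty.isoMk _ (Triangle.π₃.mapIso θ)) (hP3 _ hC (h₁ s₁) (h₂ s₂))
  · refine isQCohD_of_iso ?_ (QCohColim.isQCohD_coproduct (fun n : ULift.{u} ℕ => C n.down) fun n => hC n.down)
    exact Sigma.whiskerEquiv (f := fun n : ULift.{u} ℕ => C n.down) (g := C) Equiv.ulift.{u} fun n => Iso.refl _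

set_option maxHeartbeats 1600000 in
/-- base change of twisted inverse images of flat proper morphisms of finite presentation along arbitrary morphisms -/
theorem isIso_bcMap_all [CompactSpace Y] [QuasiSeparatedSpace Y] [CompactSpace Y'] [QuasiSeparatedSpace Y'] [CompactSpace X'] [QuasiSeparatedSpace X']
    [IsProper f] [Flat f] [LocallyOfFinitePresentation f] (hsq : IsPullback g' f' f g)
    (O : DCoh.DQCoh Y)
    (hξ : IsIso (Dual3.xi adj adj' (eQ hf hf' hg hg' hsq.w) ((Dual3.LpullQ g hLg).obj O))) :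
    IsIso (Dual3.bcMap adj adj' (eQ hf hf' hg hg' hsq.w) adjg adjg' O hξ) := by
  haveI := fun {A B : Scheme.{u}} (h : A ⟶ B) => RpushQC.hasRpush h
  haveI := fun {A B : Scheme.{u}} (h : A ⟶ B) => KFlat.hasLpull h
  haveI : IsProper f' := MorphismProperty.of_isPullback hsq inferInstance
  haveI : Flat f' := MorphismProperty.of_isPullback hsq inferInstance
  haveI : LocallyOfFinitePresentation f' := MorphismProperty.of_isPullback hsq inferInstance
  haveI : CompactSpace X := QuasiCompact.compactSpace_of_compactSpace f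
  haveI : QuasiSeparatedSpace X := quasiSeparatedSpace_of_quasiSeparated f
  have hR : ∀ {A B : Scheme.{u}} (j : A ⟶ B) [QuasiCompact j] [QuasiSeparated j], DCoh.RpushPreservesQCoh j :=
    fun j _ _ K hK => RpushQC.isQCohD_Rpush j K hK
  have hL : ∀ {A B : Scheme.{u}} (j : A ⟶ B), Dual3.LpullPreservesQCoh j := fun j K hK => isQCohD_Lpull j hK
  set β := Dual3.bcMap adj adj' (eQ hf hf' hg hg' hsq.w) adjg adjg' O hξ
  suffices IsIso β.hom by
    haveI : IsIso ((DCoh.IsQCohD (X := X')).ι.map β) := this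
    exact isIso_of_reflects_iso β (DCoh.IsQCohD (X := X')).ι
  refine BC.isIso_of_Lpull_cover β.hom fun x => ?_
  obtain ⟨_, ⟨(V : Y.Opens), hV, rfl⟩, hyV, -⟩ :=
    Y.isBasis_affineOpens.exists_subset_of_mem_open (Set.mem_univ (g (f' x))) isOpen_univ
  obtain ⟨_, ⟨(V' : Y'.Opens), hV', rfl⟩, hyV', hle⟩ :=
    Y'.isBasis_affineOpens.exists_subset_of_mem_open (show f' x ∈ g ⁻¹ᵁ V from hyV) (g ⁻¹ᵁ V).2
  haveI : IsAffine (V : Scheme.{u}) := hV
  haveI : IsAffine (V' : Scheme.{u}) := hV'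
  haveI : CompactSpace (V : Scheme.{u}) := isCompact_iff_compactSpace.1 hV.isCompact
  haveI : CompactSpace (V' : Scheme.{u}) := isCompact_iff_compactSpace.1 hV'.isCompact
  let W := f ⁻¹ᵁ V
  let W' := f' ⁻¹ᵁ V'
  have h' : W' ≤ g' ⁻¹ᵁ W := fun z hz => by
    show f (g' z) ∈ V
    rw [← Scheme.Hom.comp_apply, hsq.w, Scheme.Hom.comp_apply]
    exact hle hz
  let k := g'.resLE W W' h'
  let g₀ := g.resLE V V' hle
  have ek : k ≫ W.ι = W'.ι ≫ g' := Scheme.Hom.resLE_comp_ι _ _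
  have eg : g₀ ≫ V.ι = V'.ι ≫ g := Scheme.Hom.resLE_comp_ι _ _
  have hk : IsPullback W'.ι (f' ∣_ V') f' V'.ι := (isPullback_morphismRestrict f' V').flip
  have hi : IsPullback W.ι (f ∣_ V) f V.ι := (isPullback_morphismRestrict f V).flip
  have htot : IsPullback (k ≫ W.ι) (f' ∣_ V') f (g₀ ≫ V.ι) := by
    rw [eg, ek]
    exact hk.paste_horiz hsq
  have hc₀ : IsPullback k (f' ∣_ V') (f ∣_ V) g₀ := IsPullback.of_right htot (by
    rw [← cancel_mono V.ι]
    simp only [Category.assoc, morphismRestrict_ι, eg]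
    rw [reassoc_of% ek, hsq.w, morphismRestrict_ι_assoc]) hi
  haveI : CompactSpace (W' : Scheme.{u}) := isCompact_iff_compactSpace.1 (f'.isCompact_preimage hV'.isCompact)
  haveI : CompactSpace (W : Scheme.{u}) := isCompact_iff_compactSpace.1 (f.isCompact_preimage hV.isCompact)
  haveI : QuasiSeparatedSpace (W' : Scheme.{u}) := quasiSeparatedSpace_of_quasiSeparated W'.ι
  haveI : QuasiSeparatedSpace (W : Scheme.{u}) := quasiSeparatedSpace_of_quasiSeparated W.ι
  haveI : QuasiCompact V'.ι := inferInstance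
  haveI : IsProper (f ∣_ V) := IsZariskiLocalAtTarget.restrict ‹IsProper f› V
  haveI : Flat (f ∣_ V) := IsZariskiLocalAtTarget.restrict ‹Flat f› V
  haveI : LocallyOfFinitePresentation (f ∣_ V) :=
    IsZariskiLocalAtTarget.restrict ‹LocallyOfFinitePresentation f› V
  haveI : QuasiCompact (g₀ ≫ V.ι) := inferInstance
  haveI : QuasiCompact (k ≫ W.ι) := inferInstance
  let fV := f ∣_ V
  let fV' := f' ∣_ V'
  obtain ⟨aV, ⟨adjV⟩⟩ : ∃ aV, Nonempty (DCoh.RpushQ fV (hR fV) ⊣ aV) := by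
    haveI := Groth.Agent.S1766.result (W : Scheme.{u}) (V : Scheme.{u}) fV (hR fV)
    exact ⟨_, ⟨Adjunction.ofIsLeftAdjoint (DCoh.RpushQ fV (hR fV))⟩⟩
  obtain ⟨aV', ⟨adjV'⟩⟩ : ∃ aV', Nonempty (DCoh.RpushQ fV' (hR fV') ⊣ aV') := by
    haveI := Groth.Agent.S1766.result (W' : Scheme.{u}) (V' : Scheme.{u}) fV' (hR fV')
    exact ⟨_, ⟨Adjunction.ofIsLeftAdjoint (DCoh.RpushQ fV' (hR fV'))⟩⟩
  let AV := adjQ V.ι (hR V.ι) (hL V.ι)
  let AW := adjQ W.ι (hR W.ι) (hL W.ι)
  let AV' := adjQ V'.ι (hR V'.ι) (hL V'.ι)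
  let AW' := adjQ W'.ι (hR W'.ι) (hL W'.ι)
  let A₀ := adjQ g₀ (hR g₀) (hL g₀)
  let A₀' := adjQ k (hR k) (hL k)
  let Ah := adjQ (g₀ ≫ V.ι) (hR _) (hL _)
  let Ah' := adjQ (k ≫ W.ι) (hR _) (hL _)
  have hθi := BCAdj.isIso_bcQ (hf := hf) (hf' := hR fV) AV AW (BC.BC_flat hi)
  have hθk := BCAdj.isIso_bcQ (hf := hf') (hf' := hR fV') AV' AW' (BC.BC_flat hk)
  have hθ₀ := BCAdj.isIso_bcQ (hf := hR fV) (hf' := hR fV') A₀ A₀' (BC_flat_vert hc₀)
  have hθt := BCAdj.isIso_bcQ (hf := hf) (hf' := hR fV') Ah Ah' (BC_flat_vert htot)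
  have hξi := Mate.isIso_xi adj adjV _ AV AW hθi ((Dual3.LpullQ V.ι (hL V.ι)).obj O)
  have hξk := Mate.isIso_xi adj' adjV' _ AV' AW' hθk
    ((Dual3.LpullQ V'.ι (hL V'.ι)).obj ((Dual3.LpullQ g hLg).obj O))
  have hξ₀ := Mate.isIso_xi adjV adjV' _ A₀ A₀' hθ₀
    ((Dual3.LpullQ g₀ (hL g₀)).obj ((Dual3.LpullQ V.ι (hL V.ι)).obj O))
  have hξt := Mate.isIso_xi adj adjV' _ Ah Ah' hθt ((Dual3.LpullQ (g₀ ≫ V.ι) (hL _)).obj O)
  have ht : IsIso (Dual3.bcMap adj adjV' _ Ah Ah' O hξt) := by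
    refine (isIso_bcMap_vert adj adjV adjV' AV AW A₀ A₀' Ah Ah' hi.w hc₀.w htot.w rfl rfl O (hθt _)
      hξi hξ₀ hξt).1 ?_ ?_
    · exact isIso_bcMap_open V hV.isCompact adj adjV _ AV AW (fun P hP => BC.isPerfect_Rpush f hP) O hξi
    · exact isIso_bcMap_affine_all adjV adjV' A₀ A₀' hc₀ _ hξ₀
  have hiso := (isIso_bcMap_vert adj adj' adjV' adjg adjg' AV' AW' Ah Ah' hsq.w hk.w htot.w eg.symm ek.symm O (hθt _)
    hξ hξk hξt).2 ht
      (isIso_bcMap_open V' hV'.isCompact adj' adjV' _ AV' AW' (fun P hP => BC.isPerfect_Rpush f' hP) _ hξk)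
  exact ⟨W', inferInstance, hyV',
    inferInstanceAs (IsIso ((DCoh.IsQCohD (X := (W' : Scheme.{u}))).ι.map ((Dual3.LpullQ W'.ι (hL W'.ι)).map β)))⟩

end Groth.L29.BCAdj
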