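import Groth.Agent.L29.BCAdj.AdjBC
import Groth.Agent.L29.BCAdj.HomFinite
import Groth.Agent.L29.BC.AdjTensorGlobal
import Groth.Agent.L29.BC.ProjQC
import Groth.Agent.L29.BC.PerfectPush
import Groth.Agent.L29.BC.TorGlobal
import Groth.Agent.L29.DCoh.RpushAffine
import Groth.Agent.L29.K.CohSupp
import Groth.Agent.L10.FMBC.Basic
import Groth.Agent.L10.FMDiag.Basic
import Groth.Agent.L07.BvdB.DualHom
import Groth.Agent.Lead.FlatPerfectCx
import Groth.Agent.Lead.FlatPerfect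
import Groth.Agent.L04.KSix.FreeStalk
import Groth.Agent.L12.VBLift.Small
import Groth.Agent.L19.ConormalAffine
import Groth.Agent.S3605

/-!
Base change of relative dualizing complexes of flat proper morphisms along closed immersions of affine bases.
-/

set_option autoImplicit false
set_option linter.style.haveILetI false
set_option backward.defeqAttrib.useBackward true
set_option backward.isDefEq.respectTransparency false
set_option backward.isDefEq.respectTransparency.types false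

universe u

open CategoryTheory CategoryTheory.Limits CategoryTheory.Pretriangulated AlgebraicGeometry

attribute [local instance] HasDerivedCategory.standard

noncomputable section

namespace Groth.L29.BCAdj

open Groth.L00 Groth.L29.DC Groth.L29.BC.Paste

variable {X Y X' Y' : Scheme.{u}}

/-- endomorphisms of the structure sheaf are global functions -/
theorem exists_smul_structure [IsAffine Y'] :
    letI : Y'.Over (Spec Γ(Y', ⊤)) := ⟨Y'.isoSpec.hom⟩
    ∀ v : Coh.structureModule Y' ⟶ Coh.structureModule Y', ∃ b : Γ(Y', ⊤), v = b • 𝟙 _ := by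
  letI iY' : Y'.Over (Spec Γ(Y', ⊤)) := ⟨Y'.isoSpec.hom⟩
  intro v
  have htg : ∀ b : Γ(Y', ⊤), Coh.toGlobal (Y' ↘ Spec Γ(Y', ⊤)) b = b := fun b => by
    change Y'.isoSpec.hom.appTop ((Scheme.ΓSpecIso Γ(Y', ⊤)).inv b) = b
    rw [show Y'.isoSpec.hom = Y'.toSpecΓ from rfl, Scheme.toSpecΓ_appTop, ← ConcreteCategory.comp_apply,
      Iso.inv_hom_id, ConcreteCategory.id_apply]
  refine ⟨v.app ⊤ (1 : Γ(Y', ⊤)), Groth.L29.DC.unit_hom_ext _ _ ?_⟩
  rw [KLin.smul_id]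
  change v.app ⊤ (1 : Γ(Y', ⊤)) =
    (Formal.smulModΓ _ (Coh.toGlobal (Y' ↘ Spec Γ(Y', ⊤)) (v.app ⊤ (1 : Γ(Y', ⊤))))).app ⊤ (1 : Γ(Y', ⊤))
  rw [htg, KLin.smulModΓ_app_apply]
  have h0 : ∀ x : Γ(Y', ⊤), Y'.presheaf.map (homOfLE (le_top : (⊤ : Y'.Opens) ≤ ⊤)).op x * (1 : Γ(Y', ⊤)) = x :=
    fun x => by
      rw [show (homOfLE (le_top : (⊤ : Y'.Opens) ≤ ⊤)).op = 𝟙 _ from rfl, CategoryTheory.Functor.map_id,
        ConcreteCategory.id_apply, mul_one]
  exact (h0 _).symm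

/-- the direct image of the structure sheaf of an affine closed subscheme is a quotient of the structure sheaf -/
theorem exists_cone_le (g : Y' ⟶ Y) [IsClosedImmersion g] [DCoh.HasRpush g] :
    ∃ (m : OD Y ⟶ (DCoh.Rpush g).obj (OD Y')) (C : DCoh.D Y) (p : (DCoh.Rpush g).obj (OD Y') ⟶ C)
      (δ : C ⟶ (OD Y)⟦(1 : ℤ)⟧), Triangle.mk m p δ ∈ (distTriang (DCoh.D Y)) ∧ DCoh.IsQCohD C ∧ C.IsLE (-1) := by
  haveI : Epi (ClSub.unitToPush g) := Groth.L12.VBLift.epi_unitToPush g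
  haveI : Coh.IsQCoh (Coh.structureModule Y') := Groth.L19.Conormal.isQCoh_structureModule Y'
  obtain ⟨e⟩ := Groth.Lead.FlatPerfect.nonempty_Rpush_single g (Coh.structureModule Y')
  have hS : (ShortComplex.mk (kernel.ι (ClSub.unitToPush g)) (ClSub.unitToPush g) (kernel.condition _)).ShortExact :=
    { exact := ShortComplex.exact_of_f_is_kernel _ (kernelIsKernel _) }
  let S := ShortComplex.mk (kernel.ι (ClSub.unitToPush g)) (ClSub.unitToPush g) (kernel.condition _)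
  let T := Triangle.mk ((DerivedCategory.singleFunctor Y.Modules 0).map S.f)
    ((DerivedCategory.singleFunctor Y.Modules 0).map S.g) hS.singleδ
  have hT : T ∈ distTriang _ := hS.singleTriangle_distinguished
  have hR := rot_of_distTriang _ hT
  let T' := Triangle.mk (T.mor₂ ≫ e.inv) (e.hom ≫ T.mor₃) (-T.mor₁⟦(1 : ℤ)⟧')
  have hT' : T' ∈ distTriang _ := isomorphic_distinguished _ hR _
    (Triangle.isoMk _ _ (Iso.refl _) e (Iso.refl _)
      ((Category.assoc _ _ _).trans ((congrArg (T.mor₂ ≫ ·) e.inv_hom_id).trans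
        ((Category.comp_id _).trans (Category.id_comp _).symm)))
      ((Category.comp_id _).trans rfl)
      (((congrArg (_ ≫ ·) ((shiftFunctor (DCoh.D Y) (1 : ℤ)).map_id _)).trans (Category.comp_id _)).trans
        (Category.id_comp _).symm))
  refine ⟨T'.mor₁, _, T'.mor₂, T'.mor₃, hT', ?_, ?_⟩
  · refine Gen.isQCohD_third _ hT' (Groth.Lead.LTMod.isQCohD_inD_of (Groth.L19.Conormal.isQCoh_structureModule Y)) ?_
    exact RpushQC.isQCohD_Rpush g _ (Groth.Lead.LTMod.isQCohD_inD_of (Groth.L19.Conormal.isQCoh_structureModule Y'))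
  · change DerivedCategory.IsLE ((T.obj₁)⟦(1 : ℤ)⟧) (-1)
    haveI : DerivedCategory.IsLE T.obj₁ 0 :=
      inferInstanceAs (((DerivedCategory.singleFunctor Y.Modules 0).obj _).IsLE 0)
    exact DerivedCategory.TStructure.t.isLE_shift T.obj₁ 0 1 (-1) (by omega)

variable {f : X ⟶ Y}

section Source

variable [IsProper f] [Flat f] [LocallyOfFinitePresentation f] [CompactSpace Y] [QuasiSeparatedSpace Y]
  [DCoh.HasRpush f] {hf : DCoh.RpushPreservesQCoh f} {a : DCoh.DQCoh Y ⥤ DCoh.DQCoh X}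
  (adj : DCoh.RpushQ f hf ⊣ a)

include adj in
/-- twisted pullbacks of negative objects have negative direct images -/
theorem hom_push_twist_eq_zero (O : DCoh.DQCoh Y) (eO : O.obj ≅ DCoh.inD Y (Coh.structureModule Y))
    (E : CochainComplex X.Modules ℤ) (eE : DCoh.toD X E ≅ (a.obj O).obj) [DCoh.HasLTensorCx E] [DCoh.HasLpull f]
    (C : DCoh.D Y) (hC : DCoh.IsQCohD C) (c : ℤ) (hCl : C.IsLE c) (Z : DCoh.D Y) (d : ℤ) (hcd : c < d) (hZ : Z.IsGE d)
    (v : (DCoh.Rpush f).obj ((DCoh.LTensorCx E).obj ((DCoh.Lpull f).obj C)) ⟶ Z) : v = 0 := by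
  haveI := fun {V : Scheme.{u}} (D : CochainComplex V.Modules ℤ) => KFlat.hasLTensorCx D
  haveI : CompactSpace X := QuasiCompact.compactSpace_of_compactSpace f
  haveI : QuasiSeparatedSpace X := quasiSeparatedSpace_of_quasiSeparated f
  obtain ⟨P, hP, ⟨eP⟩⟩ := Groth.L07.BvdB.DualHom.exists_kflat_rep C
  obtain ⟨M, hM, ⟨eM⟩⟩ := Groth.L07.BvdB.DualHom.exists_kflat_rep ((DCoh.Lpull f).obj C)
  obtain ⟨π⟩ := BC.ProjQC.nonempty_projection f (DCoh.toD X E) (isQCohD_of_iso eE.symm (a.obj O).property) P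
    (isQCohD_of_iso eP.symm hC) M ⟨eM ≪≫ (DCoh.Lpull f).mapIso eP.symm⟩
  obtain ⟨cm⟩ := Groth.Lead.FlatPerfect.nonempty_LTensorCx_comm E M hM
  haveI h0 : ((DCoh.Rpush f).obj (DCoh.toD X E)).IsLE 0 := by
    haveI : ((DCoh.Rpush f).obj (a.obj O).obj).IsLE 0 :=
      (DerivedCategory.isLE_iff _ 0).2 fun i hi => Groth.Agent.S3605.result X Y f hf a adj O ⟨eO⟩ i hi
    exact DerivedCategory.TStructure.t.isLE_of_iso ((DCoh.Rpush f).mapIso eE.symm) 0
  haveI hP1 : (DCoh.toD Y P).IsLE c :=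
    haveI := hCl
    DerivedCategory.TStructure.t.isLE_of_iso eP.symm _
  haveI h1 := RHom.isLE_LTensorCx P c hP1 ((DCoh.Rpush f).obj (DCoh.toD X E)) 0 h0
  haveI h2 : ((DCoh.Rpush f).obj ((DCoh.LTensorCx E).obj ((DCoh.Lpull f).obj C))).IsLE c :=
    haveI : ((DCoh.LTensorCx P).obj ((DCoh.Rpush f).obj (DCoh.toD X E))).IsLE c := by simpa using h1
    DerivedCategory.TStructure.t.isLE_of_iso
      (π ≪≫ (DCoh.Rpush f).mapIso (cm.symm ≪≫ (DCoh.LTensorCx E).mapIso eM)) _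
  haveI := hZ
  exact DerivedCategory.TStructure.t.zero v c d hcd

end Source

variable {g : Y' ⟶ Y} {g' : X' ⟶ X} {f' : X' ⟶ Y'}
  [DCoh.HasRpush f] [DCoh.HasRpush g] [DCoh.HasRpush f'] [DCoh.HasRpush g']
  {hf : DCoh.RpushPreservesQCoh f} {hf' : DCoh.RpushPreservesQCoh f'}
  {hg : DCoh.RpushPreservesQCoh g} {hg' : DCoh.RpushPreservesQCoh g'}
  [DCoh.HasLpull g] [DCoh.HasLpull g'] {hLg : Dual3.LpullPreservesQCoh g}
  {hLg' : Dual3.LpullPreservesQCoh g'}
  {a : DCoh.DQCoh Y ⥤ DCoh.DQCoh X} {a' : DCoh.DQCoh Y' ⥤ DCoh.DQCoh X'}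

/-- the pullbacks of twisted pullbacks only depend on the pullback to the base -/
theorem nonempty_pullTwist (hsq : IsPullback g' f' f g) [DCoh.HasLpull f] [DCoh.HasLpull f']
    (E : CochainComplex X.Modules ℤ) (hE : DCoh.IsKFlat E) [DCoh.HasLTensorCx E]
    [DCoh.HasLTensorCx ((Proj.pullCx g').obj E)] :
    Nonempty (DCoh.Lpull f ⋙ DCoh.LTensorCx E ⋙ DCoh.Lpull g' ≅
      DCoh.Lpull g ⋙ DCoh.Lpull f' ⋙ DCoh.LTensorCx ((Proj.pullCx g').obj E)) := by
  obtain ⟨p⟩ := Groth.L10.FMBC.nonempty_pullTensorD g' E hE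
  let c : DCoh.Lpull f ⋙ DCoh.Lpull g' ≅ DCoh.Lpull g ⋙ DCoh.Lpull f' :=
    (((BC.adj f).comp (BC.adj g')).ofNatIsoRight (BC.e hsq.w)).leftAdjointUniq ((BC.adj g).comp (BC.adj f'))
  exact ⟨Functor.isoWhiskerLeft (DCoh.Lpull f) p ≪≫ (Functor.associator _ _ _).symm ≪≫
    Functor.isoWhiskerRight c (DCoh.LTensorCx ((Proj.pullCx g').obj E)) ≪≫ Functor.associator _ _ _⟩

set_option maxHeartbeats 800000 in
/-- direct images of twisted pullbacks are, abstractly, twists of direct images -/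
theorem nonempty_twist_push_iso (hsq : IsPullback g' f' f g) [IsAffineHom g] [IsProper f] [Flat f]
    [DCoh.HasLpull f] [DCoh.HasLpull f'] (E : CochainComplex X.Modules ℤ) (hE : DCoh.IsKFlat E)
    (hEq : DCoh.IsQCohD (DCoh.toD X E)) [DCoh.HasLTensorCx E] [DCoh.HasLTensorCx ((Proj.pullCx g').obj E)]
    (M : DCoh.D Y') (hM : DCoh.IsQCohD M) :
    Nonempty ((DCoh.LTensorCx E).obj ((DCoh.Lpull f).obj ((DCoh.Rpush g).obj M)) ≅
      (DCoh.Rpush g').obj ((DCoh.LTensorCx ((Proj.pullCx g').obj E)).obj ((DCoh.Lpull f').obj M))) := by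
  haveI : IsAffineHom g' := MorphismProperty.of_isPullback hsq.flip inferInstance
  haveI : QuasiCompact g := inferInstance
  haveI : QuasiSeparated g := inferInstance
  obtain ⟨π⟩ := BC.ProjQC.nonempty_projection g' ((DCoh.Lpull f').obj M) (isQCohD_Lpull f' hM) E hEq
    ((Proj.pullCx g').obj E) ⟨(DerivedApi.objIso (DerivedApi.acyclicKFlat_pullback g') E hE).symm⟩
  exact ⟨(DCoh.LTensorCx E).mapIso (@asIso _ _ _ _ (BC.β hsq.flip.w M) (BC.BC_flat hsq.flip M hM)) ≪≫ π⟩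

variable (adj : DCoh.RpushQ f hf ⊣ a) (adj' : DCoh.RpushQ f' hf' ⊣ a')
  (adjg : Dual3.LpullQ g hLg ⊣ DCoh.RpushQ g hg) (adjg' : Dual3.LpullQ g' hLg' ⊣ DCoh.RpushQ g' hg')

set_option maxHeartbeats 1600000 in
/-- base change of the relative dualizing complex along a closed immersion of affine bases, given finiteness of
maps into the direct image -/
theorem isIso_bcMap_closed [IsAffine Y] [IsAffine Y'] [IsClosedImmersion g] [IsProper f] [Flat f]
    [LocallyOfFinitePresentation f] (hsq : IsPullback g' f' f g)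
    (O : DCoh.DQCoh Y) (n : ℤ) (eO : O.obj ≅ (OD Y)⟦n⟧)
    (hξ : IsIso (Dual3.xi adj adj' (eQ hf hf' hg hg' hsq.w) ((Dual3.LpullQ g hLg).obj O)))
    (hfin : letI : X.Over (Spec Γ(Y, ⊤)) := ⟨f ≫ Y.isoSpec.hom⟩
      ∀ P : DCoh.D X, DCoh.IsPerfect P →
        IsNoetherian Γ(Y, ⊤) (P ⟶ (a.obj ((DCoh.RpushQ g hg).obj ((Dual3.LpullQ g hLg).obj O))).obj)) :
    IsIso (Dual3.bcMap adj adj' (eQ hf hf' hg hg' hsq.w) adjg adjg' O hξ) := by
  haveI := fun {A B : Scheme.{u}} (h : A ⟶ B) => KFlat.hasLpull h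
  haveI := fun {V : Scheme.{u}} (D : CochainComplex V.Modules ℤ) => KFlat.hasLTensorCx D
  letI := g.appTop.hom.toAlgebra
  letI iY : Y.Over (Spec Γ(Y, ⊤)) := ⟨Y.isoSpec.hom⟩
  letI iY' : Y'.Over (Spec Γ(Y', ⊤)) := ⟨Y'.isoSpec.hom⟩
  letI iX : X.Over (Spec Γ(Y, ⊤)) := ⟨f ≫ Y.isoSpec.hom⟩
  haveI : CompactSpace X := QuasiCompact.compactSpace_of_compactSpace f
  haveI : QuasiSeparatedSpace X := quasiSeparatedSpace_of_quasiSeparated f
  haveI : IsAffineHom g' := MorphismProperty.of_isPullback hsq.flip inferInstance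
  have hgY : g ≫ (Y ↘ Spec Γ(Y, ⊤)) =
      (Y' ↘ Spec Γ(Y', ⊤)) ≫ Spec.map (CommRingCat.ofHom (algebraMap Γ(Y, ⊤) Γ(Y', ⊤))) :=
    (Scheme.isoSpec_hom_naturality g).symm
  set e := eQ hf hf' hg hg' hsq.w with he
  set β := Dual3.bcMap adj adj' e adjg adjg' O hξ with hβdef
  let M := (Dual3.LpullQ g hLg).obj O
  let Q := (DCoh.RpushQ g hg).obj M
  let η : O ⟶ Q := adjg.unit.app O
  let γ : (Dual3.LpullQ g' hLg').obj (a.obj Q) ⟶ a'.obj M :=
    (adjg'.homEquiv _ _).symm (@inv _ _ _ _ (Dual3.xi adj adj' e M) hξ)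
  have hβ : β = (Dual3.LpullQ g' hLg').map (a.map η) ≫ γ := by
    simp only [γ, Adjunction.homEquiv_counit]
    rfl
  -- the twisting description of the right adjoint
  let O₁ : DCoh.DQCoh Y := ⟨OD Y, Groth.Lead.LTMod.isQCohD_inD_of (Groth.L19.Conormal.isQCoh_structureModule Y)⟩
  obtain ⟨E, hE, ⟨eE⟩⟩ := Groth.L07.BvdB.DualHom.exists_kflat_rep (a.obj O₁).obj
  have hEq : DCoh.IsQCohD (DCoh.toD X E) := isQCohD_of_iso eE.symm (a.obj O₁).property
  obtain ⟨T⟩ := BC.AdjTensor.nonempty_iso f adj (fun P hP => BC.isPerfect_Rpush f hP) O₁ ⟨Iso.refl _⟩ E ⟨eE⟩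
  letI := BC.commShiftLpull g
  letI := Gen.commShiftRpush g
  obtain ⟨o'⟩ := nonempty_Lpull_OD g
  let eM : M.obj ≅ (OD Y')⟦n⟧ := (DCoh.Lpull g).mapIso eO ≪≫ ((DCoh.Lpull g).commShiftIso n).app _ ≪≫
    (shiftFunctor (DCoh.D Y') n).mapIso o'
  let eQ' : Q.obj ≅ ((DCoh.Rpush g).obj (OD Y'))⟦n⟧ :=
    (DCoh.Rpush g).mapIso eM ≪≫ ((DCoh.Rpush g).commShiftIso n).app _
  -- a retraction of the pullback of `a η`
  obtain ⟨r, hr⟩ : ∃ r : (Dual3.LpullQ g' hLg').obj (a.obj Q) ⟶ (Dual3.LpullQ g' hLg').obj (a.obj O),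
      (Dual3.LpullQ g' hLg').map (a.map η) ≫ r = 𝟙 _ := by
    obtain ⟨c⟩ := nonempty_pullTwist hsq E hE
    let C : (a ⋙ ObjectProperty.ι _) ⋙ DCoh.Lpull g' ≅
        ObjectProperty.ι _ ⋙ DCoh.Lpull g ⋙ DCoh.Lpull f' ⋙ DCoh.LTensorCx ((Proj.pullCx g').obj E) :=
      Functor.isoWhiskerRight T (DCoh.Lpull g') ≪≫ Functor.isoWhiskerLeft _ c
    let F' := DCoh.Lpull f' ⋙ DCoh.LTensorCx ((Proj.pullCx g').obj E)
    refine ⟨ObjectProperty.homMk (C.hom.app Q ≫ F'.map (adjg.counit.app M).hom ≫ C.inv.app O), ?_⟩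
    apply ObjectProperty.hom_ext
    change (DCoh.Lpull g').map (a.map η).hom ≫ C.hom.app Q ≫ F'.map (adjg.counit.app M).hom ≫ C.inv.app O = 𝟙 _
    have hn : (DCoh.Lpull g').map (a.map η).hom ≫ C.hom.app Q = C.hom.app O ≫ F'.map ((DCoh.Lpull g).map η.hom) :=
      C.hom.naturality η
    rw [reassoc_of% hn, ← Functor.map_comp_assoc,
      show (DCoh.Lpull g).map η.hom ≫ (adjg.counit.app M).hom = 𝟙 _ from
        congrArg (·.hom) (adjg.left_triangle_components O)]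
    erw [CategoryTheory.Functor.map_id, Category.id_comp]
    exact C.hom_inv_id_app O
  -- endomorphisms of `a Q` are determined on `a O`
  have huniq : ∀ y : a.obj Q ⟶ a.obj Q, a.map η ≫ y = 0 → y = 0 := fun y hy => by
    obtain ⟨m, C₀, p, δ, hT, hCq, hCl⟩ := exists_cone_le g
    let OY : DCoh.DQCoh Y := ⟨OD Y, Groth.Lead.LTMod.isQCohD_inD_of (Groth.L19.Conormal.isQCoh_structureModule Y)⟩
    let m₁ : O.obj ⟶ Q.obj := eO.hom ≫ m⟦n⟧' ≫ eQ'.inv
    -- every map `O ⟶ Q` is a multiple of the unit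
    obtain ⟨ρ, hρ⟩ : ∃ ρ : O ⟶ O, m₁ = ρ.hom ≫ η.hom := by
      let v := (adjg.homEquiv O M).symm (ObjectProperty.homMk m₁)
      obtain ⟨φ₁, hφ₁⟩ := (shiftFunctor (DCoh.D Y') n).map_surjective (eM.inv ≫ v.hom ≫ eM.hom)
      obtain ⟨φ₀, hφ₀⟩ := (DerivedCategory.singleFunctor Y'.Modules 0).map_surjective φ₁
      obtain ⟨b, rfl⟩ := exists_smul_structure φ₀
      obtain ⟨r₀, hr₀⟩ := (IsClosedImmersion.isAffine_surjective_of_isAffine (f := g)).2 b
      have hv : v.hom = algebraMap Γ(Y, ⊤) Γ(Y', ⊤) r₀ • 𝟙 M.obj := by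
        rw [show algebraMap Γ(Y, ⊤) Γ(Y', ⊤) r₀ = b from hr₀, ← cancel_epi eM.inv, ← cancel_mono eM.hom,
          Category.assoc, ← hφ₁, ← hφ₀, Functor.map_smul, CategoryTheory.Functor.map_id, Functor.map_smul,
          CategoryTheory.Functor.map_id, Linear.comp_smul,
          Linear.smul_comp, Category.comp_id, Iso.inv_hom_id]
      refine ⟨ObjectProperty.homMk (r₀ • 𝟙 O.obj), ?_⟩
      have h1 : m₁ = η.hom ≫ (DCoh.Rpush g).map v.hom := congrArg (·.hom)
        (((adjg.homEquiv O M).apply_symm_apply (ObjectProperty.homMk m₁)).symm.trans (adjg.homEquiv_unit _ _ _))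
      rw [h1, hv, Rpush_smul (algebraMap Γ(Y, ⊤) Γ(Y', ⊤)) g hgY r₀ (𝟙 M.obj), CategoryTheory.Functor.map_id,
        Linear.comp_smul]
      change r₀ • η.hom ≫ 𝟙 _ = (r₀ • 𝟙 O.obj) ≫ η.hom
      rw [Linear.smul_comp]
      erw [Category.comp_id, Category.id_comp]
    have hm : (a.map (ObjectProperty.homMk m₁ : O ⟶ Q)).hom ≫ y.hom = 0 := by
      rw [show (ObjectProperty.homMk m₁ : O ⟶ Q) = ρ ≫ η from ObjectProperty.hom_ext _ hρ, Functor.map_comp]
      have h := congrArg (·.hom) hy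
      change (a.map η).hom ≫ y.hom = 0 at h
      change ((a.map ρ).hom ≫ (a.map η).hom) ≫ y.hom = 0
      rw [Category.assoc, h, comp_zero]
    let Tn := (Triangle.shiftFunctor (DCoh.D Y) n).obj (Triangle.mk m p δ)
    have hTn : Tn ∈ distTriang _ := Triangle.shift_distinguished _ hT n
    obtain ⟨C₁, p₁, δ₁, hT₁⟩ := distinguished_cocone_triangle m₁
    let T₁ := Triangle.mk m₁ p₁ δ₁
    obtain ⟨i₂, hi₂⟩ : ∃ i₂ : Q.obj ≅ Tn.obj₂, m₁ ≫ i₂.hom = eO.hom ≫ Tn.mor₁ := by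
      refine ⟨eQ' ≪≫ ⟨((n.negOnePow : ℤˣ) : ℤ) • 𝟙 _, ((n.negOnePow : ℤˣ) : ℤ) • 𝟙 _, ?_, ?_⟩, ?_⟩
      · rw [Preadditive.zsmul_comp, Category.id_comp, smul_smul, ← Units.val_mul, Int.units_mul_self,
          Units.val_one, one_smul]
        rfl
      · rw [Preadditive.zsmul_comp, Category.id_comp, smul_smul, ← Units.val_mul, Int.units_mul_self,
          Units.val_one, one_smul]
        rfl
      · simp [m₁, Tn, Triangle.shiftFunctor, Units.smul_def]
    let θ := isoTriangleOfIso₁₂ T₁ Tn hT₁ hTn eO i₂ hi₂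
    have hC₁q : DCoh.IsQCohD C₁ := Gen.isQCohD_third _ hT₁ O.property Q.property
    have hC₁l : C₁.IsLE (-1 - n) :=
      haveI := hCl
      haveI : (C₀⟦n⟧).IsLE (-1 - n) := DerivedCategory.TStructure.t.isLE_shift C₀ (-1) n (-1 - n) (by omega)
      haveI : DerivedCategory.IsLE (Triangle.π₃.obj Tn) (-1 - n) :=
        inferInstanceAs ((C₀⟦n⟧).IsLE (-1 - n))
      DerivedCategory.TStructure.t.isLE_of_iso (Triangle.π₃.mapIso θ).symm (-1 - n)
    letI := BC.commShiftLpull f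
    haveI := BC.isTriangulated_Lpull f
    let T₂ := (DCoh.Lpull f).mapTriangle.obj T₁
    obtain ⟨h', hd⟩ := BC.LTExact.exists_distinguished E T₂.invRotate
      (inv_rot_of_distTriang _ ((DCoh.Lpull f).map_distinguished _ hT₁))
    let y' : (DCoh.LTensorCx E).obj ((DCoh.Lpull f).obj Q.obj) ⟶ (a.obj Q).obj := T.inv.app Q ≫ y.hom
    have hy' : (DCoh.LTensorCx E).map ((DCoh.Lpull f).map m₁) ≫ y' = 0 := by
      have hn := T.inv.naturality (ObjectProperty.homMk m₁ : O ⟶ Q)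
      change (DCoh.LTensorCx E).map ((DCoh.Lpull f).map m₁) ≫ T.inv.app Q =
        T.inv.app O ≫ (a.map (ObjectProperty.homMk m₁ : O ⟶ Q)).hom at hn
      simp only [y', reassoc_of% hn, hm, comp_zero]
    obtain ⟨t, ht⟩ := Triangle.yoneda_exact₂ _ hd y' hy'
    have ht0 : t = 0 := by
      let C' : DCoh.DQCoh X := ⟨(DCoh.LTensorCx E).obj ((DCoh.Lpull f).obj C₁),
        isQCohD_LTensorCx E hEq (isQCohD_Lpull f hC₁q)⟩
      have hGE : Q.obj.IsGE (-n) :=
        haveI := RpushQC.isGE_Rpush g (OD Y') 0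
        haveI := DerivedCategory.TStructure.t.isGE_shift ((DCoh.Rpush g).obj (OD Y')) 0 n (-n) (by omega)
        DerivedCategory.TStructure.t.isGE_of_iso eQ'.symm (-n)
      let t' : C' ⟶ a.obj Q := ObjectProperty.homMk
        ((DCoh.LTensorCx E).map ((shiftEquiv (DCoh.D X) (1 : ℤ)).counitIso.inv.app _) ≫ t)
      have h0 : (adj.homEquiv C' Q).symm t' = 0 :=
        ObjectProperty.hom_ext _ (hom_push_twist_eq_zero adj O₁ (Iso.refl _) E eE C₁ hC₁q (-1 - n) hC₁l _ (-n) (by omega) hGE _)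
      haveI := RpushColim.additive_Rpush f
      have h1 : t' = 0 := (adj.homEquiv C' Q).symm.injective (h0.trans (by
        apply ObjectProperty.hom_ext
        rw [Adjunction.homEquiv_counit]
        change (0 : _ ⟶ _) = (DCoh.Rpush f).map 0 ≫ (adj.counit.app Q).hom
        rw [Functor.map_zero, zero_comp]))
      have h2 := congrArg (·.hom) h1
      exact (cancel_epi ((DCoh.LTensorCx E).map ((shiftEquiv (DCoh.D X) (1 : ℤ)).counitIso.inv.app _))).1
        (h2.trans comp_zero.symm)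
    have hy0 : y' = 0 := by rw [ht, ht0]; exact comp_zero
    apply ObjectProperty.hom_ext
    exact (cancel_epi (T.inv.app Q)).1 (hy0.trans comp_zero.symm)
  -- `ψ` is split epi
  let ψ : (DCoh.RpushQ g' hg').obj ((Dual3.LpullQ g' hLg').obj (a.obj O)) ⟶ a.obj Q :=
    (DCoh.RpushQ g' hg').map β ≫ Dual3.xi adj adj' e M
  let χ : a.obj Q ⟶ (DCoh.RpushQ g' hg').obj ((Dual3.LpullQ g' hLg').obj (a.obj O)) := adjg'.homEquiv _ _ r
  haveI := hξ
  have hχ : χ ≫ ψ = 𝟙 _ := by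
    refine sub_eq_zero.1 (huniq _ ?_)
    rw [Preadditive.comp_sub, Category.comp_id, sub_eq_zero]
    simp only [χ, ψ]
    rw [← Category.assoc, ← adjg'.homEquiv_naturality_left, hr, ← Category.assoc, ← adjg'.homEquiv_naturality_right,
      Category.id_comp, hβ, adjg'.homEquiv_naturality_left, Category.assoc]
    simp only [γ, Equiv.apply_symm_apply]
    erw [Equiv.apply_symm_apply, IsIso.inv_hom_id, Category.comp_id]
  -- an abstract isomorphism, and surjective endomorphisms of finite modules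
  obtain ⟨i₀⟩ := nonempty_twist_push_iso hsq E hE hEq M.obj M.property
  obtain ⟨c⟩ := nonempty_pullTwist hsq E hE
  let i : (a.obj Q).obj ≅ ((DCoh.RpushQ g' hg').obj ((Dual3.LpullQ g' hLg').obj (a.obj O))).obj :=
    T.app Q ≪≫ i₀ ≪≫ (DCoh.Rpush g').mapIso ((c.app O.obj).symm ≪≫ (DCoh.Lpull g').mapIso (T.app O).symm)
  let σ : (a.obj Q).obj ⟶ (a.obj Q).obj := i.hom ≫ ψ.hom
  have hsplit : (χ.hom ≫ i.inv) ≫ σ = 𝟙 _ := by
    simp only [σ, Category.assoc, Iso.inv_hom_id_assoc]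
    exact congrArg (·.hom) hχ
  obtain ⟨G, hG, hgen⟩ := Gen.exists_perfect_generator X
  haveI : IsIso σ := BC.AdjCoprod.isIso_of_bijective hgen (a.obj Q).property (a.obj Q).property σ fun n => by
    haveI := hfin (G⟦n⟧) (perfect_shift hG n)
    have hs : Function.Surjective (Linear.rightComp Γ(Y, ⊤) (G⟦n⟧) σ) := fun w =>
      ⟨w ≫ χ.hom ≫ i.inv, (Category.assoc _ _ _).trans ((congrArg (w ≫ ·) hsplit).trans (Category.comp_id _))⟩
    exact ⟨IsNoetherian.injective_of_surjective_endomorphism _ hs, hs⟩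
  haveI : IsIso ψ.hom := IsIso.of_isIso_comp_left i.hom ψ.hom
  haveI hξh : IsIso (Dual3.xi adj adj' e M).hom :=
    inferInstanceAs (IsIso ((DCoh.IsQCohD (X := X)).ι.map (Dual3.xi adj adj' e M)))
  haveI hR : IsIso ((DCoh.Rpush g').map β.hom) := by
    haveI : IsIso ((DCoh.Rpush g').map β.hom ≫ (Dual3.xi adj adj' e M).hom) := inferInstanceAs (IsIso ψ.hom)
    exact IsIso.of_isIso_comp_right _ (Dual3.xi adj adj' e M).hom
  haveI : IsIso ((DCoh.IsQCohD (X := X')).ι.map β) :=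
    RpushQC.isIso_of_isIso_Rpush g' ((Dual3.LpullQ g' hLg').obj (a.obj O)).property (a'.obj M).property β.hom hR
  exact isIso_of_reflects_iso β (DCoh.IsQCohD (X := X')).ι

end Groth.L29.BCAdj
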