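import Groth.Agent.L29.BCAdj.AdjClosed

/-!
Finiteness needed for the base change of dualizing complexes along closed immersions of Noetherian affine bases.
-/

set_option autoImplicit false
set_option linter.style.haveILetI false
set_option backward.defeqAttrib.useBackward true
set_option backward.isDefEq.respectTransparency false
set_option backward.isDefEq.respectTransparency.types false

universe u

open CategoryTheory CategoryTheory.Limits CategoryTheory.Pretriangulated AlgebraicGeometry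

attribute [local instance] HasDerivedCategory.standard

noncomputable section

namespace Groth.L29.BCAdj

open Groth.L00 Groth.L29.DC Groth.L29.BC.Paste

variable {X Y X' Y' : Scheme.{u}} {f : X ⟶ Y} {g : Y' ⟶ Y} {g' : X' ⟶ X} {f' : X' ⟶ Y'}
  [DCoh.HasRpush f] [DCoh.HasRpush g] [DCoh.HasRpush f'] [DCoh.HasRpush g']
  {hf : DCoh.RpushPreservesQCoh f} {hf' : DCoh.RpushPreservesQCoh f'}
  {hg : DCoh.RpushPreservesQCoh g} {hg' : DCoh.RpushPreservesQCoh g'}
  [DCoh.HasLpull g] [DCoh.HasLpull g'] {hLg : Dual3.LpullPreservesQCoh g}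
  {hLg' : Dual3.LpullPreservesQCoh g'}
  {a : DCoh.DQCoh Y ⥤ DCoh.DQCoh X} {a' : DCoh.DQCoh Y' ⥤ DCoh.DQCoh X'}
  (adj : DCoh.RpushQ f hf ⊣ a) (adj' : DCoh.RpushQ f' hf' ⊣ a')
  (adjg : Dual3.LpullQ g hLg ⊣ DCoh.RpushQ g hg) (adjg' : Dual3.LpullQ g' hLg' ⊣ DCoh.RpushQ g' hg')

set_option maxHeartbeats 800000 in
/-- base change of the relative dualizing complex along a closed immersion from a Noetherian affine base -/
theorem isIso_bcMap_closed_noetherian [IsAffine Y] [IsAffine Y'] [IsNoetherian Y'] [IsClosedImmersion g] [IsProper f]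
    [Flat f] [LocallyOfFinitePresentation f] (hsq : IsPullback g' f' f g)
    (O : DCoh.DQCoh Y) (n : ℤ) (eO : O.obj ≅ (OD Y)⟦n⟧)
    (hξ : IsIso (Dual3.xi adj adj' (eQ hf hf' hg hg' hsq.w) ((Dual3.LpullQ g hLg).obj O))) :
    IsIso (Dual3.bcMap adj adj' (eQ hf hf' hg hg' hsq.w) adjg adjg' O hξ) := by
  refine isIso_bcMap_closed adj adj' adjg adjg' hsq O n eO hξ ?_
  letI := g.appTop.hom.toAlgebra
  letI iY : Y.Over (Spec Γ(Y, ⊤)) := ⟨Y.isoSpec.hom⟩
  letI iY' : Y'.Over (Spec Γ(Y', ⊤)) := ⟨Y'.isoSpec.hom⟩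
  letI iX : X.Over (Spec Γ(Y, ⊤)) := ⟨f ≫ Y.isoSpec.hom⟩
  intro P hP
  haveI := fun {A B : Scheme.{u}} (h : A ⟶ B) => KFlat.hasLpull h
  haveI : IsNoetherianRing Γ(Y', ⊤) := IsLocallyNoetherian.component_noetherian ⟨⊤, isAffineOpen_top Y'⟩
  haveI : CompactSpace X := QuasiCompact.compactSpace_of_compactSpace f
  haveI : CompactSpace Y' := inferInstance
  haveI : IsProper (Y' ↘ Spec Γ(Y', ⊤)) := inferInstanceAs (IsProper Y'.isoSpec.hom)
  have hgY : g ≫ (Y ↘ Spec Γ(Y, ⊤)) =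
      (Y' ↘ Spec Γ(Y', ⊤)) ≫ Spec.map (CommRingCat.ofHom (algebraMap Γ(Y, ⊤) Γ(Y', ⊤))) :=
    (Scheme.isoSpec_hom_naturality g).symm
  have hfA : f ≫ (Y ↘ Spec Γ(Y, ⊤)) =
      (X ↘ Spec Γ(Y, ⊤)) ≫ Spec.map (CommRingCat.ofHom (RingHom.id Γ(Y, ⊤))) := by
    rw [CommRingCat.ofHom_id, Spec.map_id]; exact (Category.comp_id _).symm
  haveI := RpushColim.additive_Rpush f
  haveI := RpushColim.additive_Rpush g
  let M := (Dual3.LpullQ g hLg).obj O
  let Q := (DCoh.RpushQ g hg).obj M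
  let N := (DCoh.Rpush f).obj P
  have hN : DCoh.IsPerfect N := BC.isPerfect_Rpush f hP
  -- maps on the affine closed subscheme
  haveI : Module.Finite Γ(Y', ⊤) ((DCoh.Lpull g).obj N ⟶ M.obj) := by
    obtain ⟨a₀, b₀, ha₀, hb₀⟩ := Groth.L29.CohSupp.exists_bounds_of_perfect (isPerfect_Lpull g hN)
    haveI := hb₀
    obtain ⟨o'⟩ := nonempty_Lpull_OD g
    letI := BC.commShiftLpull g
    let eM : M.obj ≅ (OD Y')⟦n⟧ := (DCoh.Lpull g).mapIso eO ≪≫ ((DCoh.Lpull g).commShiftIso n).app _ ≪≫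
      (shiftFunctor (DCoh.D Y') n).mapIso o'
    have hMp : DCoh.IsPerfect M.obj := isPerfect_of_iso eM.symm (perfect_shift
      (isPerfect_of_iso ((DerivedCategory.singleFunctorIsoCompQ _ 0).app _).symm BC.AdjTensor.isPerfect_O0) n)
    haveI := DerivedCategory.TStructure.t.isGE_shift (OD Y') 0 n (-n) (by omega)
    exact finite_hom_proper (Groth.L29.CohSupp.isCohD_of_perfect (isPerfect_Lpull g hN)) b₀
      (Groth.L29.CohSupp.isCohD_of_perfect hMp) (-n) (DerivedCategory.TStructure.t.isGE_of_iso eM.symm (-n))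
  haveI : _root_.IsNoetherian Γ(Y, ⊤) (N ⟶ Q.obj) := by
    haveI : _root_.IsNoetherian Γ(Y', ⊤) ((DCoh.Lpull g).obj N ⟶ M.obj) := isNoetherian_of_isNoetherianRing_of_finite _ _
    let ψ : ((DCoh.Lpull g).obj N ⟶ M.obj) → (N ⟶ Q.obj) := fun w => (BC.adj g).homEquiv N M.obj w
    have hψ : ∀ w, ψ w = (BC.adj g).unit.app N ≫ (DCoh.Rpush g).map w := fun w => (BC.adj g).homEquiv_unit _ _ _
    have hψ0 : ψ 0 = 0 := by rw [hψ, Functor.map_zero, comp_zero]
    have hψa : ∀ x y, ψ (x + y) = ψ x + ψ y := fun x y => by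
      rw [hψ, Functor.map_add, Preadditive.comp_add, ← hψ, ← hψ]
    have hψs : ∀ (r : Γ(Y, ⊤)) x, ψ (algebraMap Γ(Y, ⊤) Γ(Y', ⊤) r • x) = r • ψ x := fun r x => by
      rw [hψ, Rpush_smul (algebraMap Γ(Y, ⊤) Γ(Y', ⊤)) g hgY r x, Linear.comp_smul, ← hψ]
    classical
    refine ⟨fun S => ?_⟩
    let T : Submodule Γ(Y', ⊤) ((DCoh.Lpull g).obj N ⟶ M.obj) :=
      { carrier := {w | ψ w ∈ S}
        add_mem' := fun {x y} hx hy => by
          change ψ (x + y) ∈ S
          rw [hψa]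
          exact S.add_mem hx hy
        zero_mem' := by
          change ψ 0 ∈ S
          rw [hψ0]
          exact S.zero_mem
        smul_mem' := fun b x hx => by
          obtain ⟨r, rfl⟩ := (IsClosedImmersion.isAffine_surjective_of_isAffine (f := g)).2 b
          change ψ (algebraMap Γ(Y, ⊤) Γ(Y', ⊤) r • x) ∈ S
          rw [hψs]
          exact S.smul_mem r hx }
    obtain ⟨s, hs⟩ := IsNoetherian.noetherian T
    have hsT : ∀ x ∈ s, ψ x ∈ S := fun x hx =>
      (show x ∈ T from hs ▸ Submodule.subset_span (Finset.mem_coe.2 hx))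
    refine ⟨s.image ψ, le_antisymm (Submodule.span_le.2 fun v hv => ?_) fun v hv => ?_⟩
    · obtain ⟨x, hx, rfl⟩ := Finset.mem_image.1 (Finset.mem_coe.1 hv)
      exact hsT x hx
    · obtain ⟨w, rfl⟩ := ((BC.adj g).homEquiv N M.obj).surjective v
      have hw : w ∈ Submodule.span Γ(Y', ⊤) (s : Set _) := by rw [hs]; exact hv
      change ψ w ∈ _
      clear * - hw hψ0 hψa hψs s
      induction hw using Submodule.span_induction with
      | mem x hx => exact Submodule.subset_span (Finset.mem_coe.2 (Finset.mem_image_of_mem ψ hx))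
      | zero => rw [hψ0]; exact Submodule.zero_mem _
      | add x y _ _ hx hy => rw [hψa]; exact Submodule.add_mem _ hx hy
      | smul b x _ hx =>
        obtain ⟨r, rfl⟩ := (IsClosedImmersion.isAffine_surjective_of_isAffine (f := g)).2 b
        change ψ (algebraMap Γ(Y, ⊤) Γ(Y', ⊤) r • x) ∈ _
        rw [hψs]
        exact Submodule.smul_mem _ r hx
  let P' : DCoh.DQCoh X := ⟨P, PCQCoh.isQCohD_of_perfect hP⟩
  let fA : (P ⟶ (a.obj Q).obj) →ₗ[Γ(Y, ⊤)] (N ⟶ Q.obj) :=
    { toFun := fun u => (DCoh.Rpush f).map u ≫ (adj.counit.app Q).hom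
      map_add' := fun u u' => by
        rw [Functor.map_add]
        exact Preadditive.add_comp _ _ _ _ _ _
      map_smul' := fun r u => by
        have hs := Rpush_smul (RingHom.id Γ(Y, ⊤)) f hfA r u
        simp only [RingHom.id_apply] at hs ⊢
        rw [hs]
        exact Linear.smul_comp _ _ _ _ _ _ }
  refine isNoetherian_of_injective fA ?_
  have h2 : (fA : _ → _) = homQ ∘ (adj.homEquiv P' Q).symm ∘ (homQ (K := P') (M := a.obj Q)).symm :=
    funext fun w => by simp [fA, homQ, Adjunction.homEquiv_counit]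
  rw [h2]
  exact ((Equiv.injective _).comp (Equiv.injective _)).comp (Equiv.injective _)

end Groth.L29.BCAdj
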