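import Groth.Agent.L29.BCAdj.AdjTor
import Groth.Agent.L29.DCoh.PCNakayama
import Groth.Agent.L05.Point.UnramFlat
import Groth.Agent.S3619

/-!
Base change of relative dualizing complexes of flat proper morphisms of finite presentation along arbitrary
morphisms.
-/

set_option autoImplicit false
set_option linter.style.haveILetI false
set_option backward.defeqAttrib.useBackward true
set_option backward.isDefEq.respectTransparency false
set_option backward.isDefEq.respectTransparency.types false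

universe u

open CategoryTheory CategoryTheory.Limits CategoryTheory.Pretriangulated AlgebraicGeometry

attribute [local instance] HasDerivedCategory.standard

noncomputable section

namespace Groth.L29.BCAdj

open Groth.L00 Groth.L29.DC Groth.L29.BC.Paste

variable {Y Y' Y'' : Scheme.{u}}

/-- relative dualizing complexes of flat proper morphisms commute with the base change `g` -/
structure DualBC (g : Y' ⟶ Y) : Prop where
  iso : ∀ {X X' : Scheme.{u}} {f : X ⟶ Y} {g' : X' ⟶ X} {f' : X' ⟶ Y'} [IsProper f] [Flat f]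
    [LocallyOfFinitePresentation f] (hsq : IsPullback g' f' f g)
    [DCoh.HasRpush f] [DCoh.HasRpush g] [DCoh.HasRpush f'] [DCoh.HasRpush g'] [DCoh.HasLpull g] [DCoh.HasLpull g']
    {hf : DCoh.RpushPreservesQCoh f} {hf' : DCoh.RpushPreservesQCoh f'}
    {hg : DCoh.RpushPreservesQCoh g} {hg' : DCoh.RpushPreservesQCoh g'}
    {hLg : Dual3.LpullPreservesQCoh g} {hLg' : Dual3.LpullPreservesQCoh g'}
    {a : DCoh.DQCoh Y ⥤ DCoh.DQCoh X} {a' : DCoh.DQCoh Y' ⥤ DCoh.DQCoh X'}
    (adj : DCoh.RpushQ f hf ⊣ a) (adj' : DCoh.RpushQ f' hf' ⊣ a')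
    (adjg : Dual3.LpullQ g hLg ⊣ DCoh.RpushQ g hg) (adjg' : Dual3.LpullQ g' hLg' ⊣ DCoh.RpushQ g' hg')
    (O : DCoh.DQCoh Y) (n : ℤ) (_ : O.obj ≅ (OD Y)⟦n⟧)
    (hξ : IsIso (Dual3.xi adj adj' (eQ hf hf' hg hg' hsq.w) ((Dual3.LpullQ g hLg).obj O))),
    IsIso (Dual3.bcMap adj adj' (eQ hf hf' hg hg' hsq.w) adjg adjg' O hξ)

/-- flat morphisms of affine schemes -/
theorem dualBC_flat [IsAffine Y] [IsAffine Y'] (g : Y' ⟶ Y) [Flat g] : DualBC g := by
  refine ⟨?_⟩
  intro X X' f g' f' _ _ _ hsq _ _ _ _ _ _ hf hf' hg hg' hLg hLg' a a' adj adj' adjg adjg' O n eO hξ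
  haveI : CompactSpace X := QuasiCompact.compactSpace_of_compactSpace f
  haveI : QuasiSeparatedSpace X := quasiSeparatedSpace_of_quasiSeparated f
  have hθ := isIso_bcQ (hf := hf) (hf' := hf') adjg adjg' (BC.BC_flat hsq)
  refine isIso_bcMap_affine adjg adjg' hsq adj adj' hθ O hξ ?_
  intro hL' _ P hPP
  exact Groth.Agent.S3618.bij_affine_perfect g hL' _ _ (BC.isPerfect_Rpush f hPP) O.property

/-- closed immersions of Noetherian affine schemes into affine schemes -/
theorem dualBC_closed [IsAffine Y] [IsAffine Y'] [IsNoetherian Y'] (g : Y' ⟶ Y) [IsClosedImmersion g] :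
    DualBC g := by
  refine ⟨?_⟩
  intro X X' f g' f' _ _ _ hsq _ _ _ _ _ _ hf hf' hg hg' hLg hLg' a a' adj adj' adjg adjg' O n eO hξ
  exact isIso_bcMap_closed_noetherian adj adj' adjg adjg' hsq O n eO hξ

/-- pullbacks of shifts of the structure sheaf -/
theorem nonempty_Lpull_ODn (k : Y' ⟶ Y) [DCoh.HasLpull k] {O : DCoh.D Y} {n : ℤ} (e : O ≅ (OD Y)⟦n⟧) :
    Nonempty ((DCoh.Lpull k).obj O ≅ (OD Y')⟦n⟧) := by
  obtain ⟨l⟩ := nonempty_Lpull_OD k
  letI := BC.commShiftLpull k
  exact ⟨(DCoh.Lpull k).mapIso e ≪≫ ((DCoh.Lpull k).commShiftIso n).app _ ≪≫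
    (shiftFunctor (DCoh.D Y') n).mapIso l⟩

/-- twisted pullbacks of shifts of the structure sheaf are pseudo-coherent -/
theorem pc_twist [CompactSpace Y] [QuasiSeparatedSpace Y] {X : Scheme.{u}} (f : X ⟶ Y) [IsProper f] [Flat f]
    [LocallyOfFinitePresentation f] [DCoh.HasRpush f] (hf : DCoh.RpushPreservesQCoh f)
    (a : DCoh.DQCoh Y ⥤ DCoh.DQCoh X) (adj : DCoh.RpushQ f hf ⊣ a) (O : DCoh.DQCoh Y) (n : ℤ)
    (eO : O.obj ≅ (OD Y)⟦n⟧) (m : ℤ) : DCoh.IsPseudoCoherentD m (a.obj O).obj := by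
  letI := Gen.commShiftRpush f
  haveI := Gen.isTriangulated_Rpush f
  letI := adj.rightAdjointCommShift ℤ
  let O₁ : DCoh.DQCoh Y := ⟨OD Y, Groth.Lead.LTMod.isQCohD_inD_of (Groth.L19.Conormal.isQCoh_structureModule Y)⟩
  let i : O ≅ O₁⟦n⟧ := ObjectProperty.isoMk _
    (eO ≪≫ (((DCoh.IsQCohD (X := Y)).ι.commShiftIso n).app O₁).symm)
  exact isPseudoCoherentD_of_iso ((DCoh.IsQCohD (X := X)).ι.mapIso (a.mapIso i ≪≫ (a.commShiftIso n).app O₁) ≪≫
    ((DCoh.IsQCohD (X := X)).ι.commShiftIso n).app (a.obj O₁)).symm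
    (pc_shift ((Groth.Agent.S3619.result X Y f hf a adj O₁ ⟨Iso.refl _⟩).1.1 (n + m)) n m rfl)

/-- composites -/
theorem DualBC.comp [CompactSpace Y'] [QuasiSeparatedSpace Y'] {k : Y'' ⟶ Y'} {g : Y' ⟶ Y} [QuasiCompact k]
    [QuasiSeparated k] [QuasiCompact g] [QuasiSeparated g] (hk : DualBC k) (hg₁ : DualBC g) : DualBC (k ≫ g) := by
  refine ⟨?_⟩
  intro X X'' f h' f'' _ _ _ hsq _ _ _ _ _ _ hf hf'' hh hh' hLh hLh' a a'' adj adj'' adjh adjh' O n eO hξ
  haveI := fun {A B : Scheme.{u}} (h : A ⟶ B) => KFlat.hasLpull h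
  haveI := fun {A B : Scheme.{u}} (h : A ⟶ B) => RpushQC.hasRpush h
  have hR : ∀ {A B : Scheme.{u}} (j : A ⟶ B) [QuasiCompact j] [QuasiSeparated j], DCoh.RpushPreservesQCoh j :=
    fun j _ _ K hK => RpushQC.isQCohD_Rpush j K hK
  have hL : ∀ {A B : Scheme.{u}} (j : A ⟶ B), Dual3.LpullPreservesQCoh j := fun j K hK => isQCohD_Lpull j hK
  let Z := Limits.pullback f g
  let p' : Z ⟶ X := pullback.fst f g
  let fP : Z ⟶ Y' := pullback.snd f g
  have hP : IsPullback p' fP f g := IsPullback.of_hasPullback f g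
  let j' : X'' ⟶ Z := hP.lift h' (f'' ≫ k) (by rw [Category.assoc, hsq.w])
  have ej' : j' ≫ p' = h' := hP.lift_fst _ _ _
  have htot : IsPullback (j' ≫ p') f'' f (k ≫ g) := by rw [ej']; exact hsq
  have hJ : IsPullback j' f'' fP k := IsPullback.of_right htot (hP.lift_snd _ _ _) hP
  haveI : IsProper fP := MorphismProperty.of_isPullback hP inferInstance
  haveI : Flat fP := MorphismProperty.of_isPullback hP inferInstance
  haveI : LocallyOfFinitePresentation fP := MorphismProperty.of_isPullback hP inferInstance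
  haveI : CompactSpace Z := QuasiCompact.compactSpace_of_compactSpace fP
  haveI : QuasiSeparatedSpace Z := quasiSeparatedSpace_of_quasiSeparated fP
  haveI : QuasiCompact j' := MorphismProperty.of_isPullback hJ.flip inferInstance
  haveI : QuasiSeparated j' := MorphismProperty.of_isPullback hJ.flip inferInstance
  haveI : QuasiCompact p' := MorphismProperty.of_isPullback hP.flip inferInstance
  haveI : QuasiSeparated p' := MorphismProperty.of_isPullback hP.flip inferInstance
  haveI := Groth.Agent.S1766.result Z Y' fP (hR fP)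
  let adjP := Adjunction.ofIsLeftAdjoint (DCoh.RpushQ fP (hR fP))
  let Ap := adjQ g (hR g) (hL g)
  let Ap' := adjQ p' (hR p') (hL p')
  let Aj := adjQ k (hR k) (hL k)
  let Aj' := adjQ j' (hR j') (hL j')
  have hθp := isIso_bcQ (hf := hf) (hf' := hR fP) Ap Ap' (BC_flat_vert hP)
  have hθj := isIso_bcQ (hf := hR fP) (hf' := hf'') Aj Aj' (BC_flat_vert hJ)
  have hθ := isIso_bcQ (hf := hf) (hf' := hf'') adjh adjh' (BC_flat_vert hsq)
  refine (isIso_bcMap_vert adj adjP adj'' Ap Ap' Aj Aj' adjh adjh' hP.w hJ.w hsq.w rfl ej' O (hθ _)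
    (Mate.isIso_xi adj adjP _ Ap Ap' hθp _) (Mate.isIso_xi adjP adj'' _ Aj Aj' hθj _) hξ).1 ?_ ?_
  · exact hg₁.iso hP adj adjP Ap Ap' O n eO _
  · obtain ⟨l⟩ := nonempty_Lpull_ODn g eO
    exact hk.iso hJ adjP adj'' Aj Aj' _ n l _

/-- open immersions of affine opens -/
theorem dualBC_open (V : Y.Opens) (hV : IsCompact (V : Set Y)) [CompactSpace Y] [QuasiSeparatedSpace Y]
    {k : Y'' ⟶ (V : Scheme.{u})} [QuasiCompact k] [QuasiSeparated k] (hk : DualBC k) : DualBC (k ≫ V.ι) := by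
  refine ⟨?_⟩
  intro X X'' f h' f'' _ _ _ hsq _ _ _ _ _ _ hf hf'' hh hh' hLh hLh' a a'' adj adj'' adjh adjh' O n eO hξ
  haveI := fun {A B : Scheme.{u}} (h : A ⟶ B) => KFlat.hasLpull h
  haveI := fun {A B : Scheme.{u}} (h : A ⟶ B) => RpushQC.hasRpush h
  have hR : ∀ {A B : Scheme.{u}} (j : A ⟶ B) [QuasiCompact j] [QuasiSeparated j], DCoh.RpushPreservesQCoh j :=
    fun j _ _ K hK => RpushQC.isQCohD_Rpush j K hK
  have hL : ∀ {A B : Scheme.{u}} (j : A ⟶ B), Dual3.LpullPreservesQCoh j := fun j K hK => isQCohD_Lpull j hK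
  haveI : CompactSpace X := QuasiCompact.compactSpace_of_compactSpace f
  haveI : QuasiSeparatedSpace X := quasiSeparatedSpace_of_quasiSeparated f
  let W := f ⁻¹ᵁ V
  have hi : IsPullback W.ι (f ∣_ V) f V.ι := (isPullback_morphismRestrict f V).flip
  let j' : X'' ⟶ (W : Scheme.{u}) := hi.lift h' (f'' ≫ k) (by rw [Category.assoc, hsq.w])
  have ej' : j' ≫ W.ι = h' := hi.lift_fst _ _ _
  have htot : IsPullback (j' ≫ W.ι) f'' f (k ≫ V.ι) := by rw [ej']; exact hsq
  have hJ : IsPullback j' f'' (f ∣_ V) k := IsPullback.of_right htot (hi.lift_snd _ _ _) hi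
  haveI : IsProper (f ∣_ V) := IsZariskiLocalAtTarget.restrict ‹IsProper f› V
  haveI : Flat (f ∣_ V) := IsZariskiLocalAtTarget.restrict ‹Flat f› V
  haveI : LocallyOfFinitePresentation (f ∣_ V) :=
    IsZariskiLocalAtTarget.restrict ‹LocallyOfFinitePresentation f› V
  haveI : CompactSpace (V : Scheme.{u}) := isCompact_iff_compactSpace.1 hV
  haveI : QuasiSeparatedSpace (V : Scheme.{u}) := quasiSeparatedSpace_of_quasiSeparated V.ι
  haveI : CompactSpace (W : Scheme.{u}) := isCompact_iff_compactSpace.1 (f.isCompact_preimage hV)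
  haveI : QuasiSeparatedSpace (W : Scheme.{u}) := quasiSeparatedSpace_of_quasiSeparated W.ι
  haveI : QuasiCompact V.ι := inferInstance
  haveI : QuasiCompact W.ι := MorphismProperty.of_isPullback hi.flip inferInstance
  haveI : QuasiCompact j' := MorphismProperty.of_isPullback hJ.flip inferInstance
  haveI : QuasiSeparated j' := MorphismProperty.of_isPullback hJ.flip inferInstance
  haveI := Groth.Agent.S1766.result (W : Scheme.{u}) (V : Scheme.{u}) (f ∣_ V) (hR (f ∣_ V))
  let adjV := Adjunction.ofIsLeftAdjoint (DCoh.RpushQ (f ∣_ V) (hR (f ∣_ V)))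
  let Ap := adjQ V.ι (hR V.ι) (hL V.ι)
  let Ap' := adjQ W.ι (hR W.ι) (hL W.ι)
  let Aj := adjQ k (hR k) (hL k)
  let Aj' := adjQ j' (hR j') (hL j')
  have hθp := isIso_bcQ (hf := hf) (hf' := hR (f ∣_ V)) Ap Ap' (BC.BC_flat hi)
  have hθj := isIso_bcQ (hf := hR (f ∣_ V)) (hf' := hf'') Aj Aj' (BC_flat_vert hJ)
  have hθ := isIso_bcQ (hf := hf) (hf' := hf'') adjh adjh' (BC_flat_vert hsq)
  refine (isIso_bcMap_vert adj adjV adj'' Ap Ap' Aj Aj' adjh adjh' hi.w hJ.w hsq.w rfl ej' O (hθ _)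
    (Mate.isIso_xi adj adjV _ Ap Ap' hθp _) (Mate.isIso_xi adjV adj'' _ Aj Aj' hθj _) hξ).1 ?_ ?_
  · exact isIso_bcMap_open V hV adj adjV _ Ap Ap' (fun P hP => BC.isPerfect_Rpush f hP) O _
  · obtain ⟨l⟩ := nonempty_Lpull_ODn V.ι eO
    exact hk.iso hJ adjV adj'' Aj Aj' _ n l _

/-- points with values in fields -/
theorem dualBC_field {K : Type u} [Field K] [CompactSpace Y] [QuasiSeparatedSpace Y]
    (g : Spec (CommRingCat.of K) ⟶ Y) : DualBC g := by
  have haff : ∀ {V : Scheme.{u}} [IsAffine V] (g₀ : Spec (CommRingCat.of K) ⟶ V), DualBC g₀ := by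
    intro V _ g₀
    rw [← V.descResidueField_stalkClosedPointTo_fromSpecResidueField K g₀]
    let v := g₀ (IsLocalRing.closedPoint K)
    let r := Scheme.descResidueField (Scheme.stalkClosedPointTo g₀)
    haveI : Flat (Spec.map r) := by
      rw [HasRingHomProperty.Spec_iff (P := @Flat)]
      letI := (IsField.toField (Ideal.Quotient.maximal_ideal_iff_isField_quotient _ |>.1
        (IsLocalRing.maximalIdeal.isMaximal (V.presheaf.stalk v))) : Field (V.residueField v))
      letI := r.hom.toAlgebra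
      exact RingHom.flat_algebraMap_iff.2 inferInstance
    haveI : IsClosedImmersion (Spec.map (V.residue v)) :=
      IsClosedImmersion.spec_of_surjective _ (V.residue_surjective v)
    haveI : Flat (V.fromSpecStalk v) := Groth.L05.Point.flat_fromSpecStalk v
    haveI : IsNoetherian (Spec (V.residueField v)) := inferInstance
    have h1 : DualBC (V.fromSpecResidueField v) := by
      rw [Scheme.fromSpecResidueField]
      exact DualBC.comp (dualBC_closed (Spec.map (V.residue v))) (dualBC_flat (V.fromSpecStalk v))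
    exact DualBC.comp (dualBC_flat (Spec.map r)) h1
  obtain ⟨_, ⟨(V : Y.Opens), hV, rfl⟩, hyV, -⟩ :=
    Y.isBasis_affineOpens.exists_subset_of_mem_open (Set.mem_univ (g (IsLocalRing.closedPoint K))) isOpen_univ
  haveI : IsAffine (V : Scheme.{u}) := hV
  have hr : Set.range g ⊆ Set.range V.ι := by
    rintro _ ⟨z, rfl⟩
    rw [Scheme.Opens.range_ι, Subsingleton.elim z (IsLocalRing.closedPoint K)]
    exact hyV
  rw [← IsOpenImmersion.lift_fac V.ι g hr]
  exact dualBC_open V hV.isCompact (haff (IsOpenImmersion.lift V.ι g hr))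

set_option maxHeartbeats 1600000 in
/-- Relative dualizing complexes of flat proper morphisms of finite presentation commute with arbitrary base
change. -/
theorem dualBC_general [CompactSpace Y] [QuasiSeparatedSpace Y] [CompactSpace Y'] [QuasiSeparatedSpace Y']
    (g : Y' ⟶ Y) : DualBC g := by
  refine ⟨?_⟩
  intro X X' f g' f' _ _ _ hsq _ _ _ _ _ _ hf hf' hg hg' hLg hLg' a a' adj adj' adjg adjg' O n eO hξ
  haveI := fun {A B : Scheme.{u}} (h : A ⟶ B) => KFlat.hasLpull h
  haveI := fun {A B : Scheme.{u}} (h : A ⟶ B) => RpushQC.hasRpush h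
  have hR : ∀ {A B : Scheme.{u}} (j : A ⟶ B) [QuasiCompact j] [QuasiSeparated j], DCoh.RpushPreservesQCoh j :=
    fun j _ _ K hK => RpushQC.isQCohD_Rpush j K hK
  have hL : ∀ {A B : Scheme.{u}} (j : A ⟶ B), Dual3.LpullPreservesQCoh j := fun j K hK => isQCohD_Lpull j hK
  haveI : IsProper f' := MorphismProperty.of_isPullback hsq inferInstance
  haveI : Flat f' := MorphismProperty.of_isPullback hsq inferInstance
  haveI : LocallyOfFinitePresentation f' := MorphismProperty.of_isPullback hsq inferInstance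
  haveI : CompactSpace X' := QuasiCompact.compactSpace_of_compactSpace f'
  haveI : QuasiSeparatedSpace X' := quasiSeparatedSpace_of_quasiSeparated f'
  haveI : CompactSpace X := QuasiCompact.compactSpace_of_compactSpace f
  haveI : QuasiSeparatedSpace X := quasiSeparatedSpace_of_quasiSeparated f
  set β := Dual3.bcMap adj adj' (eQ hf hf' hg hg' hsq.w) adjg adjg' O hξ
  suffices IsIso β.hom by
    haveI : IsIso ((DCoh.IsQCohD (X := X')).ι.map β) := this
    exact isIso_of_reflects_iso β (DCoh.IsQCohD (X := X')).ι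
  obtain ⟨C, q, d, hT⟩ := distinguished_cocone_triangle β.hom
  refine (Triangle.isZero₃_iff_isIso₁ _ hT).1 (Groth.L29.PCNakayama.isZero_of_fibres C (fun m => ?_) fun x => ?_)
  · obtain ⟨l⟩ := nonempty_Lpull_ODn g eO
    exact pc_third hT (isPseudoCoherentD_Lpull g' (pc_twist f hf a adj O n eO (m + 1)))
      (pc_twist f' hf' a' adj' ((Dual3.LpullQ g hLg).obj O) n l m)
  · let ι := Y'.fromSpecResidueField (f' x)
    let Z := Limits.pullback f' ι
    let ι' : Z ⟶ X' := pullback.fst f' ι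
    let fz : Z ⟶ Spec (Y'.residueField (f' x)) := pullback.snd f' ι
    have hk : IsPullback ι' fz f' ι := IsPullback.of_hasPullback f' ι
    have htot : IsPullback (ι' ≫ g') fz f (ι ≫ g) := hk.paste_horiz hsq
    haveI : IsProper fz := MorphismProperty.of_isPullback hk inferInstance
    haveI : CompactSpace Z := QuasiCompact.compactSpace_of_compactSpace fz
    haveI : QuasiSeparatedSpace Z := quasiSeparatedSpace_of_quasiSeparated fz
    haveI : QuasiCompact ι' := MorphismProperty.of_isPullback hk.flip inferInstance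
    haveI : QuasiSeparated ι' := MorphismProperty.of_isPullback hk.flip inferInstance
    haveI := Groth.Agent.S1766.result Z (Spec (Y'.residueField (f' x))) fz (hR fz)
    let adjz := Adjunction.ofIsLeftAdjoint (DCoh.RpushQ fz (hR fz))
    let Aι := adjQ ι (hR ι) (hL ι)
    let Aι' := adjQ ι' (hR ι') (hL ι')
    let Ah := adjQ (ι ≫ g) (hR _) (hL _)
    let Ah' := adjQ (ι' ≫ g') (hR _) (hL _)
    have hθk := isIso_bcQ (hf := hf') (hf' := hR fz) Aι Aι' (BC_flat_vert hk)
    have hθt := isIso_bcQ (hf := hf) (hf' := hR fz) Ah Ah' (BC_flat_vert htot)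
    have hξk := Mate.isIso_xi adj' adjz _ Aι Aι' hθk
      ((Dual3.LpullQ ι (hL ι)).obj ((Dual3.LpullQ g hLg).obj O))
    have hξt := Mate.isIso_xi adj adjz _ Ah Ah' hθt ((Dual3.LpullQ (ι ≫ g) (hL _)).obj O)
    letI : Field (Y'.residueField (f' x)) := inferInstance
    obtain ⟨l⟩ := nonempty_Lpull_ODn g eO
    have hiso : IsIso ((Dual3.LpullQ ι' (hL ι')).map β) :=
      (isIso_bcMap_vert adj adj' adjz adjg adjg' Aι Aι' Ah Ah' hsq.w hk.w htot.w rfl rfl O (hθt _)
        hξ hξk hξt).2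
      ((dualBC_field (K := Y'.residueField (f' x)) (ι ≫ g)).iso htot adj adjz Ah Ah' O n eO hξt)
      ((dualBC_field (K := Y'.residueField (f' x)) ι).iso hk adj' adjz Aι Aι' _ n l hξk)
    haveI : IsIso ((DCoh.Lpull ι').map β.hom) :=
      haveI := hiso
      inferInstanceAs (IsIso ((DCoh.IsQCohD (X := Z)).ι.map ((Dual3.LpullQ ι' (hL ι')).map β)))
    letI := BC.commShiftLpull ι'
    haveI := BC.isTriangulated_Lpull ι'
    have hz : IsZero ((DCoh.Lpull ι').obj C) :=
      (Triangle.isZero₃_iff_isIso₁ _ ((DCoh.Lpull ι').map_distinguished _ hT)).2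
        (inferInstanceAs (IsIso ((DCoh.Lpull ι').map β.hom)))
    let t : Spec (X'.residueField x) ⟶ Z := hk.lift (X'.fromSpecResidueField x) (Spec.map (f'.residueFieldMap x))
      (Scheme.Hom.SpecMap_residueFieldMap_fromSpecResidueField f' x).symm
    have et : t ≫ ι' = X'.fromSpecResidueField x := hk.lift_fst _ _ _
    let c : DCoh.Lpull ι' ⋙ DCoh.Lpull t ≅ DCoh.Lpull (X'.fromSpecResidueField x) :=
      (((BC.adj ι').comp (BC.adj t)).ofNatIsoRight (BC.cR et)).leftAdjointUniq (BC.adj _)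
    haveI : (DCoh.Lpull t).PreservesZeroMorphisms :=
      haveI : (DCoh.Lpull t).IsLeftAdjoint := ⟨_, ⟨BC.adj t⟩⟩
      inferInstance
    exact ((DCoh.Lpull t).map_isZero hz).of_iso (c.app C).symm

end Groth.L29.BCAdj
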