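import Groth.Agent.L29.BCAdj.AdjClosedFin
import Groth.Agent.L29.BCAdj.AdjOpen
import Groth.Agent.L29.BC.PerfMorTor
import Groth.Agent.S3618
import Groth.Agent.S3527
import Groth.Agent.S1766

/-!
Base change of relative dualizing complexes of flat proper morphisms along arbitrary morphisms of finite type.
-/

set_option autoImplicit false
set_option linter.style.haveILetI false
set_option backward.defeqAttrib.useBackward true
set_option backward.isDefEq.respectTransparency false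
set_option backward.isDefEq.respectTransparency.types false

universe u

open CategoryTheory CategoryTheory.Limits AlgebraicGeometry

attribute [local instance] HasDerivedCategory.standard

noncomputable section

namespace Groth.L29.BCAdj

open Groth.L00 Groth.L29.DC Groth.L29.BC.Paste

variable {X Y X' Y' X'' Y'' : Scheme.{u}} {f : X ⟶ Y} {g : Y' ⟶ Y} {g' : X' ⟶ X} {f' : X' ⟶ Y'}

/-- base change holds in squares with flat vertical morphism -/
theorem BC_flat_vert [DCoh.HasRpush f] [DCoh.HasRpush g] [DCoh.HasRpush f'] [DCoh.HasRpush g']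
    [DCoh.HasLpull g] [DCoh.HasLpull g'] (hsq : IsPullback g' f' f g) [Flat f] [QuasiCompact f] [QuasiSeparated f] :
    BC.BC hsq.w := by
  refine BC.BC_of_torIndependent hsq fun U hU U' hU' hle V hV hVU i hi => ?_
  letI := (g.appLE U U' hle).hom.toAlgebra
  letI := (f.appLE U V hVU).hom.toAlgebra
  haveI : Module.Flat Γ(Y, U) Γ(X, V) :=
    RingHom.flat_algebraMap_iff.1 (HasRingHomProperty.appLE (P := @Flat) f inferInstance ⟨U, hU⟩ ⟨V, hV⟩ hVU)
  exact (Groth.Agent.S3527.result Γ(Y, U) Γ(X, V) Γ(Y', U') i hi).2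

set_option maxHeartbeats 1600000 in
/-- pasting of base change maps of right adjoints along the base -/
theorem isIso_bcMap_vert {k : Y'' ⟶ Y'} {k' : X'' ⟶ X'} {f'' : X'' ⟶ Y''} {h : Y'' ⟶ Y} {h' : X'' ⟶ X}
    [DCoh.HasRpush f] [DCoh.HasRpush g] [DCoh.HasRpush f'] [DCoh.HasRpush g']
    [DCoh.HasRpush f''] [DCoh.HasRpush k] [DCoh.HasRpush k'] [DCoh.HasRpush h] [DCoh.HasRpush h']
    [DCoh.HasLpull g] [DCoh.HasLpull g'] [DCoh.HasLpull k] [DCoh.HasLpull k'] [DCoh.HasLpull h] [DCoh.HasLpull h']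
    {hf : DCoh.RpushPreservesQCoh f} {hf' : DCoh.RpushPreservesQCoh f'} {hf'' : DCoh.RpushPreservesQCoh f''}
    {hg : DCoh.RpushPreservesQCoh g} {hg' : DCoh.RpushPreservesQCoh g'}
    {hk : DCoh.RpushPreservesQCoh k} {hk' : DCoh.RpushPreservesQCoh k'}
    {hh : DCoh.RpushPreservesQCoh h} {hh' : DCoh.RpushPreservesQCoh h'}
    {hLg : Dual3.LpullPreservesQCoh g} {hLg' : Dual3.LpullPreservesQCoh g'}
    {hLk : Dual3.LpullPreservesQCoh k} {hLk' : Dual3.LpullPreservesQCoh k'}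
    {hLh : Dual3.LpullPreservesQCoh h} {hLh' : Dual3.LpullPreservesQCoh h'}
    {a : DCoh.DQCoh Y ⥤ DCoh.DQCoh X} {a' : DCoh.DQCoh Y' ⥤ DCoh.DQCoh X'}
    {a'' : DCoh.DQCoh Y'' ⥤ DCoh.DQCoh X''}
    (adj : DCoh.RpushQ f hf ⊣ a) (adj' : DCoh.RpushQ f' hf' ⊣ a') (adj'' : DCoh.RpushQ f'' hf'' ⊣ a'')
    (adjg : Dual3.LpullQ g hLg ⊣ DCoh.RpushQ g hg) (adjg' : Dual3.LpullQ g' hLg' ⊣ DCoh.RpushQ g' hg')
    (Ak : Dual3.LpullQ k hLk ⊣ DCoh.RpushQ k hk) (Ak' : Dual3.LpullQ k' hLk' ⊣ DCoh.RpushQ k' hk')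
    (Ah : Dual3.LpullQ h hLh ⊣ DCoh.RpushQ h hh) (Ah' : Dual3.LpullQ h' hLh' ⊣ DCoh.RpushQ h' hh')
    (w₁ : g' ≫ f = f' ≫ g) (w₂ : k' ≫ f' = f'' ≫ k) (w : h' ≫ f = f'' ≫ h) (hd : k ≫ g = h) (hd' : k' ≫ g' = h')
    (K : DCoh.DQCoh Y) (hθ : IsIso (bc Ah Ah' (eQ hf hf'' hh hh' w) (a.obj K)))
    (hξ₁ : IsIso (Dual3.xi adj adj' (eQ hf hf' hg hg' w₁) ((Dual3.LpullQ g hLg).obj K)))
    (hξ₂ : IsIso (Dual3.xi adj' adj'' (eQ hf' hf'' hk hk' w₂)
      ((Dual3.LpullQ k hLk).obj ((Dual3.LpullQ g hLg).obj K))))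
    (hξ : IsIso (Dual3.xi adj adj'' (eQ hf hf'' hh hh' w) ((Dual3.LpullQ h hLh).obj K))) :
    (IsIso (Dual3.bcMap adj adj' (eQ hf hf' hg hg' w₁) adjg adjg' K hξ₁) →
      IsIso (Dual3.bcMap adj' adj'' (eQ hf' hf'' hk hk' w₂) Ak Ak' ((Dual3.LpullQ g hLg).obj K) hξ₂) →
      IsIso (Dual3.bcMap adj adj'' (eQ hf hf'' hh hh' w) Ah Ah' K hξ)) ∧
    (IsIso (Dual3.bcMap adj adj'' (eQ hf hf'' hh hh' w) Ah Ah' K hξ) →
      IsIso (Dual3.bcMap adj' adj'' (eQ hf' hf'' hk hk' w₂) Ak Ak' ((Dual3.LpullQ g hLg).obj K) hξ₂) →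
      IsIso ((Dual3.LpullQ k' hLk').map (Dual3.bcMap adj adj' (eQ hf hf' hg hg' w₁) adjg adjg' K hξ₁))) := by
  haveI := hθ
  set β₁ := Dual3.bcMap adj adj' (eQ hf hf' hg hg' w₁) adjg adjg' K hξ₁
  set β₂ := Dual3.bcMap adj' adj'' (eQ hf' hf'' hk hk' w₂) Ak Ak' ((Dual3.LpullQ g hLg).obj K) hξ₂
  set β₃ := Dual3.bcMap adj adj'' (eQ hf hf'' hh hh' w) Ah Ah' K hξ
  let c := cQ hk hg hh hd
  let c' := cQ hk' hg' hh' hd'
  have T₁ : Mate.Tr adj adj' (eQ hf hf' hg hg' w₁) adjg adjg' K β₁ := Mate.tr_bcMap adj adj' _ adjg adjg' K hξ₁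
  have T₂ : Mate.Tr adj' adj'' (eQ hf' hf'' hk hk' w₂) Ak Ak' _ β₂ := Mate.tr_bcMap adj' adj'' _ Ak Ak' _ hξ₂
  have T₃ : Mate.Tr adj adj'' (eQ hf hf'' hh hh' w) Ah Ah' K β₃ := Mate.tr_bcMap adj adj'' _ Ah Ah' K hξ
  have T := Mate.Tr.vert T₁ T₂ c c' (eQ hf hf'' hh hh' w)
    (fun Z => ObjectProperty.hom_ext _ (hcomp_vert w₁ w₂ w hd hd' Z.obj))
  have heq := (T.congr Ah Ah').unique T₃
  constructor
  · intro h₁ h₂
    rw [← heq]
    infer_instance
  · intro h₃ h₂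
    rw [← heq] at h₃
    haveI := h₃
    haveI : IsIso (((Dual3.LpullQ k' hLk').map β₁ ≫ β₂) ≫
        a''.map (((adjComp adjg Ak c).leftAdjointUniq Ah).hom.app K)) :=
      IsIso.of_isIso_comp_left (((adjComp adjg' Ak' c').leftAdjointUniq Ah').inv.app (a.obj K)) _
    haveI : IsIso ((Dual3.LpullQ k' hLk').map β₁ ≫ β₂) :=
      IsIso.of_isIso_comp_right _ (a''.map (((adjComp adjg Ak c).leftAdjointUniq Ah).hom.app K))
    exact IsIso.of_isIso_comp_right _ β₂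

variable [DCoh.HasRpush f] [DCoh.HasRpush g] [DCoh.HasRpush f'] [DCoh.HasRpush g']
  {hf : DCoh.RpushPreservesQCoh f} {hf' : DCoh.RpushPreservesQCoh f'}
  {hg : DCoh.RpushPreservesQCoh g} {hg' : DCoh.RpushPreservesQCoh g'}
  [DCoh.HasLpull g] [DCoh.HasLpull g'] {hLg : Dual3.LpullPreservesQCoh g}
  {hLg' : Dual3.LpullPreservesQCoh g'}
  {a : DCoh.DQCoh Y ⥤ DCoh.DQCoh X} {a' : DCoh.DQCoh Y' ⥤ DCoh.DQCoh X'}
  (adj : DCoh.RpushQ f hf ⊣ a) (adj' : DCoh.RpushQ f' hf' ⊣ a')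
  (adjg : Dual3.LpullQ g hLg ⊣ DCoh.RpushQ g hg) (adjg' : Dual3.LpullQ g' hLg' ⊣ DCoh.RpushQ g' hg')

set_option maxHeartbeats 1600000 in
/-- base change of the relative dualizing complex along morphisms of finite type of affine bases -/
theorem isIso_bcMap_affine_ft [IsAffine Y] [IsAffine Y'] [IsNoetherian Y] [LocallyOfFiniteType g] [IsProper f]
    [Flat f] [LocallyOfFinitePresentation f] (hsq : IsPullback g' f' f g)
    (O : DCoh.DQCoh Y) (eO : O.obj ≅ DCoh.inD Y (Coh.structureModule Y))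
    (hξ : IsIso (Dual3.xi adj adj' (eQ hf hf' hg hg' hsq.w) ((Dual3.LpullQ g hLg).obj O))) :
    IsIso (Dual3.bcMap adj adj' (eQ hf hf' hg hg' hsq.w) adjg adjg' O hξ) := by
  haveI := fun {A B : Scheme.{u}} (h : A ⟶ B) => KFlat.hasLpull h
  haveI := fun {A B : Scheme.{u}} (h : A ⟶ B) => RpushQC.hasRpush h
  have hR : ∀ {A B : Scheme.{u}} (j : A ⟶ B) [QuasiCompact j] [QuasiSeparated j], DCoh.RpushPreservesQCoh j :=
    fun j _ _ K hK => RpushQC.isQCohD_Rpush j K hK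
  have hL : ∀ {A B : Scheme.{u}} (j : A ⟶ B), Dual3.LpullPreservesQCoh j := fun j K hK => isQCohD_Lpull j hK
  letI := g.appTop.hom.toAlgebra
  haveI : IsNoetherianRing Γ(Y, ⊤) := IsLocallyNoetherian.component_noetherian ⟨⊤, isAffineOpen_top Y⟩
  haveI : Algebra.FiniteType Γ(Y, ⊤) Γ(Y', ⊤) :=
    (HasRingHomProperty.iff_of_isAffine (P := @LocallyOfFiniteType)).1 (inferInstance : LocallyOfFiniteType g)
  obtain ⟨n, φ, hφ⟩ := Algebra.FiniteType.iff_quotient_mvPolynomial''.1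
    (inferInstance : Algebra.FiniteType Γ(Y, ⊤) Γ(Y', ⊤))
  -- the affine space
  let R : CommRingCat.{u} := CommRingCat.of (MvPolynomial (Fin n) Γ(Y, ⊤))
  let q : Γ(Y, ⊤) ⟶ R := CommRingCat.ofHom (algebraMap Γ(Y, ⊤) (MvPolynomial (Fin n) Γ(Y, ⊤)))
  let t : R ⟶ Γ(Y', ⊤) := CommRingCat.ofHom φ.toRingHom
  let p : Spec R ⟶ Y := Spec.map q ≫ Y.isoSpec.inv
  let j : Y' ⟶ Spec R := Y'.isoSpec.hom ≫ Spec.map t
  haveI : Flat (Spec.map q) := by
    rw [HasRingHomProperty.Spec_iff (P := @Flat)]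
    exact RingHom.flat_algebraMap_iff.2 inferInstance
  haveI : Flat p := inferInstance
  haveI : IsClosedImmersion (Spec.map t) := IsClosedImmersion.spec_of_surjective t hφ
  haveI : IsClosedImmersion j := inferInstance
  haveI : IsNoetherian (Spec R) := inferInstance
  have hjp : j ≫ p = g := by
    have h1 : q ≫ t = g.appTop := CommRingCat.hom_ext φ.comp_algebraMap
    simp only [j, p, Category.assoc]
    rw [← Spec.map_comp_assoc, h1, ← Category.assoc, Scheme.isoSpec_hom_naturality, Category.assoc,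
      Iso.hom_inv_id, Category.comp_id]
  let Z := Limits.pullback f p
  let p' : Z ⟶ X := pullback.fst f p
  let fP : Z ⟶ Spec R := pullback.snd f p
  have hP : IsPullback p' fP f p := IsPullback.of_hasPullback f p
  let j' : X' ⟶ Z := hP.lift g' (f' ≫ j) (by rw [Category.assoc, hjp, hsq.w])
  have ej' : j' ≫ p' = g' := hP.lift_fst _ _ _
  have htot : IsPullback (j' ≫ p') f' f (j ≫ p) := by rw [ej', hjp]; exact hsq
  have hJ : IsPullback j' f' fP j := IsPullback.of_right htot (hP.lift_snd _ _ _) hP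
  haveI : IsProper fP := MorphismProperty.of_isPullback hP inferInstance
  haveI : Flat fP := MorphismProperty.of_isPullback hP inferInstance
  haveI : LocallyOfFinitePresentation fP := MorphismProperty.of_isPullback hP inferInstance
  haveI : CompactSpace Z := QuasiCompact.compactSpace_of_compactSpace fP
  haveI : QuasiSeparatedSpace Z := quasiSeparatedSpace_of_quasiSeparated fP
  haveI : CompactSpace X := QuasiCompact.compactSpace_of_compactSpace f
  haveI : QuasiSeparatedSpace X := quasiSeparatedSpace_of_quasiSeparated f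
  haveI : IsAffineHom j' := MorphismProperty.of_isPullback hJ.flip inferInstance
  haveI : IsAffineHom p' := MorphismProperty.of_isPullback hP.flip inferInstance
  haveI := Groth.Agent.S1766.result Z (Spec R) fP (hR fP)
  let adjP := Adjunction.ofIsLeftAdjoint (DCoh.RpushQ fP (hR fP))
  let Ap := adjQ p (hR p) (hL p)
  let Ap' := adjQ p' (hR p') (hL p')
  let Aj := adjQ j (hR j) (hL j)
  let Aj' := adjQ j' (hR j') (hL j')
  have hθp := isIso_bcQ (hf := hf) (hf' := hR fP) Ap Ap' (BC.BC_flat hP)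
  have hθj := isIso_bcQ (hf := hR fP) (hf' := hf') Aj Aj' (BC_flat_vert hJ)
  have hθ := isIso_bcQ (hf := hf) (hf' := hf') adjg adjg' (BC_flat_vert hsq)
  refine (isIso_bcMap_vert adj adjP adj' Ap Ap' Aj Aj' adjg adjg' hP.w hJ.w hsq.w hjp ej' O (hθ _)
    (Mate.isIso_xi adj adjP _ Ap Ap' hθp _) (Mate.isIso_xi adjP adj' _ Aj Aj' hθj _) hξ).1 ?_ ?_
  · refine isIso_bcMap_affine Ap Ap' hP adj adjP hθp O _ ?_
    intro hL' _ P hPP
    exact Groth.Agent.S3618.bij_affine_perfect p hL' _ _ (BC.isPerfect_Rpush f hPP) O.property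
  · obtain ⟨l⟩ := nonempty_Lpull_OD p
    haveI : IsLocallyNoetherian Y' := LocallyOfFiniteType.isLocallyNoetherian g
    haveI : IsNoetherian Y' := ⟨⟩
    exact isIso_bcMap_closed_noetherian adjP adj' Aj Aj' hJ _ 0
      ((DCoh.Lpull p).mapIso eO ≪≫ l ≪≫ ((shiftFunctorZero (DCoh.D (Spec R)) ℤ).app _).symm) _

set_option maxHeartbeats 1600000 in
/-- base change of the relative dualizing complex of a flat proper morphism along a morphism of finite type -/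
theorem isIso_bcMap_ft [IsNoetherian Y] [LocallyOfFiniteType g] [CompactSpace X'] [QuasiSeparatedSpace X']
    [IsProper f] [Flat f] [LocallyOfFinitePresentation f] (hsq : IsPullback g' f' f g)
    (O : DCoh.DQCoh Y) (eO : O.obj ≅ DCoh.inD Y (Coh.structureModule Y))
    (hξ : IsIso (Dual3.xi adj adj' (eQ hf hf' hg hg' hsq.w) ((Dual3.LpullQ g hLg).obj O))) :
    IsIso (Dual3.bcMap adj adj' (eQ hf hf' hg hg' hsq.w) adjg adjg' O hξ) := by
  haveI := fun {A B : Scheme.{u}} (h : A ⟶ B) => RpushQC.hasRpush h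
  haveI := fun {A B : Scheme.{u}} (h : A ⟶ B) => KFlat.hasLpull h
  haveI : IsProper f' := MorphismProperty.of_isPullback hsq inferInstance
  haveI : Flat f' := MorphismProperty.of_isPullback hsq inferInstance
  haveI : LocallyOfFinitePresentation f' := MorphismProperty.of_isPullback hsq inferInstance
  haveI : CompactSpace X := QuasiCompact.compactSpace_of_compactSpace f
  haveI : QuasiSeparatedSpace X := quasiSeparatedSpace_of_quasiSeparated f
  have hR : ∀ {A B : Scheme.{u}} (j : A ⟶ B) [QuasiCompact j] [QuasiSeparated j], DCoh.RpushPreservesQCoh j :=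
    fun j _ _ K hK => RpushQC.isQCohD_Rpush j K hK
  have hL : ∀ {A B : Scheme.{u}} (j : A ⟶ B), Dual3.LpullPreservesQCoh j := fun j K hK => isQCohD_Lpull j hK
  set β := Dual3.bcMap adj adj' (eQ hf hf' hg hg' hsq.w) adjg adjg' O hξ
  suffices IsIso β.hom by
    haveI : IsIso ((DCoh.IsQCohD (X := X')).ι.map β) := this
    exact isIso_of_reflects_iso β (DCoh.IsQCohD (X := X')).ι
  refine BC.isIso_of_Lpull_cover β.hom fun x => ?_
  obtain ⟨_, ⟨(V : Y.Opens), hV, rfl⟩, hyV, -⟩ :=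
    Y.isBasis_affineOpens.exists_subset_of_mem_open (Set.mem_univ (g (f' x))) isOpen_univ
  obtain ⟨_, ⟨(V' : Y'.Opens), hV', rfl⟩, hyV', hle⟩ :=
    Y'.isBasis_affineOpens.exists_subset_of_mem_open (show f' x ∈ g ⁻¹ᵁ V from hyV) (g ⁻¹ᵁ V).2
  haveI : IsAffine (V : Scheme.{u}) := hV
  haveI : IsAffine (V' : Scheme.{u}) := hV'
  haveI : CompactSpace (V : Scheme.{u}) := isCompact_iff_compactSpace.1 hV.isCompact
  haveI : CompactSpace (V' : Scheme.{u}) := isCompact_iff_compactSpace.1 hV'.isCompact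
  haveI : IsLocallyNoetherian (V : Scheme.{u}) := LocallyOfFiniteType.isLocallyNoetherian V.ι
  haveI : IsNoetherian (V : Scheme.{u}) := ⟨⟩
  let W := f ⁻¹ᵁ V
  let W' := f' ⁻¹ᵁ V'
  have h' : W' ≤ g' ⁻¹ᵁ W := fun z hz => by
    show f (g' z) ∈ V
    rw [← Scheme.Hom.comp_apply, hsq.w, Scheme.Hom.comp_apply]
    exact hle hz
  let k := g'.resLE W W' h'
  let g₀ := g.resLE V V' hle
  have ek : k ≫ W.ι = W'.ι ≫ g' := Scheme.Hom.resLE_comp_ι _ _
  have eg : g₀ ≫ V.ι = V'.ι ≫ g := Scheme.Hom.resLE_comp_ι _ _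
  have hk : IsPullback W'.ι (f' ∣_ V') f' V'.ι := (isPullback_morphismRestrict f' V').flip
  have hi : IsPullback W.ι (f ∣_ V) f V.ι := (isPullback_morphismRestrict f V).flip
  have htot : IsPullback (k ≫ W.ι) (f' ∣_ V') f (g₀ ≫ V.ι) := by
    rw [eg, ek]
    exact hk.paste_horiz hsq
  have hc₀ : IsPullback k (f' ∣_ V') (f ∣_ V) g₀ := IsPullback.of_right htot (by
    rw [← cancel_mono V.ι]
    simp only [Category.assoc, morphismRestrict_ι, eg]
    rw [reassoc_of% ek, hsq.w, morphismRestrict_ι_assoc]) hi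
  haveI : LocallyOfFiniteType g₀ :=
    haveI : LocallyOfFiniteType (g₀ ≫ V.ι) := by rw [eg]; infer_instance
    locallyOfFiniteType_of_comp g₀ V.ι
  haveI : CompactSpace (W' : Scheme.{u}) := isCompact_iff_compactSpace.1 (f'.isCompact_preimage hV'.isCompact)
  haveI : CompactSpace (W : Scheme.{u}) := isCompact_iff_compactSpace.1 (f.isCompact_preimage hV.isCompact)
  haveI : QuasiSeparatedSpace (W' : Scheme.{u}) := quasiSeparatedSpace_of_quasiSeparated W'.ι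
  haveI : QuasiSeparatedSpace (W : Scheme.{u}) := quasiSeparatedSpace_of_quasiSeparated W.ι
  haveI : IsLocallyNoetherian Y' := LocallyOfFiniteType.isLocallyNoetherian g
  haveI : QuasiCompact V'.ι := inferInstance
  haveI : IsProper (f ∣_ V) := IsZariskiLocalAtTarget.restrict ‹IsProper f› V
  haveI : Flat (f ∣_ V) := IsZariskiLocalAtTarget.restrict ‹Flat f› V
  haveI : LocallyOfFinitePresentation (f ∣_ V) :=
    IsZariskiLocalAtTarget.restrict ‹LocallyOfFinitePresentation f› V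
  haveI : QuasiCompact (g₀ ≫ V.ι) := inferInstance
  haveI : QuasiCompact (k ≫ W.ι) := inferInstance
  let fV := f ∣_ V
  let fV' := f' ∣_ V'
  obtain ⟨aV, ⟨adjV⟩⟩ : ∃ aV, Nonempty (DCoh.RpushQ fV (hR fV) ⊣ aV) := by
    haveI := Groth.Agent.S1766.result (W : Scheme.{u}) (V : Scheme.{u}) fV (hR fV)
    exact ⟨_, ⟨Adjunction.ofIsLeftAdjoint (DCoh.RpushQ fV (hR fV))⟩⟩
  obtain ⟨aV', ⟨adjV'⟩⟩ : ∃ aV', Nonempty (DCoh.RpushQ fV' (hR fV') ⊣ aV') := by
    haveI := Groth.Agent.S1766.result (W' : Scheme.{u}) (V' : Scheme.{u}) fV' (hR fV')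
    exact ⟨_, ⟨Adjunction.ofIsLeftAdjoint (DCoh.RpushQ fV' (hR fV'))⟩⟩
  let AV := adjQ V.ι (hR V.ι) (hL V.ι)
  let AW := adjQ W.ι (hR W.ι) (hL W.ι)
  let AV' := adjQ V'.ι (hR V'.ι) (hL V'.ι)
  let AW' := adjQ W'.ι (hR W'.ι) (hL W'.ι)
  let A₀ := adjQ g₀ (hR g₀) (hL g₀)
  let A₀' := adjQ k (hR k) (hL k)
  let Ah := adjQ (g₀ ≫ V.ι) (hR _) (hL _)
  let Ah' := adjQ (k ≫ W.ι) (hR _) (hL _)
  have hθi := BCAdj.isIso_bcQ (hf := hf) (hf' := hR fV) AV AW (BC.BC_flat hi)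
  have hθk := BCAdj.isIso_bcQ (hf := hf') (hf' := hR fV') AV' AW' (BC.BC_flat hk)
  have hθ₀ := BCAdj.isIso_bcQ (hf := hR fV) (hf' := hR fV') A₀ A₀' (BC_flat_vert hc₀)
  have hθt := BCAdj.isIso_bcQ (hf := hf) (hf' := hR fV') Ah Ah' (BC_flat_vert htot)
  have hξi := Mate.isIso_xi adj adjV _ AV AW hθi ((Dual3.LpullQ V.ι (hL V.ι)).obj O)
  have hξk := Mate.isIso_xi adj' adjV' _ AV' AW' hθk
    ((Dual3.LpullQ V'.ι (hL V'.ι)).obj ((Dual3.LpullQ g hLg).obj O))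
  have hξ₀ := Mate.isIso_xi adjV adjV' _ A₀ A₀' hθ₀
    ((Dual3.LpullQ g₀ (hL g₀)).obj ((Dual3.LpullQ V.ι (hL V.ι)).obj O))
  have hξt := Mate.isIso_xi adj adjV' _ Ah Ah' hθt ((Dual3.LpullQ (g₀ ≫ V.ι) (hL _)).obj O)
  have ht : IsIso (Dual3.bcMap adj adjV' _ Ah Ah' O hξt) := by
    refine (isIso_bcMap_vert adj adjV adjV' AV AW A₀ A₀' Ah Ah' hi.w hc₀.w htot.w rfl rfl O (hθt _)
      hξi hξ₀ hξt).1 ?_ ?_
    · exact isIso_bcMap_open V hV.isCompact adj adjV _ AV AW (fun P hP => BC.isPerfect_Rpush f hP) O hξi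
    · obtain ⟨l⟩ := nonempty_Lpull_OD V.ι
      exact isIso_bcMap_affine_ft adjV adjV' A₀ A₀' hc₀ _ ((DCoh.Lpull V.ι).mapIso eO ≪≫ l) hξ₀
  have hiso := (isIso_bcMap_vert adj adj' adjV' adjg adjg' AV' AW' Ah Ah' hsq.w hk.w htot.w eg.symm ek.symm O (hθt _)
    hξ hξk hξt).2 ht
      (isIso_bcMap_open V' hV'.isCompact adj' adjV' _ AV' AW' (fun P hP => BC.isPerfect_Rpush f' hP) _ hξk)
  exact ⟨W', inferInstance, hyV',
    inferInstanceAs (IsIso ((DCoh.IsQCohD (X := (W' : Scheme.{u}))).ι.map ((Dual3.LpullQ W'.ι (hL W'.ι)).map β)))⟩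

end Groth.L29.BCAdj
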