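import Groth.Agent.L29.BCAdj.HomFlat

/-!
Flat base change of Hom groups on quasi-compact quasi-separated schemes over affine bases.
-/

set_option autoImplicit false
set_option backward.defeqAttrib.useBackward true
set_option backward.isDefEq.respectTransparency false
set_option backward.isDefEq.respectTransparency.types false

universe u

open CategoryTheory CategoryTheory.Limits CategoryTheory.Pretriangulated AlgebraicGeometry
open scoped TensorProduct

attribute [local instance] HasDerivedCategory.standard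

namespace Groth.L29.BCAdj

open Groth.L00 Groth.L29.DC

variable {A B : Type u} [CommRing A] [CommRing B] [Algebra A B] [Module.Flat A B]
  {X X' : Scheme.{u}} [X.Over (Spec (CommRingCat.of A))] [X'.Over (Spec (CommRingCat.of B))]
  {g' : X' ⟶ X} [DCoh.HasRpush g'] [DCoh.HasLpull g']
  (hc : IsPullback g' (X' ↘ Spec (CommRingCat.of B)) (X ↘ Spec (CommRingCat.of A))
    (Spec.map (CommRingCat.ofHom (algebraMap A B))))

/-- restriction to an open is linear -/
theorem linear_res {R : Type u} [CommRing R] {Z : Scheme.{u}} [Z.Over (Spec (CommRingCat.of R))] (V : Z.Opens) :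
    letI : (V : Scheme.{u}).Over (Spec (CommRingCat.of R)) := ⟨V.ι ≫ (Z ↘ Spec (CommRingCat.of R))⟩
    (Gen.res V).Linear R := by
  letI : (V : Scheme.{u}).Over (Spec (CommRingCat.of R)) := ⟨V.ι ≫ (Z ↘ Spec (CommRingCat.of R))⟩
  have hsq : V.ι ≫ (Z ↘ Spec (CommRingCat.of R)) =
      ((V : Scheme.{u}) ↘ Spec (CommRingCat.of R)) ≫ Spec.map (CommRingCat.ofHom (RingHom.id R)) := by
    simp only [CommRingCat.ofHom_id, Spec.map_id, Category.comp_id]
    rfl
  haveI := RpushQC.hasRpush V.ι
  have h : SL (C := DCoh.D Z) (C' := DCoh.D (V : Scheme.{u})) (RingHom.id R) (Gen.res V) :=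
    SL.leftAdjoint (Gen.adj V) fun r v => Rpush_smul (RingHom.id R) V.ι hsq r v
  exact ⟨fun f r => h.map_smul r f⟩

/-- restriction is bijective on maps to local objects -/
theorem bijective_res {Z : Scheme.{u}} (V : Z.Opens) {P y : DCoh.D Z} (hy : Gen.IsLoc V y) :
    Function.Bijective fun v : P ⟶ y => (Gen.res V).map v := by
  haveI : IsIso ((Gen.adj V).unit.app y) := hy
  have h : (fun v : P ⟶ y => (Gen.res V).map v) =
      ((Gen.adj V).homEquiv P _).symm ∘ fun v => v ≫ (Gen.adj V).unit.app y := funext fun v => by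
    apply ((Gen.adj V).homEquiv _ _).injective
    rw [Function.comp_apply, Equiv.apply_symm_apply, Adjunction.homEquiv_unit]
    exact ((Gen.adj V).unit.naturality v).symm
  rw [h]
  exact (Equiv.bijective _).comp ⟨fun a b hab => (cancel_mono _).1 hab, fun u => ⟨u ≫ inv ((Gen.adj V).unit.app y), by simp⟩⟩

include hc in
set_option maxHeartbeats 1600000 in
/-- flat base change of maps out of perfect objects -/
theorem bij_perfect [CompactSpace X] [QuasiSeparatedSpace X]
    (hL : SL (C := DCoh.D X) (C' := DCoh.D X') (algebraMap A B) (DCoh.Lpull g')) [(DCoh.Lpull g').Additive]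
    {P x : DCoh.D X} (hP : DCoh.IsPerfect P) (hx : DCoh.IsQCohD x) : Bij (DCoh.Lpull g') hL P x := by
  haveI := fun {A B : Scheme.{u}} (h : A ⟶ B) => RpushQC.hasRpush h
  haveI := fun {A B : Scheme.{u}} (h : A ⟶ B) => KFlat.hasLpull h
  letI := BC.commShiftLpull g'
  haveI := BC.isTriangulated_Lpull g'
  haveI hS : Flat (Spec.map (CommRingCat.ofHom (algebraMap A B))) := by
    rw [HasRingHomProperty.Spec_iff (P := @Flat)]
    exact RingHom.flat_algebraMap_iff.2 inferInstance
  haveI : Flat g' := MorphismProperty.of_isPullback hc.flip hS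
  haveI : IsAffineHom g' := MorphismProperty.of_isPullback hc.flip inferInstance
  let R : DCoh.D X → Prop := fun y => ∀ (n : ℤ) (P : DCoh.D X), DCoh.IsPerfect P → Bij (DCoh.Lpull g') hL P (y⟦n⟧)
  -- objects pushed forward from affine opens
  have hpush : ∀ (V : X.Opens), IsAffineOpen V → ∀ N : DCoh.D (V : Scheme.{u}), DCoh.IsQCohD N →
      R ((Gen.push V).obj N) := by
    intro V hV N hN n P hP
    haveI : IsAffine (V : Scheme.{u}) := hV
    let W := g' ⁻¹ᵁ V
    let k := g' ∣_ V
    haveI : IsAffine (W : Scheme.{u}) := hV.preimage g'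
    letI iV : (V : Scheme.{u}).Over (Spec (CommRingCat.of A)) := ⟨V.ι ≫ (X ↘ Spec (CommRingCat.of A))⟩
    letI iW : (W : Scheme.{u}).Over (Spec (CommRingCat.of B)) := ⟨W.ι ≫ (X' ↘ Spec (CommRingCat.of B))⟩
    haveI := linear_res (R := A) V
    haveI := linear_res (R := B) W
    have hk : IsPullback k W.ι V.ι g' := isPullback_morphismRestrict g' V
    have hc' : IsPullback k ((W : Scheme.{u}) ↘ Spec (CommRingCat.of B)) ((V : Scheme.{u}) ↘ Spec (CommRingCat.of A))
        (Spec.map (CommRingCat.ofHom (algebraMap A B))) := hk.paste_vert hc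
    have hL' : SL (C := DCoh.D (V : Scheme.{u})) (C' := DCoh.D (W : Scheme.{u})) (algebraMap A B) (DCoh.Lpull k) :=
      sl_Lpull _ k hc'.w
    haveI := RpushColim.additive_Rpush k
    haveI : (DCoh.Lpull k).Additive := (BC.adj k).left_adjoint_additive
    let c : DCoh.Lpull g' ⋙ Gen.res W ≅ Gen.res V ⋙ DCoh.Lpull k :=
      ((BC.adj g').comp (Gen.adj W)).leftAdjointUniq
        (((Gen.adj V).comp (BC.adj k)).ofNatIsoRight (BC.e (morphismRestrict_ι g' V).symm).symm)
    let y := ((Gen.push V).obj N)⟦n⟧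
    letI := Gen.commShiftRpush V.ι
    let ey : (Gen.push V).obj (N⟦n⟧) ≅ y := ((Gen.push V).commShiftIso n).app N
    have hNn : DCoh.IsQCohD (N⟦n⟧) := Gen.isQCohD_shift hN n
    have hy : Gen.IsLoc V y := Gen.isLoc_of_iso ey (Gen.isLoc_push V _)
    haveI : QuasiCompact V.ι := by
      haveI : CompactSpace (V : Scheme.{u}) := isCompact_iff_compactSpace.1 hV.isCompact
      infer_instance
    haveI := BC.BC_flat hk (N⟦n⟧) hNn
    have hy' : Gen.IsLoc W ((DCoh.Lpull g').obj y) :=
      Gen.isLoc_of_iso ((asIso (BC.β hk.w (N⟦n⟧))).symm ≪≫ (DCoh.Lpull g').mapIso ey) (Gen.isLoc_push W _)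
    have hyq : DCoh.IsQCohD ((Gen.res V).obj y) := by
      haveI := Gen.isIso_counit V.ι
      exact isQCohD_of_iso ((asIso ((Gen.adj V).counit.app (N⟦n⟧))).symm ≪≫ (Gen.res V).mapIso ey) hNn
    refine bij_of_square (L₂ := DCoh.Lpull k) (hL₂ := hL') ((Gen.res V).mapLinearMap A) (bijective_res V hy)
      (AddMonoidHom.mk' (fun w => c.inv.app P ≫ (Gen.res W).map w ≫ c.hom.app y) fun w w' => by
        simp [Functor.map_add]) ⟨fun w w' hw => ?_, fun w => ?_⟩ (fun b v => ?_)
      (bij_affine hc' hL' (Gen.isPerfect_restrictD V.ι hP) hyq)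
    · simp only [AddMonoidHom.mk'_apply, cancel_epi, cancel_mono] at hw
      exact (bijective_res W hy').injective hw
    · obtain ⟨w', hw'⟩ := (bijective_res W hy').surjective (c.hom.app P ≫ w ≫ c.inv.app y)
      exact ⟨w', by simp only [AddMonoidHom.mk'_apply]; rw [show (Gen.res W).map w' = _ from hw']; simp; exact Category.comp_id w⟩
    · simp only [AddMonoidHom.mk'_apply, Functor.map_smul, Linear.smul_comp, Linear.comp_smul]
      congr 1
      have h1 := c.hom.naturality v
      dsimp at h1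
      rw [h1]
      simp
  -- closure properties
  have hRiso : ∀ {a b : DCoh.D X}, (a ≅ b) → R a → R b := fun e h n P hP =>
    (h n P hP).of_iso_right _ _ ((CategoryTheory.shiftFunctor _ n).mapIso e)
  have hRsh : ∀ {a : DCoh.D X}, R a → ∀ j : ℤ, R (a⟦j⟧) := fun {a} h j n P hP =>
    (h (j + n) P hP).of_iso_right _ _ ((shiftFunctorAdd _ j n).app a)
  have hR3 : ∀ T : Triangle (DCoh.D X), T ∈ distTriang _ → R T.obj₁ → R T.obj₂ → R T.obj₃ :=
    fun T hT h₁ h₂ n P hP => Bij.third_right _ _ _ (Triangle.shift_distinguished _ hT n) _ (h₁ n P hP) (h₂ n P hP)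
      ((h₁ (n + 1) P hP).of_iso_right _ _ ((shiftFunctorAdd _ n (1 : ℤ)).app T.obj₁))
      ((h₂ (n + 1) P hP).of_iso_right _ _ ((shiftFunctorAdd _ n (1 : ℤ)).app T.obj₂))
  have main : ∀ (l : List X.affineOpens) (Ω : X.Opens), (∀ x : X, x ∈ Ω ∨ ∃ V ∈ l, x ∈ V.1) →
      ∀ E : DCoh.D X, DCoh.IsQCohD E → Gen.ZOn E Ω → R E := by
    intro l
    induction l with
    | nil =>
      intro Ω hΩ E _ hz n P _
      have h0 : IsZero E := Gen.isZero_of_cover fun x => ⟨Ω, (hΩ x).resolve_right (by simp), (Gen.isZero_res_iff Ω E).2 hz⟩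
      have h1 := (CategoryTheory.shiftFunctor (DCoh.D X) n).map_isZero h0
      refine ⟨fun a b _ => ?_, fun v => ⟨0, ((DCoh.Lpull g').map_isZero h1).eq_of_tgt _ _⟩⟩
      have h2 : ∀ z : B ⊗[A] (P ⟶ E⟦n⟧), z = 0 := fun z => by
        induction z using TensorProduct.induction_on with
        | zero => rfl
        | tmul b v => rw [h1.eq_of_tgt v 0, TensorProduct.tmul_zero]
        | add a c ha hc => rw [ha, hc, add_zero]
      rw [h2 a, h2 b]
    | cons V l ih =>
      intro Ω hΩ E hE hz
      haveI : IsAffine (V.1 : Scheme.{u}) := V.2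
      obtain ⟨C, a, d, hT⟩ := distinguished_cocone_triangle ((Gen.adj V.1).unit.app E)
      have hq : DCoh.IsQCohD ((Gen.push V.1).obj ((Gen.res V.1).obj E)) :=
        Gen.isQCohD_push V.2.isCompact (isQCohD_restrictD _ hE)
      have hC₁ : Gen.ZOn C V.1 := by
        rw [← Gen.isZero_res_iff]
        haveI := Gen.isIso_res_unit V.1 E
        exact (Triangle.isZero₃_iff_isIso₁ _ ((Gen.res V.1).map_distinguished _ hT)).2
          (show IsIso ((Gen.res V.1).map ((Gen.adj V.1).unit.app E)) from inferInstance)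
      have hC₂ : Gen.ZOn C Ω := Gen.zOn_third hT Ω hz (Gen.zOn_push _ Ω (by
        rw [Gen.zOn_restrictD]
        exact hz.mono (Set.image_preimage_subset _ _)))
      have hC : R C := by
        refine ih (Ω ⊔ V.1) (fun x => ?_) C (Gen.isQCohD_third _ hT hE hq) ?_
        · rcases hΩ x with h | ⟨W, hW, hx⟩
          · exact Or.inl (Or.inl h)
          · rcases List.mem_cons.1 hW with rfl | hW
            · exact Or.inl (Or.inr hx)
            · exact Or.inr ⟨W, hW, hx⟩
        · rw [TopologicalSpace.Opens.coe_sup]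
          exact hC₂.union hC₁
      have h := hR3 _ (rot_of_distTriang _ hT) (hpush V.1 V.2 _ (isQCohD_restrictD _ hE)) hC
      exact hRiso ((shiftFunctorCompIsoId (DCoh.D X) (1 : ℤ) (-1) (by omega)).app E) (hRsh h (-1))
  obtain ⟨t, ht⟩ := (isCompact_univ (X := X)).elim_finite_subcover (fun V : X.affineOpens => (V.1 : Set X))
    (fun V => V.1.2) fun y _ => by
      obtain ⟨_, ⟨V, hV, rfl⟩, hxV, -⟩ := X.isBasis_affineOpens.exists_subset_of_mem_open (Set.mem_univ y) isOpen_univ
      exact Set.mem_iUnion.2 ⟨⟨V, hV⟩, hxV⟩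
  refine ((main t.toList ⊥ (fun y => Or.inr ?_) x hx fun i y hy => absurd hy (by simp)) 0 P hP).of_iso_right _ _
    ((shiftFunctorZero (DCoh.D X) ℤ).app x)
  obtain ⟨V, hV, hxV⟩ := Set.mem_iUnion₂.1 (ht (Set.mem_univ y))
  exact ⟨V, Finset.mem_toList.2 hV, hxV⟩

end Groth.L29.BCAdj
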