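import Groth.Agent.L29.AdjSquare
import Groth.Agent.L29.BC.Paste
import Mathlib.CategoryTheory.Yoneda

/-!
The mates of a base change isomorphism.
-/

set_option autoImplicit false

open CategoryTheory

namespace Groth.L29.BCAdj.Mate

open Groth.L29.AdjSquare Groth.L29.BC.Paste

variable {CX CY CX' CY' : Type*} [Category CX] [Category CY] [Category CX'] [Category CY']
variable {F : CX ⥤ CY} {F' : CX' ⥤ CY'} {G : CY' ⥤ CY} {G' : CX' ⥤ CX}
variable {a : CY ⥤ CX} {a' : CY' ⥤ CX'} {L : CY ⥤ CY'} {L' : CX ⥤ CX'}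
variable (adj : F ⊣ a) (adj' : F' ⊣ a') (e : G' ⋙ F ≅ F' ⋙ G) (adjg : L ⊣ G) (adjg' : L' ⊣ G')

/-- composition with `ξ` corresponds to precomposition with the base change map -/
lemma symm_comp_xi {Z : CX} {M : CY'} (v : L'.obj Z ⟶ a'.obj M) :
    (adj.homEquiv _ _).symm (adjg'.homEquiv _ _ v ≫ xi adj adj' e M) =
      adjg.homEquiv _ _ (bc adjg adjg' e Z ≫ (adj'.homEquiv _ _).symm v) := by
  rw [adjg.homEquiv_naturality_right, homEquiv_bc, adjg'.homEquiv_unit, adj.homEquiv_naturality_left_symm]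
  erw [Equiv.symm_apply_apply]
  rw [adj'.homEquiv_counit, Functor.map_comp, Functor.map_comp, Category.assoc, Category.assoc]
  congr 1
  have h := e.hom.naturality v
  dsimp at h
  rw [reassoc_of% h]

/-- if the base change maps are invertible then so is `ξ` -/
lemma isIso_xi (h : ∀ Z, IsIso (bc adjg adjg' e Z)) (M : CY') : IsIso (xi adj adj' e M) := by
  refine isIso_of_yoneda_map_bijective _ (fun Z => ?_)
  let Φ : (Z ⟶ G'.obj (a'.obj M)) ≃ (Z ⟶ a.obj (G.obj M)) :=
    (adjg'.homEquiv _ _).symm.trans ((adj'.homEquiv _ _).symm.trans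
      ((asIso (bc adjg adjg' e Z)).symm.homCongr (Iso.refl M) |>.trans ((adjg.homEquiv _ _).trans (adj.homEquiv _ _))))
  have hΦ : ∀ w, w ≫ xi adj adj' e M = Φ w := fun w => by
    apply (adj.homEquiv _ _).symm.injective
    obtain ⟨v, rfl⟩ := (adjg'.homEquiv _ _).surjective w
    rw [symm_comp_xi adj adj' e adjg adjg' v]
    simp [Φ]
  rw [show (fun w : Z ⟶ G'.obj (a'.obj M) => w ≫ xi adj adj' e M) = Φ from funext hΦ]
  exact Φ.bijective

/-- the transpose of the base change map of right adjoints -/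
lemma symm_bcMap (K : CY) (hξ : IsIso (xi adj adj' e (L.obj K))) [IsIso (bc adjg adjg' e (a.obj K))] :
    (adj'.homEquiv _ _).symm (L'.map (a.map (adjg.unit.app K)) ≫
        L'.map (@inv _ _ _ _ (xi adj adj' e (L.obj K)) hξ) ≫ adjg'.counit.app (a'.obj (L.obj K))) =
      inv (bc adjg adjg' e (a.obj K)) ≫ L.map (adj.counit.app K) := by
  rw [Adjunction.homEquiv_counit, IsIso.eq_inv_comp]
  exact trace_compat adj adj' e adjg adjg' K hξ

/-- composing the transpose with a map from the pullback -/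
lemma symm_comp_map (K : CY) {P : CX} (u : P ⟶ a.obj K) (β : L'.obj (a.obj K) ⟶ a'.obj (L.obj K))
    [IsIso (bc adjg adjg' e (a.obj K))]
    (hβ : (adj'.homEquiv _ _).symm β = inv (bc adjg adjg' e (a.obj K)) ≫ L.map (adj.counit.app K)) :
    bc adjg adjg' e P ≫ (adj'.homEquiv _ _).symm (L'.map u ≫ β) = L.map ((adj.homEquiv _ _).symm u) := by
  rw [adj'.homEquiv_naturality_left_symm, hβ]
  have hn : bc adjg adjg' e P ≫ F'.map (L'.map u) = L.map (F.map u) ≫ bc adjg adjg' e (a.obj K) := by
    apply (adjg.homEquiv _ _).injective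
    rw [adjg.homEquiv_naturality_right, homEquiv_bc, adjg.homEquiv_naturality_left, homEquiv_bc,
      ← Functor.map_comp_assoc]
    have h1 := adjg'.unit.naturality u
    dsimp at h1
    rw [h1, Functor.map_comp, Category.assoc]
    have h2 := e.hom.naturality (L'.map u)
    dsimp at h2
    rw [Category.assoc, h2]
  rw [reassoc_of% hn, IsIso.hom_inv_id_assoc, Adjunction.homEquiv_counit, Functor.map_comp]

end Groth.L29.BCAdj.Mate
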